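import Cfsg.Agent.Lib.WalterUse.Ward.Ree
import Cfsg.Agent.Lib.Walter.Ab.Main
import Cfsg.Agent.Lib.Walter.Main
import Cfsg.Agent.Lib.J1.Order
import Mathlib.LinearAlgebra.Projectivization.Action

/-!
The simple groups with abelian Sylow 2-subgroups are doubly transitive, except `J₁`.
-/

set_option autoImplicit false
set_option linter.unusedSectionVars false
set_option linter.style.haveILetI false

namespace CfsgLib.WalterUse.Ward

open Cfsg CfsgLib CfsgLib.WalterUse

universe u

local notation "PSL₂[" K "]" => Matrix.ProjectiveSpecialLinearGroup (Fin 2) K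

theorem abKind_of {G : Type u} [Group G] [Fintype G] [IsSimpleGroup G] (hG : ¬ IsMulCommutative G) (S : Sylow 2 G)
    (hS : IsMulCommutative (S : Subgroup G)) : AbKind G := by
  refine abKind (fun {X} _ _ _ hX T hT => ?_) (fun X _ _ => CfsgLib.Walter.p_all X) hG S hS
  haveI : Fact (Nat.Prime 2) := ⟨Nat.prime_two⟩
  refine CfsgLib.WalterAb.Listed.orders (CfsgLib.WalterAb.listed_of_P (fun Y _ _ => CfsgLib.Walter.p_all Y) X ‹_› hX
    fun Q => ⟨⟨fun a b => ?_⟩⟩)
  apply (Sylow.equiv Q T).injective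
  rw [map_mul, map_mul]
  exact hT.1.comm _ _

theorem card_of_isoJ1 {G : Type u} [Group G] (h : Cfsg.Spor.IsoJ1 G) : Nat.card G = 175560 := by
  obtain ⟨e⟩ : Nonempty (G ≃* ↥Cfsg.Spor.J1) := h
  rw [Nat.card_congr e.toEquiv, J1.card_J1]

open scoped LinearAlgebra.Projectivization in
/-- `PSL₂(q)` is doubly transitive on the projective line. -/
theorem psl_two_transitive {G : Type u} [Group G] {F : Type} [Field F] [Fintype F] (e : G ≃* PSL₂[F]) :
    ∃ (Ω : Type) (_ : Fintype Ω) (_ : MulAction G Ω),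
      FaithfulSMul G Ω ∧ MulAction.IsMultiplyPretransitive G Ω 2 := by
  classical
  haveI : Finite (ℙ F (Fin 2 → F)) := inferInstance
  refine ⟨ℙ F (Fin 2 → F), Fintype.ofFinite _, MulAction.compHom _ e.toMonoidHom, ?_, ?_⟩
  · letI : MulAction G (ℙ F (Fin 2 → F)) := MulAction.compHom _ e.toMonoidHom
    exact ⟨fun {a b} h => e.injective (eq_of_smul_eq_smul (α := ℙ F (Fin 2 → F)) h)⟩
  · letI : MulAction G (ℙ F (Fin 2 → F)) := MulAction.compHom _ e.toMonoidHom
    have h := Projectivization.specialLinearGroup_is_two_pretransitive F (Fin 2 → F)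
    rw [MulAction.is_two_pretransitive_iff] at h ⊢
    intro a b c d hab hcd
    obtain ⟨g, g1, g2⟩ := h hab hcd
    obtain ⟨x, hx⟩ : ∃ x : G, e x = (Matrix.SpecialLinearGroup.toLin'_equiv.symm g : Matrix.SpecialLinearGroup (Fin 2) F) :=
      ⟨e.symm _, e.apply_symm_apply _⟩
    refine ⟨x, ?_, ?_⟩
    all_goals
      refine Eq.trans (b := (e x) • (_ : ℙ F (Fin 2 → F))) rfl ?_
      rw [hx, Matrix.ProjectiveSpecialLinearGroup.smul_proj_mk, Projectivization.matrixSpecialLinearGroup_smul_def,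
        MulEquiv.apply_symm_apply]
      assumption

end CfsgLib.WalterUse.Ward
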