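import Mathlib.GroupTheory.Sylow
import Mathlib.GroupTheory.OrderOfElement

/-!
Ward's theory for the groups of the order of a small Ree group: counting tools.
-/

set_option autoImplicit false
set_option linter.unusedSectionVars false

namespace CfsgLib.WalterUse.Ward

universe u

variable {H : Type u} [Group H] [Finite H]

/-- A non-trivial element killed by `n`. -/
def IsTor (n : ℕ) (g : H) : Prop := g ≠ 1 ∧ g ^ n = 1

theorem isTor_conj {n : ℕ} (c g : H) : IsTor n (c * g * c⁻¹) ↔ IsTor n g := by
  unfold IsTor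
  rw [conj_pow, conj_eq_one_iff, ne_eq, conj_eq_one_iff]

/-- The conjugates of the non-trivial elements of `S`, when each meets `S` at most `e` times. -/
theorem card_conj_into {s e : ℕ} (S : Subgroup H) (hs : Nat.card S = s)
    (he : ∀ h ∈ S, h ≠ 1 → Nat.card {n : H // n⁻¹ * h * n ∈ S} ≤ e) :
    Nat.card H * (s - 1) ≤ e * Nat.card {x : H // IsTor s x} := by
  classical
  letI : Fintype H := Fintype.ofFinite H
  let A : Finset (H × S) := Finset.univ.filter fun p => p.2 ≠ 1
  let B : Finset H := Finset.univ.filter fun x => IsTor s x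
  have hA : A.card = Nat.card H * (s - 1) := by
    have : A = Finset.univ ×ˢ (Finset.univ.erase (1 : S)) := by
      ext ⟨a, b⟩; simp [A]
    rw [this, Finset.card_product, Finset.card_erase_of_mem (Finset.mem_univ _), Finset.card_univ, Finset.card_univ,
      ← Nat.card_eq_fintype_card, ← Nat.card_eq_fintype_card, hs]
  have hB : B.card = Nat.card {x : H // IsTor s x} := by
    rw [Nat.card_eq_fintype_card, Fintype.card_subtype]
  have hmap : ∀ p ∈ A, p.1 * (p.2 : H) * p.1⁻¹ ∈ B := by
    rintro ⟨g, h⟩ hp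
    simp only [A, Finset.mem_filter, Finset.mem_univ, true_and] at hp
    simp only [B, Finset.mem_filter, Finset.mem_univ, true_and, isTor_conj]
    exact ⟨fun e' => hp (Subtype.ext e'), by
      rw [← hs]; exact congrArg Subtype.val (pow_card_eq_one' (G := S) (x := h))⟩
  rw [← hA, ← hB]
  refine Finset.card_le_mul_card_image_of_maps_to hmap e fun b _ => ?_
  rcases (A.filter fun p => p.1 * (p.2 : H) * p.1⁻¹ = b).eq_empty_or_nonempty with h0 | ⟨⟨g₀, h₀⟩, h0⟩
  · simp [h0]
  simp only [A, Finset.mem_filter, Finset.mem_univ, true_and] at h0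
  have hb := h0.2
  refine le_trans ?_ (he (h₀ : H) h₀.2 fun e' => h0.1 (Subtype.ext e'))
  rw [Nat.card_eq_fintype_card, Fintype.card_subtype]
  refine Finset.card_le_card_of_injOn (fun p => g₀⁻¹ * p.1) ?_ ?_
  · rintro ⟨g, h⟩ hp
    simp only [A, Finset.coe_filter, Finset.mem_univ, true_and, Set.mem_setOf_eq, Finset.mem_filter] at hp ⊢
    rw [show (g₀⁻¹ * g)⁻¹ * (h₀ : H) * (g₀⁻¹ * g) = g⁻¹ * (g₀ * h₀ * g₀⁻¹) * g by group, hb, ← hp.2,
      show g⁻¹ * (g * (h : H) * g⁻¹) * g = h by group]
    exact h.2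
  · rintro ⟨g, h⟩ hp ⟨g', h'⟩ hp' e'
    simp only [A, Finset.coe_filter, Finset.mem_univ, true_and, Set.mem_setOf_eq, Finset.mem_filter] at hp hp'
    have hg : g = g' := mul_left_cancel (a := g₀⁻¹) e'
    subst hg
    have h2 := hp.2.trans hp'.2.symm
    exact Prod.ext rfl (Subtype.ext (mul_left_cancel (mul_right_cancel h2)))

variable {p : ℕ} [hp : Fact p.Prime]

/-- The `p`-elements are covered by the Sylow subgroups; equality forces trivial intersections. -/
theorem card_pElems :
    Nat.card {g : H // ∃ k, g ^ p ^ k = 1} + Nat.card (Sylow p H) ≤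
        (Nat.card (Sylow p H)) * p ^ (Nat.card H).factorization p + 1 ∧
      ((Nat.card (Sylow p H)) * p ^ (Nat.card H).factorization p + 1 ≤
          Nat.card {g : H // ∃ k, g ^ p ^ k = 1} + Nat.card (Sylow p H) →
        ∀ Q Q' : Sylow p H, ∀ x : H, x ∈ (Q : Subgroup H) → x ∈ (Q' : Subgroup H) → x ≠ 1 → Q = Q') := by
  classical
  letI : Fintype H := Fintype.ofFinite H
  set Np := Nat.card (Sylow p H)
  set c := p ^ (Nat.card H).factorization p with hc
  let X : Finset H := Finset.univ.filter fun g => ∃ k, g ^ p ^ k = 1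
  let S : Sylow p H → Finset H := fun Q => Finset.univ.filter fun g => g ∈ (Q : Subgroup H) ∧ g ≠ 1
  let I : Finset (Σ _ : Sylow p H, H) := Finset.univ.sigma S
  have hX : X.card = Nat.card {g : H // ∃ k, g ^ p ^ k = 1} := by
    rw [Nat.card_eq_fintype_card, Fintype.card_subtype]
  have h1X : (1 : H) ∈ X := by simp [X]
  have hS : ∀ Q : Sylow p H, (S Q).card + 1 = c := fun Q => by
    have e : S Q = (Finset.univ.filter fun g => g ∈ (Q : Subgroup H)).erase 1 := by
      ext g; simp [S, and_comm]
    rw [e, Finset.card_erase_add_one (by simp), ← Fintype.card_subtype, ← Nat.card_eq_fintype_card, hc]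
    exact Sylow.card_eq_multiplicity Q
  have hI : I.card + Np = Np * c := by
    rw [Finset.card_sigma]
    calc (∑ Q : Sylow p H, (S Q).card) + Np = ∑ Q : Sylow p H, ((S Q).card + 1) := by
          rw [Finset.sum_add_distrib, Finset.sum_const, Finset.card_univ, smul_eq_mul, mul_one,
            ← Nat.card_eq_fintype_card]
      _ = Np * c := by
          rw [Finset.sum_congr rfl fun Q _ => hS Q, Finset.sum_const, Finset.card_univ, smul_eq_mul,
            ← Nat.card_eq_fintype_card]
  have hsurj : X.erase 1 ⊆ I.image Sigma.snd := by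
    intro g hg
    simp only [X, Finset.mem_erase, Finset.mem_filter, Finset.mem_univ, true_and] at hg
    obtain ⟨hg1, k, hk⟩ := hg
    obtain ⟨i, -, hi⟩ := (Nat.dvd_prime_pow hp.out).mp (orderOf_dvd_of_pow_eq_one hk)
    obtain ⟨Q, hQ⟩ := (IsPGroup.of_card (n := i) (by rw [Nat.card_zpowers, hi]) :
      IsPGroup p (Subgroup.zpowers g)).exists_le_sylow
    exact Finset.mem_image.mpr ⟨⟨Q, g⟩, Finset.mem_sigma.mpr ⟨Finset.mem_univ _, by
      simp [S, hQ (Subgroup.mem_zpowers g), hg1]⟩, rfl⟩
  have hle : X.card ≤ I.card + 1 := by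
    have := (Finset.card_le_card hsurj).trans Finset.card_image_le
    rw [Finset.card_erase_of_mem h1X] at this
    omega
  refine ⟨by omega, fun heq Q Q' x hxQ hxQ' hx1 => ?_⟩
  have himg : (I.image Sigma.snd).card = I.card := by
    have := Finset.card_le_card hsurj
    rw [Finset.card_erase_of_mem h1X] at this
    have := Finset.card_image_le (s := I) (f := Sigma.snd)
    omega
  have hinj := Finset.card_image_iff.mp himg
  have := hinj (x₁ := ⟨Q, x⟩) (by simp [I, S, hxQ, hx1]) (x₂ := ⟨Q', x⟩) (by simp [I, S, hxQ', hx1]) rfl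
  exact congrArg Sigma.fst this

end CfsgLib.WalterUse.Ward
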