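import Cfsg.Agent.Lib.WalterUse.Ward.Struct
import Cfsg.Agent.Lib.WalterUse.ReeBound

/-!
Ward's theory for the groups of the order of a small Ree group: the values at `t` of all the characters, and the
impossibility of exponent three.
-/

set_option autoImplicit false
set_option linter.unusedSectionVars false
set_option linter.style.haveILetI false

namespace CfsgLib.WalterUse.Ward

open Cfsg CfsgLib CfsgLib.CharTheory CfsgLib.JankoThompson CfsgLib.WalterUse
open scoped ComplexConjugate Classical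

universe u v

variable {G : Type u} [Group G] [Fintype G] {L : Type v} [Group L] [Fintype L] {C : Cfg G L}

theorem sum_quart_orbit {χ : IrrCharacter G} {θ : C.D.Y →* ℂˣ} (hθ : θ ≠ 1) (μ₀ : Option (Fin 3))
    (h1 : ∀ θ' : C.D.Y →* ℂˣ, θ' ≠ 1 → (∀ s, C.thAct s θ ≠ θ') → ∀ μ, C.vc μ θ' χ = 0)
    (h2 : ∀ μ, μ ≠ μ₀ → C.vc μ θ χ = 0) :
    ∑ θ' : C.D.Y →* ℂˣ, C.vq θ' χ = (if μ₀ = none then 6 else -2) * C.vc μ₀ θ χ := by
  have hs : ∀ s : Fin 3 × Fin 2,
      C.vq (C.thAct s θ) χ = mu (muStep^[(s.1 : ℕ)] μ₀) pt * C.vc μ₀ θ χ := by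
    intro s
    rw [Cfg.vq, ← Fintype.sum_bijective _ (muStep_iterate_bijective s.1)
      (fun μ => mu (muStep^[(s.1 : ℕ)] μ) pt * C.vc μ θ χ) _ (fun μ => by rw [C.vc_act]),
      Finset.sum_eq_single μ₀ (fun μ _ hμ => by rw [h2 μ hμ, mul_zero]) (by simp)]
  rw [← Fintype.sum_of_injective (fun s => C.thAct s θ) (fun s s' h => C.thAct_inj hθ h)
    (fun s => mu (muStep^[(s.1 : ℕ)] μ₀) pt * C.vc μ₀ θ χ) (fun θ' => C.vq θ' χ) ?_
    (fun s => (hs s).symm), ← Finset.sum_mul, sum_mu_iterate]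
  intro θ' hθ'
  rcases eq_or_ne θ' 1 with rfl | h
  · simp [Cfg.vq, C.vc_trivial]
  · simp [Cfg.vq, h1 θ' h fun s hs => hθ' ⟨s, hs⟩]

theorem sum_dual_ne {θ : C.D.Z →* ℂˣ} (h : θ ≠ 1) : ∑ k : C.D.Z, (θ k : ℂ) = 0 := by
  obtain ⟨a, ha⟩ : ∃ a, θ a ≠ 1 := by
    by_contra hc
    push Not at hc
    exact h (MonoidHom.ext hc)
  have e : (θ a : ℂ) * ∑ k : C.D.Z, (θ k : ℂ) = ∑ k : C.D.Z, (θ k : ℂ) := by
    rw [Finset.mul_sum]
    refine Fintype.sum_equiv (Equiv.mulLeft a) _ _ fun k => ?_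
    rw [Equiv.coe_mulLeft, map_mul, Units.val_mul]
  by_contra hne
  exact ha (Units.ext (by rw [Units.val_one]; exact (mul_eq_right₀ hne).mp e))

theorem conj_dual (θ : C.D.Z →* ℂˣ) (k : C.D.Z) : conj (θ k : ℂ) = (θ k⁻¹ : ℂ) := by
  rw [map_inv, Units.val_inv_eq_inv_val, Complex.inv_eq_conj]
  refine Complex.norm_eq_one_of_pow_eq_one (n := orderOf k) ?_ (orderOf_pos k).ne'
  rw [← Units.val_pow_eq_pow_val, ← map_pow, pow_orderOf_eq_one, map_one, Units.val_one]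

namespace Sys

variable (S : Sys C)
include S

theorem psi_one (μ : C.D.Z →* ℂˣ) : indFun C.D.Z (fun h => (μ h : ℂ) - 1) 1 = 0 := by
  rw [indFun_apply_one]
  simp

/-- The value on the torus of a function induced from it. -/
theorem psi_torus (μ : C.D.Z →* ℂˣ) (h : C.D.Z) :
    indFun C.D.Z (fun h => (μ h : ℂ) - 1) (h : L) = (μ h : ℂ) + (μ h⁻¹ : ℂ) - 2 := by
  by_cases h1 : h = 1
  · rw [h1, Subgroup.coe_one, S.psi_one, inv_one, map_one, Units.val_one]
    norm_num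
  set g : C.D.Z → ℂ := fun h => (μ h : ℂ) - 1 with hg
  obtain ⟨w, hw, hinv⟩ := S.H.R.zf.inv
  have hh : (h : L) ≠ 1 := fun e => h1 (Subtype.ext e)
  set A : Finset L := Finset.univ.filter fun x => x ∈ C.D.Z with hA
  set B : Finset L := Finset.univ.filter fun x => x * w ∈ C.D.Z with hB
  have hzodd := S.H.R.z_odd
  have hwZ : w ∉ C.D.Z := fun hm => by
    have h2 := Subgroup.orderOf_dvd_natCard C.D.Z hm
    rw [hw, C.D.cardZ] at h2
    exact Nat.not_even_iff_odd.mpr hzodd (even_iff_two_dvd.mpr h2)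
  have hAc : A.card = C.D.z := by
    rw [hA, ← Fintype.card_subtype, ← Nat.card_eq_fintype_card, ← C.D.cardZ]
  have hBc : B.card = C.D.z := by
    rw [← hAc]
    refine Finset.card_nbij' (fun x => x * w) (fun x => x * w⁻¹) ?_ ?_ ?_ ?_
    · intro x hx; simp only [hA, hB, Finset.coe_filter, Finset.mem_univ, true_and, Set.mem_setOf_eq] at hx ⊢; exact hx
    · intro x hx
      simp only [hA, hB, Finset.coe_filter, Finset.mem_univ, true_and, Set.mem_setOf_eq] at hx ⊢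
      rwa [inv_mul_cancel_right]
    · intro x _; simp
    · intro x _; simp
  have hdis : Disjoint A B := Finset.disjoint_left.mpr fun x h1 h2 => hwZ (by
    have h1' := (Finset.mem_filter.mp h1).2
    have h2' := (Finset.mem_filter.mp h2).2
    simpa using mul_mem (inv_mem h1') h2')
  have hcZ : ∀ x : L, x⁻¹ * (h : L) * x ∈ C.D.Z → x ∈ A ∪ B := by
    intro x hx
    have hx' : x⁻¹ * (h : L) * x⁻¹⁻¹ ∈ C.D.Z := by rwa [inv_inv]
    rcases S.H.hw.conjZ (h : L) h.2 hh x⁻¹ hx' with e | e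
    · refine Finset.mem_union_left _ (Finset.mem_filter.mpr ⟨Finset.mem_univ _, S.H.R.zf.cent _ h.2 hh x ?_⟩)
      rw [inv_inv] at e
      calc x * (h : L) = x * (x⁻¹ * (h : L) * x) := by rw [e]
        _ = (h : L) * x := by group
    · refine Finset.mem_union_right _ (Finset.mem_filter.mpr ⟨Finset.mem_univ _, S.H.R.zf.cent _ h.2 hh _ ?_⟩)
      rw [inv_inv, ← hinv _ h.2] at e
      calc x * w * (h : L) = x * (w * (h : L) * w⁻¹) * w := by group
        _ = (h : L) * (x * w) := by rw [← e]; group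
  have hvA : ∀ x ∈ A, extendByZero C.D.Z g (x⁻¹ * (h : L) * x) = g h := fun x hx => by
    have hx' := (Finset.mem_filter.mp hx).2
    haveI := C.D.cycZ
    letI := IsCyclic.commGroup (α := C.D.Z)
    have e : x⁻¹ * (h : L) * x = (h : L) := by
      have := congrArg Subtype.val (mul_comm (⟨x, hx'⟩ : C.D.Z) h)
      rw [Subgroup.coe_mul, Subgroup.coe_mul] at this
      rw [mul_assoc, ← this, inv_mul_cancel_left]
    rw [e, extendByZero_coe]
  have hvB : ∀ x ∈ B, extendByZero C.D.Z g (x⁻¹ * (h : L) * x) = g h⁻¹ := fun x hx => by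
    have hx' := (Finset.mem_filter.mp hx).2
    haveI := C.D.cycZ
    letI := IsCyclic.commGroup (α := C.D.Z)
    have e : x⁻¹ * (h : L) * x = ((h⁻¹ : C.D.Z) : L) := by
      have := congrArg Subtype.val (mul_comm (⟨x * w, hx'⟩ : C.D.Z) h)
      rw [Subgroup.coe_mul, Subgroup.coe_mul] at this
      change x * w * (h : L) = (h : L) * (x * w) at this
      calc x⁻¹ * (h : L) * x = x⁻¹ * ((h : L) * (x * w)) * w⁻¹ := by group
        _ = w * (h : L) * w⁻¹ := by rw [← this]; group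
        _ = _ := hinv _ h.2
    rw [e, extendByZero_coe]
  show (Nat.card C.D.Z : ℂ)⁻¹ * ∑ x : L, extendByZero C.D.Z g (x⁻¹ * (h : L) * x) = _
  rw [← Finset.sum_subset (Finset.subset_univ (A ∪ B)) fun x _ hx =>
      extendByZero_of_not_mem _ _ fun hm => hx (hcZ x hm),
    Finset.sum_union hdis, Finset.sum_congr rfl hvA, Finset.sum_congr rfl hvB, Finset.sum_const, Finset.sum_const,
    hAc, hBc, C.D.cardZ, nsmul_eq_mul, nsmul_eq_mul, ← mul_add,
    inv_mul_cancel_left₀ (Nat.cast_ne_zero.mpr hzodd.pos.ne'), hg]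
  ring

theorem classInner_φl {lam mu : C.D.Z →* ℂˣ} (hl : lam ≠ 1) (hm : mu ≠ 1) (h1 : lam ≠ mu) (h2 : lam ≠ mu⁻¹) :
    classInner (C.φl lam) (C.φl mu) = 0 := by
  set ψ : (C.D.Z →* ℂˣ) → L → ℂ := fun θ => indFun C.D.Z fun h => (θ h : ℂ) - 1 with hψ
  have hcl : ∀ θ, IsClassFunction L (ψ θ) := fun θ => (isGenChar_iff_coeff_int.1 (isGenChar_indFun C.D.Z (isGenChar_sub
    (isGenChar_of_char (isCharacter_of_irr (isIrrCharacter_linear θ)))
    (isGenChar_of_char isCharacter_one)))).1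
  have e : ∀ θ, C.φl θ = C.D.φa + ψ θ := fun θ => rfl
  have hψψ : classInner (ψ lam) (ψ mu) = 2 := by
    rw [hψ]
    simp only
    rw [frobenius_reciprocity _ _ (hcl mu), classInner, C.D.cardZ]
    have hterm : ∀ h : C.D.Z, ((lam h : ℂ) - 1) * conj (indFun C.D.Z (fun h => (mu h : ℂ) - 1) (h : L)) =
        ((lam * mu⁻¹) h : ℂ) + ((lam * mu) h : ℂ) - 2 * (lam h : ℂ) - ((mu⁻¹) h : ℂ) - (mu h : ℂ) + 2 := fun h => by
      rw [S.psi_torus, map_sub, map_add, conj_dual, conj_dual, inv_inv, map_ofNat, MonoidHom.mul_apply,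
        MonoidHom.mul_apply, MonoidHom.inv_apply, Units.val_mul, Units.val_mul, map_inv]
      ring
    rw [Finset.sum_congr rfl fun h _ => hterm h]
    simp only [Finset.sum_add_distrib, Finset.sum_sub_distrib, ← Finset.mul_sum]
    rw [sum_dual_ne (fun e => h1 (MonoidHom.ext fun h => mul_inv_eq_one.mp (DFunLike.congr_fun e h))), sum_dual_ne (θ := lam * mu) (fun e => h2 (MonoidHom.ext fun h => by
        rw [MonoidHom.inv_apply]; exact eq_inv_of_mul_eq_one_left (DFunLike.congr_fun e h))),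
      sum_dual_ne hl, sum_dual_ne (fun e => hm (MonoidHom.ext fun h => inv_eq_one.mp (DFunLike.congr_fun e h))), sum_dual_ne hm, Finset.sum_const, Finset.card_univ,
      ← Nat.card_eq_fintype_card, C.D.cardZ, nsmul_eq_mul]
    field_simp [Nat.cast_ne_zero (R := ℂ).mpr S.H.R.z_odd.pos.ne']
    ring
  have hla : ∀ θ : C.D.Z →* ℂˣ, θ ≠ 1 → classInner C.D.φa (ψ θ) = -2 := fun θ hθ => by
    have h := C.D.la θ hθ
    rw [show (fun x => C.D.φa x + indFun C.D.Z (fun h => (θ h : ℂ) - 1) x) = C.D.φa + ψ θ from rfl,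
      classInner_add_right, C.D.aa] at h
    linear_combination h
  have hla' : classInner (ψ lam) C.D.φa = -2 := by
    rw [← classInner_comm, hla lam hl]
    simp [map_ofNat]
  rw [e, e, classInner_add_left, classInner_add_right, classInner_add_right, C.D.aa, hψψ, hla mu hm, hla']
  ring

theorem dot_vl {lam mu : C.D.Z →* ℂˣ} (hl : lam ≠ 1) (hm : mu ≠ 1) (h1 : lam ≠ mu) (h2 : lam ≠ mu⁻¹) :
    dotI (C.vl lam) (C.vl mu) = 0 := by
  refine Cfg.cast_dotI (fun χ => (C.vl_spec lam χ).symm) (fun χ => (C.vl_spec mu χ).symm) ?_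
  rw [C.sum_coef_mul (C.φl_even lam) (C.φl_even mu) (isGenChar_iff_coeff_int.1 (C.φl_gen mu)).1,
    S.classInner_φl hl hm h1 h2]
  simp

theorem vl_sum_bound (χ : IrrCharacter G) :
    |∑ lam ∈ Finset.univ.erase (1 : C.D.Z →* ℂˣ), C.vl lam χ| ≤ 2 := by
  set F := (Finset.univ.erase (1 : C.D.Z →* ℂˣ)).filter fun lam => C.vl lam χ ≠ 0 with hF
  have hone : ∀ lam ∈ F, |C.vl lam χ| ≤ 1 := by
    intro lam h
    have hl := Finset.ne_of_mem_erase (Finset.mem_filter.mp h).1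
    obtain ⟨p, r, hpr, -, hv⟩ := exists_pair (D := C.deg) (fun χ => (C.deg_spec χ).2) (C.vl_vl hl) (C.vl_deg lam)
    rw [hv]
    split_ifs <;> simp
  have hpair : ∀ lam ∈ F, ∀ mu ∈ F, mu = lam ∨ mu = lam⁻¹ := by
    intro lam hla mu hmu
    by_contra hne
    push Not at hne
    have hl := Finset.ne_of_mem_erase (Finset.mem_filter.mp hla).1
    have hm := Finset.ne_of_mem_erase (Finset.mem_filter.mp hmu).1
    have hlx := (Finset.mem_filter.mp hla).2
    have hmx := (Finset.mem_filter.mp hmu).2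
    obtain ⟨p, r, hpr, -, hv⟩ := exists_pair (D := C.deg) (fun χ => (C.deg_spec χ).2) (C.vl_vl hl) (C.vl_deg lam)
    obtain ⟨p', r', hpr', -, hv'⟩ := exists_pair (D := C.deg) (fun χ => (C.deg_spec χ).2) (C.vl_vl hm) (C.vl_deg mu)
    have h0 := S.dot_vl hl hm hne.1.symm (fun e => hne.2 (by rw [e]; exact (inv_inv mu).symm))
    rw [dotI_single hv', hv, hv] at h0
    rw [hv] at hlx
    rw [hv'] at hmx
    have hχ : χ = p ∨ χ = r := by
      by_contra hc; push Not at hc; simp [hc.1, hc.2] at hlx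
    have hχ' : χ = p' ∨ χ = r' := by
      by_contra hc; push Not at hc; simp [hc.1, hc.2] at hmx
    rcases hχ with rfl | rfl <;> rcases hχ' with rfl | rfl <;>
      simp [hpr, hpr.symm, hpr', hpr'.symm] at h0 <;> (try split_ifs at h0) <;> simp_all
  rw [← Finset.sum_filter_ne_zero]
  refine (Finset.abs_sum_le_sum_abs _ _).trans ((Finset.sum_le_card_nsmul F _ 1 hone).trans ?_)
  rw [nsmul_eq_mul, mul_one]
  rcases F.eq_empty_or_nonempty with h | ⟨lam, h⟩
  · simp [h]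
  · have hsub : F ⊆ {lam, lam⁻¹} := fun mu hmu => by
      rcases hpair lam h mu hmu with e | e <;> simp [e]
    have := (Finset.card_le_card hsub).trans Finset.card_le_two
    exact_mod_cast this

theorem T_free_bound {χ : IrrCharacter G} (hF : C.Free χ) (ha : C.va χ = 0) (hb0 : C.vb 0 χ = 0)
    (hb1 : C.vb 1 χ = 0) : |C.T χ| ≤ 4 * (C.D.y : ℤ) := by
  rw [C.T_free hF, ha, hb0, hb1, add_zero, mul_zero, sub_zero, zero_sub, abs_neg, abs_mul]
  have h := S.vl_sum_bound χ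
  have e : |(2 : ℤ) * C.D.δ * C.D.y| = 2 * (C.D.y : ℤ) := by
    rw [S.H.R.delta]
    rw [show (2 : ℤ) * -1 * C.D.y = -(2 * (C.D.y : ℤ)) by ring, abs_neg, abs_of_nonneg (by positivity)]
  rw [e]
  calc 2 * (C.D.y : ℤ) * _ ≤ 2 * (C.D.y : ℤ) * 2 := mul_le_mul_of_nonneg_left h (by positivity)
    _ = 4 * (C.D.y : ℤ) := by ring

theorem T_quart_bound {χ : IrrCharacter G} (hF : ¬ C.Free χ) : |C.T χ| ≤ 6 * (C.D.z : ℤ) := by
  simp only [Cfg.Free, not_forall] at hF
  obtain ⟨θ, hθ, k, hne⟩ := hF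
  obtain ⟨Q⟩ := C.nonempty_quart hθ
  have hd : |C.D.δ * C.D.z| = (C.D.z : ℤ) := by
    rw [S.H.R.delta, neg_one_mul, abs_neg, abs_of_nonneg (by positivity)]
  have hκ : |Q.κ| = 1 := by rcases Q.hκ with e | e <;> simp [e]
  have hq : χ = Q.p ∨ χ = Q.r k := by
    by_contra hq
    push Not at hq
    exact hne ((Q.spec k χ).2.2 hq.1 hq.2)
  have hcases : ∀ n : ℤ, ∀ μ : Option (Fin 3), ∑ θ' : C.D.Y →* ℂˣ, C.vq θ' χ = (if μ = none then 6 else -2) * n →
      |n| = 1 → C.T χ = -(C.D.δ * C.D.z * ∑ θ' : C.D.Y →* ℂˣ, C.vq θ' χ) → |C.T χ| ≤ 6 * (C.D.z : ℤ) := by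
    intro n μ hsum hn hT
    rw [hT, abs_neg, abs_mul, hd, hsum, abs_mul, hn, mul_one, mul_comm 6]
    refine mul_le_mul_of_nonneg_left ?_ (by positivity)
    split_ifs <;> norm_num
  rcases hq with rfl | rfl
  · refine hcases _ none (sum_quart_orbit hθ none
      (fun θ' hθ' hne μ => (Q.vc_other_zero hθ hθ' (C.not_orbit hne)).1 μ) fun μ hμ => ?_)
      (by rw [(Q.vc_none_quart hθ).1]; exact hκ)
      (C.T_quart (Q.va_zero hθ).1 (fun i => (Q.vb_zero hθ i).1) fun lam hl => (Q.vl_zero hθ hl).1)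
    rcases μ with _ | l
    exacts [absurd rfl hμ, (Q.vc_some_quart hθ l).1]
  · refine hcases _ (some k) (sum_quart_orbit hθ (some k)
      (fun θ' hθ' hne μ => (Q.vc_other_zero hθ hθ' (C.not_orbit hne)).2 μ k) fun μ hμ => ?_)
      (by rw [(Q.vc_some_quart hθ k).2, if_pos rfl]; exact hκ)
      (C.T_quart ((Q.va_zero hθ).2 k) (fun i => (Q.vb_zero hθ i).2 k) fun lam hl => (Q.vl_zero hθ hl).2 k)
    rcases μ with _ | l
    · exact (Q.vc_none_quart hθ).2 k
    · rw [(Q.vc_some_quart hθ l).2, if_neg fun e => hμ (by rw [e])]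

theorem sum_T_sq : ∑ χ : IrrCharacter G, (C.T χ : ℝ) ^ 2 ≤ (C.D.q : ℝ) * ((C.D.q : ℝ) ^ 2 - 1) := by
  have h2 := sum_irr_mul_conj (G := G) C.t C.t
  rw [if_pos (IsConj.refl C.t)] at h2
  simp only [Complex.mul_conj, Complex.normSq_eq_norm_sq, C.T_spec, Complex.norm_intCast, sq_abs] at h2
  rw [← Complex.ofReal_sum] at h2
  set N := Nat.card (Subgroup.centralizer ({C.t} : Set G)) with hN
  have h3 : ∑ χ : IrrCharacter G, (C.T χ : ℝ) ^ 2 = (N : ℝ) := by exact_mod_cast h2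
  have h4 : N ≤ 2 * Nat.card L := by
    have h5 : Nat.card (Fin 2 × L) = 2 * Nat.card L := by rw [Nat.card_prod, Nat.card_fin]
    rw [← h5]
    have hmem : ∀ p : Fin 2 × L, C.t ^ (p.1 : ℕ) * C.E p.2 ∈ Subgroup.centralizer ({C.t} : Set G) := fun p =>
      Subgroup.mem_centralizer_singleton_iff.mpr
        (((Commute.refl C.t).pow_left _).mul_left (C.E_comm p.2).symm)
    refine Nat.card_le_card_of_surjective (fun p => (⟨_, hmem p⟩ : Subgroup.centralizer ({C.t} : Set G))) ?_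
    rintro ⟨g, hg⟩
    obtain ⟨l, hl | hl⟩ := C.cent g (Subgroup.mem_centralizer_singleton_iff.mp hg)
    · exact ⟨(0, l), Subtype.ext (by simp [hl])⟩
    · exact ⟨(1, l), Subtype.ext (by simp [hl])⟩
  have h6 : 2 * (Nat.card L : ℝ) = (C.D.q : ℝ) * ((C.D.q : ℝ) ^ 2 - 1) := by exact_mod_cast C.D.card
  rw [h3, ← h6]
  exact_mod_cast h4

theorem no_exp_three {x : G} (hx1 : x ≠ 1) (hx3 : x ^ 3 = 1)
    (hN : Nat.card (Subgroup.centralizer ({x} : Set G)) = C.D.q ^ 2)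
    (hn : C.D.q ^ 2 ≤ Nat.card {g : G // g ∈ Cfg.invs G ∧ g⁻¹ * x ∈ Cfg.invs G}) : False := by
  have R := S.H.R
  set n := Nat.card {g : G // g ∈ Cfg.invs G ∧ g⁻¹ * x ∈ Cfg.invs G}
  have hord : orderOf x = 3 := orderOf_eq_prime hx3 hx1
  set co : IrrCharacter G → ℝ := fun χ => (C.T χ : ℝ) ^ 2 / (C.deg χ : ℝ) with hco
  have hst : (S.st : G → ℂ) x = 0 := by
    rw [S.sti_spec, S.sti_three (hord ▸ dvd_rfl), Int.cast_zero]
  have hst1 : Blocks.oneIrr G ≠ S.st := fun e => S.hV.conf.sA.ac e.symm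
  set S' : Finset (IrrCharacter G) := (Finset.univ.erase (Blocks.oneIrr G)).erase S.st with hS'
  have hKn : (1 : ℂ) + ∑ χ ∈ S', (co χ : ℂ) * conj ((χ : G → ℂ) x) = ((C.Kq : ℝ) : ℂ) * (n : ℂ) := by
    have hKK : ((C.Kq : ℝ) : ℂ) = C.K := by rw [Cfg.Kq, Cfg.K]; push_cast; ring
    rw [hKK, ← C.sum_sq_div x, ← Finset.add_sum_erase _ _ (Finset.mem_univ (Blocks.oneIrr G)),
      ← Finset.add_sum_erase _ _ (Finset.mem_erase.mpr ⟨hst1.symm, Finset.mem_univ S.st⟩), hst, map_zero, mul_zero,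
      zero_div, zero_add]
    congr 1
    · simp [Blocks.oneIrr]
    · refine Finset.sum_congr rfl fun χ _ => ?_
      rw [C.T_spec, (C.deg_spec χ).1, hco]
      push_cast
      ring
  have hq : (27 : ℝ) ≤ C.D.q := by exact_mod_cast R.seven_q
  obtain ⟨q, hqdef⟩ : ∃ q : ℝ, q = (C.D.q : ℝ) := ⟨_, rfl⟩
  rw [← hqdef] at hq
  obtain ⟨W, hWdef⟩ : ∃ W : ℝ, W = (reeW C : ℝ) := ⟨_, rfl⟩
  have hW : W = q * q - q + 1 := by rw [hWdef, hqdef]; exact_mod_cast S.W_eq
  have hW0 : 0 < W := by rw [hW]; nlinarith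
  let ex : IrrCharacter G → ℝ := fun χ =>
    (if χ = S.v then q ^ 2 / W ^ 2 else 0) + (if χ = S.z then 1 / W ^ 2 else 0) +
      ∑ i : Fin 2, ((if χ = S.r i then 3 / (2 * q) else 0) + (if χ = S.s i then 3 / (2 * q) else 0))
  have hex : ∀ χ, 0 ≤ ex χ := fun χ => by
    refine add_nonneg (add_nonneg ?_ ?_) (Finset.sum_nonneg fun i _ => add_nonneg ?_ ?_) <;> split_ifs <;> positivity
  have hterm : ∀ χ ∈ S', co χ ^ 2 ≤ ex χ + 9 / W ^ 2 * (C.T χ : ℝ) ^ 2 := by
    intro χ hχ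
    have hnn : (0 : ℝ) ≤ 9 / W ^ 2 * (C.T χ : ℝ) ^ 2 := by positivity
    by_cases hT : C.T χ = 0
    · rw [hco]; simp only [hT, Int.cast_zero]
      have := hex χ
      norm_num
      linarith
    rcases S.cases hT with e | e | rfl | rfl | ⟨i, hi⟩ | ⟨hF, ha, hb0, hb1, hd⟩ | ⟨hF, hd⟩
    · exact absurd e (Finset.ne_of_mem_erase (Finset.mem_of_mem_erase hχ))
    · exact absurd e (Finset.ne_of_mem_erase hχ)
    · refine le_trans ?_ (le_add_of_nonneg_right hnn)
      have h1 : co S.v ^ 2 = q ^ 2 / W ^ 2 := by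
        rw [hco]; simp only
        rw [S.T_v, S.deg_v]
        push_cast
        rw [← hqdef, ← hWdef]
        field_simp
      rw [h1]
      show _ ≤ (if S.v = S.v then q ^ 2 / W ^ 2 else 0) + (if S.v = S.z then 1 / W ^ 2 else 0) + _
      rw [if_pos rfl, add_assoc]
      refine le_add_of_nonneg_right (add_nonneg ?_ (Finset.sum_nonneg fun i _ => add_nonneg ?_ ?_)) <;>
        split_ifs <;> positivity
    · refine le_trans ?_ (le_add_of_nonneg_right hnn)
      have h1 : co S.z ^ 2 = 1 / W ^ 2 := by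
        rw [hco]; simp only
        rw [S.T_z, S.deg_z]
        push_cast
        rw [← hWdef]
        field_simp
      rw [h1]
      show _ ≤ (if S.z = S.v then q ^ 2 / W ^ 2 else 0) + (if S.z = S.z then 1 / W ^ 2 else 0) + _
      rw [if_pos rfl, add_assoc, add_left_comm]
      refine le_add_of_nonneg_right (add_nonneg ?_ (Finset.sum_nonneg fun i _ => add_nonneg ?_ ?_)) <;>
        split_ifs <;> positivity
    · refine le_trans ?_ (le_add_of_nonneg_right hnn)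
      have h1 : co χ ^ 2 ≤ 3 / (2 * q) := by
        have h := S.hV.rest_small R i χ hi
        rw [← hqdef] at h
        rw [le_div_iff₀ (by positivity)]
        change 2 * q * co χ ^ 2 ≤ 3 at h
        linarith
      refine h1.trans ?_
      refine le_trans ?_ (le_add_of_nonneg_left (add_nonneg ?_ ?_))
      · refine le_trans ?_ (Finset.single_le_sum (f := fun j : Fin 2 => (if χ = S.r j then 3 / (2 * q) else 0) +
          (if χ = S.s j then 3 / (2 * q) else 0)) (fun j _ => add_nonneg ?_ ?_) (Finset.mem_univ i))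
        · rcases hi with e | e
          · simp only [if_pos e]; refine le_add_of_nonneg_right ?_; split_ifs <;> positivity
          · simp only [if_pos e]; refine le_add_of_nonneg_left ?_; split_ifs <;> positivity
        all_goals split_ifs <;> positivity
      all_goals split_ifs <;> positivity
    all_goals
      refine le_add_of_nonneg_of_le (hex χ) ?_
      have hz : 2 * (C.D.z : ℝ) = q - 1 := by
        have : (C.D.q : ℝ) = 2 * C.D.z + 1 := by exact_mod_cast R.q_z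
        rw [hqdef]; linarith
      have hy : 4 * (C.D.y : ℝ) = q + 1 := by
        have : (C.D.q : ℝ) + 1 = 4 * C.D.y := by exact_mod_cast R.q_y
        rw [hqdef]; linarith
      have hTb : (C.T χ : ℝ) ^ 2 ≤ (3 * (q - 1)) ^ 2 := by
        rw [← sq_abs]
        refine pow_le_pow_left₀ (abs_nonneg _) ?_ 2
        first
          | (refine le_trans (show |(C.T χ : ℝ)| ≤ 4 * (C.D.y : ℝ) from by
              exact_mod_cast S.T_free_bound hF ha hb0 hb1) ?_; linarith)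
          | (refine le_trans (show |(C.T χ : ℝ)| ≤ 6 * (C.D.z : ℝ) from by
              exact_mod_cast S.T_quart_bound hF) ?_; linarith)
      have hdb : (q - 1) * W ≤ (C.deg χ : ℝ) := by
        have hd' := congrArg (fun m : ℤ => (m : ℝ)) hd
        push_cast at hd'
        rw [hd', ← hqdef, hW]
        try rw [← hWdef, hW]
        nlinarith
      have hd0 : 0 < (q - 1) * W := mul_pos (by linarith) hW0
      rw [hco]
      simp only
      rw [div_pow, div_le_iff₀ (pow_pos (lt_of_lt_of_le hd0 hdb) 2), pow_two ((C.T χ : ℝ) ^ 2)]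
      calc (C.T χ : ℝ) ^ 2 * (C.T χ : ℝ) ^ 2 ≤ (3 * (q - 1)) ^ 2 * (C.T χ : ℝ) ^ 2 :=
            mul_le_mul_of_nonneg_right hTb (sq_nonneg _)
        _ = 9 / W ^ 2 * (C.T χ : ℝ) ^ 2 * ((q - 1) * W) ^ 2 := by field_simp; ring
        _ ≤ _ := mul_le_mul_of_nonneg_left (pow_le_pow_left₀ hd0.le hdb 2) hnn
  have hco2 : ∑ χ ∈ S', co χ ^ 2 ≤ q ^ 2 / W ^ 2 + 1 / W ^ 2 + 6 / q + 9 / W ^ 2 * (q * (q ^ 2 - 1)) := by
    refine (Finset.sum_le_sum hterm).trans ?_
    refine (Finset.sum_le_sum_of_subset_of_nonneg (Finset.subset_univ S') fun χ _ _ =>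
      add_nonneg (hex χ) (by positivity)).trans ?_
    rw [Finset.sum_add_distrib, ← Finset.mul_sum]
    refine add_le_add (le_of_eq ?_) (mul_le_mul_of_nonneg_left (hqdef ▸ S.sum_T_sq) (by positivity))
    simp only [ex, Finset.sum_add_distrib, Fin.sum_univ_two, Finset.sum_ite_eq', Finset.mem_univ, if_true]
    ring
  have hnorm : ∑ χ ∈ S', ‖(χ : G → ℂ) x‖ ^ 2 ≤ q ^ 2 := by
    refine (Finset.sum_le_sum_of_subset_of_nonneg (Finset.subset_univ S') fun _ _ _ => by positivity).trans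
      (le_of_eq ?_)
    have h2 := sum_irr_mul_conj (G := G) x x
    rw [if_pos (IsConj.refl x), hN] at h2
    simp only [Complex.mul_conj, Complex.normSq_eq_norm_sq] at h2
    rw [← Complex.ofReal_sum] at h2
    rw [hqdef]
    exact_mod_cast h2
  have hest : ((C.Kq : ℝ) * n - 1) ^ 2 ≤
      (q ^ 2 / W ^ 2 + 1 / W ^ 2 + 6 / q + 9 / W ^ 2 * (q * (q ^ 2 - 1))) * q ^ 2 := by
    have h3 : |(C.Kq : ℝ) * n - 1| ≤ ∑ χ ∈ S', |co χ| * ‖(χ : G → ℂ) x‖ := by
      rw [show |(C.Kq : ℝ) * n - 1| = ‖((((C.Kq : ℝ) * n - 1 : ℝ)) : ℂ)‖ by rw [Complex.norm_real, Real.norm_eq_abs]]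
      rw [Complex.ofReal_sub, Complex.ofReal_mul, Complex.ofReal_natCast, Complex.ofReal_one, ← hKn,
        add_sub_cancel_left]
      refine (norm_sum_le _ _).trans (le_of_eq (Finset.sum_congr rfl fun χ _ => ?_))
      rw [norm_mul, Complex.norm_real, Real.norm_eq_abs, Complex.norm_conj]
    calc ((C.Kq : ℝ) * n - 1) ^ 2 = |(C.Kq : ℝ) * n - 1| ^ 2 := (sq_abs _).symm
      _ ≤ (∑ χ ∈ S', |co χ| * ‖(χ : G → ℂ) x‖) ^ 2 := by gcongr
      _ ≤ (∑ χ ∈ S', |co χ| ^ 2) * ∑ χ ∈ S', ‖(χ : G → ℂ) x‖ ^ 2 := Finset.sum_mul_sq_le_sq_mul_sq _ _ _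
      _ ≤ _ := by
          simp only [sq_abs]
          exact mul_le_mul hco2 hnorm (Finset.sum_nonneg fun _ _ => by positivity)
            (le_trans (Finset.sum_nonneg fun _ _ => sq_nonneg _) hco2)
  have hKq : (C.Kq : ℝ) = (q ^ 2 - 1) / (q * W) := by rw [Kq_eq R, hqdef, hWdef]; push_cast; rfl
  have hn' : q ^ 2 ≤ (n : ℝ) := by rw [hqdef]; exact_mod_cast hn
  have hlow : (q * (q ^ 2 - 1) / W - 1) ^ 2 ≤ ((C.Kq : ℝ) * n - 1) ^ 2 := by
    have h1 : 1 ≤ q * (q ^ 2 - 1) / W := by rw [le_div_iff₀ hW0, hW]; nlinarith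
    refine pow_le_pow_left₀ (by linarith) (sub_le_sub_right ?_ 1) 2
    calc q * (q ^ 2 - 1) / W = (C.Kq : ℝ) * q ^ 2 := by rw [hKq]; field_simp
      _ ≤ _ := mul_le_mul_of_nonneg_left hn' (by rw [hKq]; apply div_nonneg <;> nlinarith)
  have h := hlow.trans hest
  have key : (q * (q ^ 2 - 1) - W) ^ 2 ≤ (q ^ 2 + 1 + 9 * (q * (q ^ 2 - 1))) * q ^ 2 + 6 * q * W ^ 2 := by
    have e1 : (q * (q ^ 2 - 1) / W - 1) ^ 2 * W ^ 2 = (q * (q ^ 2 - 1) - W) ^ 2 := by field_simp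
    have e2 : (q ^ 2 / W ^ 2 + 1 / W ^ 2 + 6 / q + 9 / W ^ 2 * (q * (q ^ 2 - 1))) * q ^ 2 * W ^ 2 =
        (q ^ 2 + 1 + 9 * (q * (q ^ 2 - 1))) * q ^ 2 + 6 * q * W ^ 2 := by field_simp; ring
    rw [← e1, ← e2]
    exact mul_le_mul_of_nonneg_right h (sq_nonneg W)
  rw [hW] at key
  nlinarith [mul_le_mul_of_nonneg_right hq (pow_nonneg (by linarith : (0 : ℝ) ≤ q) 5),
    pow_nonneg (by linarith : (0 : ℝ) ≤ q) 4, pow_nonneg (by linarith : (0 : ℝ) ≤ q) 3,
    mul_le_mul_of_nonneg_right hq (pow_nonneg (by linarith : (0 : ℝ) ≤ q) 4),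
    mul_le_mul_of_nonneg_right hq (pow_nonneg (by linarith : (0 : ℝ) ≤ q) 3),
    mul_le_mul_of_nonneg_right hq (pow_nonneg (by linarith : (0 : ℝ) ≤ q) 2), sq_nonneg q]

/-- Some element of order nine. -/
theorem exists_nine {P : Subgroup G} (T : TData C P) : ∃ g ∈ P, g ^ 3 ≠ 1 ∧ g ^ 9 = 1 := by
  by_contra h
  push Not at h
  have h3 : ∀ g ∈ P, g ^ 3 = 1 := fun g hg => by_contra fun hne => h g hg hne (T.nine g hg)
  obtain ⟨x, h1, h2, h4, h5⟩ := T.exp_three h3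
  exact S.no_exp_three h1 h2 h4 h5

end Sys

end CfsgLib.WalterUse.Ward
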