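import Cfsg.Agent.Lib.ZStar.QLocal
import Cfsg.Agent.Lib.CharTheory.Burnside
import Cfsg.Agent.Lib.CharTheory.More

/-!
Characters of a finite group on a central subgroup: shifting, orthogonality and conjugacy.
-/

set_option autoImplicit false
set_option linter.unusedSectionVars false
set_option linter.style.haveILetI false

namespace CfsgLib.WalterUse.Ward

open Cfsg CfsgLib.CharTheory
open scoped ComplexConjugate

universe u

variable {P : Type u} [Group P] [Fintype P]

theorem central_mul (χ : IrrCharacter P) {u : P} (hc : ∀ h, Commute h u) (y : P) :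
    (χ : P → ℂ) (u * y) * (χ : P → ℂ) 1 = (χ : P → ℂ) u * (χ : P → ℂ) y := by
  rw [CfsgLib.ZStar.central_apply χ hc y]
  have h1 := irr_ne_zero χ.2
  field_simp

theorem re_le_degree {χ : P → ℂ} (hχ : IsCharacter P χ) (g : P) : (χ g).re ≤ (χ 1).re ∧ -(χ 1).re ≤ (χ g).re := by
  obtain ⟨n, ρ, rfl⟩ := hχ
  have h : ‖ρ.character g‖ ≤ ‖ρ.character 1‖ := by
    rw [ρ.char_one, Complex.norm_natCast]
    exact norm_character_le ρ g
  rw [ρ.char_one, Complex.norm_natCast] at h
  rw [ρ.char_one, Complex.natCast_re]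
  exact ⟨(Complex.re_le_norm _).trans h, neg_le.mp ((neg_le_abs _).trans ((Complex.abs_re_le_norm _).trans h))⟩

theorem conj_degree (χ : IrrCharacter P) : conj ((χ : P → ℂ) 1) = (χ : P → ℂ) 1 := by
  obtain ⟨d, -, e⟩ := irr_degree_pos χ.2
  rw [e, Complex.conj_natCast]

/-- The product of two characters on a central subgroup: constant, or the sum vanishes. -/
theorem central_orth (Z : Subgroup P) [DecidablePred (· ∈ Z)] (hZ : ∀ z ∈ Z, ∀ h : P, Commute h z)
    (φ θ : IrrCharacter P) :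
    ((∀ z ∈ Z, (φ : P → ℂ) z * conj ((θ : P → ℂ) z) = (φ : P → ℂ) 1 * (θ : P → ℂ) 1) ∧
      ∑ z ∈ Finset.univ.filter (· ∈ Z), (φ : P → ℂ) z * conj ((θ : P → ℂ) z) =
        (Nat.card Z : ℂ) * ((φ : P → ℂ) 1 * (θ : P → ℂ) 1)) ∨
      ∑ z ∈ Finset.univ.filter (· ∈ Z), (φ : P → ℂ) z * conj ((θ : P → ℂ) z) = 0 := by
  set S := ∑ z ∈ Finset.univ.filter (· ∈ Z), (φ : P → ℂ) z * conj ((θ : P → ℂ) z)
  by_cases h : ∀ z ∈ Z, (φ : P → ℂ) z * conj ((θ : P → ℂ) z) = (φ : P → ℂ) 1 * (θ : P → ℂ) 1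
  · refine Or.inl ⟨h, ?_⟩
    show ∑ z ∈ Finset.univ.filter (· ∈ Z), _ = _
    rw [Finset.sum_congr rfl (g := fun _ => (φ : P → ℂ) 1 * (θ : P → ℂ) 1)
      (fun z hz => h z (Finset.mem_filter.mp hz).2), Finset.sum_const, nsmul_eq_mul, ← Fintype.card_subtype,
      ← Nat.card_eq_fintype_card]
  · refine Or.inr ?_
    push Not at h
    obtain ⟨z₀, hz₀, hne⟩ := h
    have hS : S * ((φ : P → ℂ) 1 * (θ : P → ℂ) 1) = S * ((φ : P → ℂ) z₀ * conj ((θ : P → ℂ) z₀)) := by
      nth_rw 1 [show S = ∑ z ∈ Finset.univ.filter (· ∈ Z), (φ : P → ℂ) (z₀ * z) * conj ((θ : P → ℂ) (z₀ * z)) by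
        symm
        refine Finset.sum_nbij' (fun z => z₀ * z) (fun z => z₀⁻¹ * z) ?_ ?_ ?_ ?_ fun z _ => rfl
        · intro z hz
          simp only [Finset.mem_filter, Finset.mem_univ, true_and] at hz ⊢
          exact mul_mem hz₀ hz
        · intro z hz
          simp only [Finset.mem_filter, Finset.mem_univ, true_and] at hz ⊢
          exact mul_mem (inv_mem hz₀) hz
        · intro z _; exact inv_mul_cancel_left z₀ z
        · intro z _; exact mul_inv_cancel_left z₀ z]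
      rw [Finset.sum_mul, Finset.sum_mul]
      refine Finset.sum_congr rfl fun z _ => ?_
      have e1 := central_mul φ (hZ z₀ hz₀) z
      have e2 := congrArg (starRingEnd ℂ) (central_mul θ (hZ z₀ hz₀) z)
      rw [map_mul, map_mul, conj_degree] at e2
      calc _ = ((φ : P → ℂ) (z₀ * z) * (φ : P → ℂ) 1) * (conj ((θ : P → ℂ) (z₀ * z)) * (θ : P → ℂ) 1) := by ring
        _ = _ := by rw [e1, e2]; ring
    exact (mul_eq_mul_left_iff.mp hS).resolve_left fun e => hne e.symm

/-- A central element in the derived group acts trivially in a character of degree one. -/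
theorem degree_one_commutator {χ : IrrCharacter P} (h1 : (χ : P → ℂ) 1 = 1) {z : P} (hz : z ∈ commutator P) :
    (χ : P → ℂ) z = 1 := by
  obtain ⟨f, hf⟩ := exists_hom_of_degree_one (isCharacter_of_irr χ.2) h1
  rw [hf]
  show (f z : ℂ) = 1
  rw [show f z = 1 from Abelianization.commutator_subset_ker f hz, Units.val_one]

/-- A character of full modulus sum on a central subgroup vanishes outside it. -/
theorem vanish_outside (Z : Subgroup P) [DecidablePred (· ∈ Z)] (hZ : ∀ z ∈ Z, ∀ h : P, Commute h z)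
    (θ : IrrCharacter P) (hd : (Nat.card Z : ℂ) * ((θ : P → ℂ) 1 * (θ : P → ℂ) 1) = (Nat.card P : ℂ))
    {x : P} (hx : x ∉ Z) : (θ : P → ℂ) x = 0 := by
  classical
  have h := sum_mul_conj_irr θ.2
  rw [← Finset.sum_filter_add_sum_filter_not Finset.univ (· ∈ Z)] at h
  have hnn : ∀ g : P, (θ : P → ℂ) g * conj ((θ : P → ℂ) g) = (Complex.normSq ((θ : P → ℂ) g) : ℂ) :=
    fun g => Complex.mul_conj _
  rcases central_orth Z hZ θ θ with ⟨-, e⟩ | e
  · rw [e, hd, add_eq_left, Finset.sum_congr rfl fun g _ => hnn g, ← Complex.ofReal_sum, Complex.ofReal_eq_zero,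
      Finset.sum_eq_zero_iff_of_nonneg fun g _ => Complex.normSq_nonneg _] at h
    exact Complex.normSq_eq_zero.mp (h x (Finset.mem_filter.mpr ⟨Finset.mem_univ _, hx⟩))
  · exfalso
    rw [Finset.sum_congr rfl fun g _ => hnn g, ← Complex.ofReal_sum, Complex.ofReal_eq_zero,
      Finset.sum_eq_zero_iff_of_nonneg fun g _ => Complex.normSq_nonneg _] at e
    exact irr_ne_zero θ.2 (Complex.normSq_eq_zero.mp (e 1 (Finset.mem_filter.mpr ⟨Finset.mem_univ _, one_mem Z⟩)))

/-- If the characters non-trivial on `Z` vanish outside `Z` then cosets of `Z` outside lie in single classes. -/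
theorem conj_shift (Z : Subgroup P) [DecidablePred (· ∈ Z)] (hZ : ∀ z ∈ Z, ∀ h : P, Commute h z)
    (hv : ∀ θ : IrrCharacter P, (∃ z ∈ Z, (θ : P → ℂ) z ≠ (θ : P → ℂ) 1) → ∀ x ∉ Z, (θ : P → ℂ) x = 0)
    {x c : P} (hx : x ∉ Z) (hc : c ∈ Z) : IsConj x (x * c) := by
  refine isConj_of_forall_irr fun θ => ?_
  by_cases h : ∃ z ∈ Z, (θ : P → ℂ) z ≠ (θ : P → ℂ) 1
  · rw [hv θ h x hx, hv θ h (x * c) fun e => hx (by simpa using mul_mem e (inv_mem hc))]
  · push Not at h
    rw [(hZ c hc x).eq]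
    refine mul_right_cancel₀ (irr_ne_zero θ.2) ?_
    rw [central_mul θ (hZ c hc) x, h c hc]
    ring

end CfsgLib.WalterUse.Ward
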