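import Cfsg.Agent.Lib.WalterUse.Ward.Sylow
import Cfsg.Agent.Lib.WalterUse.Ward.PChar
import Cfsg.Agent.Lib.WalterUse.ReeNonabelian
import Cfsg.Agent.Lib.Elementary

/-!
Ward's theory for the groups of the order of a small Ree group: the centre of the Sylow 3-subgroup has order `q`,
lies in the derived group, is inverted by `t`, and every other coset of it lies in a single class.
-/

set_option autoImplicit false
set_option linter.unusedSectionVars false
set_option linter.style.haveILetI false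

namespace CfsgLib.WalterUse.Ward

open Cfsg CfsgLib CfsgLib.CharTheory CfsgLib.JankoThompson CfsgLib.WalterUse
open scoped ComplexConjugate Classical commutatorElement

universe u v

variable {G : Type u} [Group G] [Fintype G] {L : Type v} [Group L] [Fintype L] {C : Cfg G L}

/-- The conjugates under `Z` of an element and of its inverse. -/
noncomputable def orb (C : Cfg G L) (x : G) : Finset G :=
  (Finset.univ : Finset (C.D.Z × Fin 2)).image fun p =>
    if p.2 = 0 then C.E (p.1 : L) * x * (C.E (p.1 : L))⁻¹ else (C.E (p.1 : L) * x * (C.E (p.1 : L))⁻¹)⁻¹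

theorem mem_orb {x y : G} : y ∈ orb C x ↔
    ∃ k ∈ C.D.Z, y = C.E k * x * (C.E k)⁻¹ ∨ y = (C.E k * x * (C.E k)⁻¹)⁻¹ := by
  constructor
  · intro h
    obtain ⟨⟨k, e⟩, -, he⟩ := Finset.mem_image.mp h
    refine ⟨k, k.2, ?_⟩
    fin_cases e <;> simp at he
    · exact Or.inl he.symm
    · exact Or.inr (by rw [← he]; group)
  · rintro ⟨k, hk, rfl | rfl⟩
    · exact Finset.mem_image.mpr ⟨(⟨k, hk⟩, 0), Finset.mem_univ _, by simp⟩
    · exact Finset.mem_image.mpr ⟨(⟨k, hk⟩, 1), Finset.mem_univ _, by simp⟩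

theorem self_mem_orb (x : G) : x ∈ orb C x :=
  mem_orb.mpr ⟨1, one_mem _, Or.inl (by simp)⟩

namespace Sys

variable (S : Sys C) {P : Subgroup G} {U₀ : Subgroup L} (D : PData C P U₀)
include S D

theorem exists_sylow_P : ∃ Ps : Sylow 3 G, (Ps : Subgroup G) = P := by
  obtain ⟨m, -, hm⟩ := S.H.R.pow
  haveI : Fact (Nat.Prime 3) := ⟨Nat.prime_three⟩
  exact ⟨Sylow.ofCard P (by rw [D.card, (S.H.R.factorization_three hm).1, hm, ← pow_mul, mul_comm]), rfl⟩

omit S in
theorem pow_three {x : G} (hx : x ∈ P) : ∃ j, x ^ 3 ^ j = 1 := by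
  obtain ⟨j, hj⟩ := D.pgroup ⟨x, hx⟩
  exact ⟨j, congrArg Subtype.val hj⟩

omit S in
theorem odd_mem {x : G} (hx : x ∈ P) : Odd (orderOf x) := by
  obtain ⟨j, hj⟩ := pow_three D hx
  exact (show Odd (3 ^ j) from Odd.pow (by decide)).of_dvd_nat (orderOf_dvd_of_pow_eq_one hj)

/-- Centralisers of non-trivial elements of `P` normalise `P`. -/
theorem cent_norm {x g : G} (hx : x ∈ P) (hx1 : x ≠ 1) (hg : Commute g x) :
    g ∈ Subgroup.normalizer (P : Set G) := by
  haveI : Fact (Nat.Prime 3) := ⟨Nat.prime_three⟩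
  obtain ⟨Ps, hPs⟩ := S.exists_sylow_P D
  have hxg : x ∈ ((g • Ps : Sylow 3 G) : Subgroup G) := by
    rw [Sylow.coe_subgroup_smul, hPs]
    refine ⟨x, hx, ?_⟩
    show g * x * g⁻¹ = x
    rw [hg.eq, mul_inv_cancel_right]
  have e := (S.sylow_facts D).2.1 (g • Ps) Ps x hxg (hPs.symm ▸ hx) hx1
  rw [Sylow.smul_eq_iff_mem_normalizer] at e
  rwa [← hPs]

/-- `Z` acts without fixed points on `P`. -/
theorem fpf_Z {x : G} (hx : x ∈ P) {k : L} (hk : k ∈ C.D.Z) (hk1 : k ≠ 1) (hc : Commute x (C.E k)) : x = 1 := by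
  obtain ⟨j, hj⟩ := pow_three D hx
  have hne : orderOf k ≠ 1 := fun e => hk1 (orderOf_eq_one_iff.mp e)
  have hl := Nat.minFac_prime hne
  obtain ⟨m, hm⟩ := Hyp.exists_pow_prime hl (Nat.minFac_dvd (orderOf k))
  refine S.H.three_fpf (x := C.E (k ^ m)) (by rw [orderOf_injective C.E C.E_inj, hm]; exact hl)
    (Or.inl (by
      rw [orderOf_injective C.E C.E_inj, hm]
      exact (Nat.minFac_dvd _).trans (orderOf_dvd_of_pow_eq_one (Hyp.pow_z hk)))) S hj ?_
  rw [map_pow]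
  exact hc.pow_right m

theorem orb_card {x : G} (hx : x ∈ P) (hx1 : x ≠ 1) : (orb C x).card + 1 = C.D.q := by
  have hcomm : ∀ k l : L, k ∈ C.D.Z → l ∈ C.D.Z → ∀ w : G, C.E k * x * (C.E k)⁻¹ = C.E l * w * (C.E l)⁻¹ →
      C.E (l⁻¹ * k) * x * (C.E (l⁻¹ * k))⁻¹ = w := by
    intro k l _ _ w h
    rw [map_mul, map_inv, show (C.E l)⁻¹ * C.E k * x * ((C.E l)⁻¹ * C.E k)⁻¹ =
      (C.E l)⁻¹ * (C.E k * x * (C.E k)⁻¹) * C.E l by group, h]
    group
  have hinv : ∀ m ∈ C.D.Z, C.E m * x * (C.E m)⁻¹ ≠ x⁻¹ := by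
    intro m hm h
    have h2 : Commute x (C.E (m ^ 2)) := by
      refine Commute.symm (mul_inv_eq_iff_eq_mul.mp ?_)
      rw [pow_two, map_mul, show C.E m * C.E m * x * (C.E m * C.E m)⁻¹ =
        C.E m * (C.E m * x * (C.E m)⁻¹) * (C.E m)⁻¹ by group, h,
        show C.E m * x⁻¹ * (C.E m)⁻¹ = (C.E m * x * (C.E m)⁻¹)⁻¹ by group, h, inv_inv]
    by_cases hm2 : m ^ 2 = 1
    · have : m = 1 := eq_one_of_pow_coprime hm2 (Hyp.pow_z hm) (Nat.coprime_two_left.mpr S.H.R.z_odd)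
      rw [this, map_one] at h
      refine hx1 (eq_one_of_pow_coprime (m := 2) ?_ (pow_orderOf_eq_one x)
        (Nat.coprime_two_left.mpr (odd_mem D hx)))
      rw [pow_two]
      exact mul_eq_one_iff_eq_inv.mpr (by simpa using h)
    · exact hx1 (S.fpf_Z D hx (pow_mem hm 2) hm2 h2)
  rw [orb, Finset.card_image_of_injective, Finset.card_univ, Fintype.card_prod, Fintype.card_fin,
    ← Nat.card_eq_fintype_card, C.D.cardZ]
  · have := S.H.R.q_z
    omega
  rintro ⟨k, e⟩ ⟨l, f⟩ h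
  have key : ∀ k l : C.D.Z, C.E (k : L) * x * (C.E (k : L))⁻¹ = C.E (l : L) * x * (C.E (l : L))⁻¹ → k = l := by
    intro k l h
    by_contra hne
    refine hx1 (S.fpf_Z D hx (mul_mem (inv_mem l.2) k.2) (fun e => hne (Subtype.ext (inv_mul_eq_one.mp e).symm)) ?_)
    exact (mul_inv_eq_iff_eq_mul.mp (hcomm k l k.2 l.2 x h)).symm
  fin_cases e <;> fin_cases f <;> simp at h ⊢
  · exact key k l h
  · refine absurd ?_ (hinv _ (mul_mem (inv_mem l.2) k.2))
    exact hcomm k l k.2 l.2 x⁻¹ (h.trans (by group))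
  · refine absurd ?_ (hinv _ (mul_mem (inv_mem k.2) l.2))
    exact hcomm l k l.2 k.2 x⁻¹ (h.symm.trans (by group))
  · exact key k l (inv_injective (by simpa [mul_inv_rev, mul_assoc] using h))

omit D in
theorem orb_vi {x y : G} (hy : y ∈ orb C x) : S.vi y = S.vi x := by
  obtain ⟨k, -, rfl | rfl⟩ := mem_orb.mp hy
  · exact S.vi_conj _ _
  · rw [S.vi_inv, S.vi_conj]

omit S D in
theorem orb_sub {K : Subgroup G} (hK : ∀ k ∈ C.D.Z, ∀ x ∈ K, C.E k * x * (C.E k)⁻¹ ∈ K) {x y : G}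
    (hx : x ∈ K) (hx1 : x ≠ 1) (hy : y ∈ orb C x) : y ∈ K ∧ y ≠ 1 := by
  obtain ⟨k, hk, rfl | rfl⟩ := mem_orb.mp hy
  · exact ⟨hK k hk x hx, fun e => hx1 (conj_eq_one_iff.mp e)⟩
  · exact ⟨inv_mem (hK k hk x hx), fun e => hx1 (conj_eq_one_iff.mp (inv_eq_one.mp e))⟩

/-- An invariant subgroup of `P` has order a power of `q`. -/
theorem card_invariant {K : Subgroup G} (hKP : K ≤ P) (hK : ∀ k ∈ C.D.Z, ∀ x ∈ K, C.E k * x * (C.E k)⁻¹ ∈ K) :
    ∃ a : ℕ, Nat.card K = C.D.q ^ a := by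
  haveI : Fact (Nat.Prime 3) := ⟨Nat.prime_three⟩
  set T : Finset G := Finset.univ.filter fun g => g ∈ K ∧ g ≠ 1 with hT
  have hsub : ∀ x ∈ T, ∀ y ∈ orb C x, y ∈ T := fun x hx y hy => by
    simp only [hT, Finset.mem_filter, Finset.mem_univ, true_and] at hx ⊢
    exact orb_sub hK hx.1 hx.2 hy
  have horb : ∀ x ∈ T, ∀ y ∈ orb C x, orb C y = orb C x := by
    intro x hx y hy
    have hxK := (Finset.mem_filter.mp hx).2
    have hyK := (Finset.mem_filter.mp (hsub x hx y hy)).2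
    refine Finset.eq_of_subset_of_card_le (fun w hw => ?_) (le_of_eq ?_)
    · obtain ⟨l, hl, hw⟩ := mem_orb.mp hw
      obtain ⟨k, hk, hy'⟩ := mem_orb.mp hy
      refine mem_orb.mpr ⟨l * k, mul_mem hl hk, ?_⟩
      rw [map_mul]
      rcases hy' with rfl | rfl <;> rcases hw with rfl | rfl
      · exact Or.inl (by group)
      · exact Or.inr (by group)
      · exact Or.inr (by group)
      · exact Or.inl (by group)
    · have h1 := S.orb_card D (hKP hxK.1) hxK.2
      have h2 := S.orb_card D (hKP hyK.1) hyK.2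
      omega
  have hcard : (C.D.q - 1) ∣ T.card := by
    rw [Finset.card_eq_sum_card_image (orb C) T]
    refine Finset.dvd_sum fun o ho => ?_
    obtain ⟨x, hx, rfl⟩ := Finset.mem_image.mp ho
    have e : T.filter (fun y => orb C y = orb C x) = orb C x := by
      ext y
      simp only [Finset.mem_filter]
      exact ⟨fun h => h.2 ▸ self_mem_orb y, fun h => ⟨hsub x hx y h, horb x hx y h⟩⟩
    rw [e]
    have := S.orb_card D (hKP (Finset.mem_filter.mp hx).2.1) (Finset.mem_filter.mp hx).2.2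
    exact dvd_of_eq (by omega)
  have hTc : T.card + 1 = Nat.card K := by
    have e : T = (Finset.univ.filter fun g => g ∈ K).erase 1 := by
      ext g; simp [hT, and_comm]
    rw [e, Finset.card_erase_add_one (by simp), Nat.card_eq_fintype_card, Fintype.card_subtype]
  obtain ⟨e, he⟩ := IsPGroup.iff_card.mp (D.pgroup.to_le hKP)
  obtain ⟨m, -, hm⟩ := S.H.R.pow
  set j := 2 * m + 1 with hj
  refine ⟨e / j, ?_⟩
  have hb : e % j < j := Nat.mod_lt _ (by omega)
  have h1 : 3 ^ e = C.D.q ^ (e / j) * 3 ^ (e % j) := by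
    rw [hm, ← pow_mul, ← pow_add, Nat.div_add_mod]
  have hq : 27 ≤ C.D.q := S.H.R.seven_q
  have hmod : C.D.q ≡ 1 [MOD (C.D.q - 1)] := (Nat.modEq_iff_dvd' (by omega)).mpr dvd_rfl |>.symm
  have h2 : 3 ^ e ≡ 3 ^ (e % j) [MOD (C.D.q - 1)] := by
    rw [h1]
    simpa using (hmod.pow (e / j)).mul_right (3 ^ (e % j))
  have h3 : 1 ≡ 3 ^ e [MOD (C.D.q - 1)] := by
    refine (Nat.modEq_iff_dvd' (Nat.one_le_pow _ _ (by norm_num))).mpr ?_
    rwa [← he, ← hTc, Nat.add_sub_cancel]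
  have h4 : C.D.q - 1 ∣ 3 ^ (e % j) - 1 :=
    (Nat.modEq_iff_dvd' (Nat.one_le_pow _ _ (by norm_num))).mp (h3.trans h2)
  have h5 : 3 ^ (e % j) < C.D.q := hm ▸ Nat.pow_lt_pow_right (by norm_num) hb
  have h6 : 3 ^ (e % j) - 1 = 0 := Nat.eq_zero_of_dvd_of_lt h4 (by
    have := Nat.one_le_pow (e % j) 3 (by norm_num); omega)
  have h7 : 3 ^ (e % j) = 1 := by have := Nat.one_le_pow (e % j) 3 (by norm_num); omega
  rw [he, h1, h7, mul_one]

/-- The square sums of `v` over `P` and over `t U`. -/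
theorem v_P :
    ∑ g ∈ Finset.univ.filter (fun g : G => g ∈ P ∧ g ≠ 1), S.vi g ^ 2 ≤ (C.D.q : ℤ) ^ 2 * ((C.D.q : ℤ) - 1) ∧
    ((C.D.q : ℤ) ^ 2 * ((C.D.q : ℤ) - 1) ≤ ∑ g ∈ Finset.univ.filter (fun g : G => g ∈ P ∧ g ≠ 1), S.vi g ^ 2 →
      ∀ u : L, IsU u → S.vi (C.t * C.E u) = 0) := by
  haveI : Fact (Nat.Prime 3) := ⟨Nat.prime_three⟩
  obtain ⟨Ps, hPs⟩ := S.exists_sylow_P D
  obtain ⟨hcard, hTI, -⟩ := S.sylow_facts D
  have hb := S.v_bound
  set A := ∑ g ∈ Finset.univ.filter (fun g : G => g ∈ P ∧ g ≠ 1), S.vi g ^ 2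
  have hsum : ∑ g ∈ Finset.univ.filter (fun g : G => g ≠ 1 ∧ ∃ k, g ^ 3 ^ k = 1), S.vi g ^ 2 =
      ((C.D.q : ℤ) ^ 3 + 1) * A := by
    have hcover : (Finset.univ.filter (fun g : G => g ≠ 1 ∧ ∃ k, g ^ 3 ^ k = 1)) =
        (Finset.univ : Finset (Sylow 3 G)).biUnion fun Q => Finset.univ.filter fun g => g ∈ (Q : Subgroup G) ∧ g ≠ 1 := by
      ext g
      simp only [Finset.mem_filter, Finset.mem_univ, true_and, Finset.mem_biUnion]
      constructor
      · rintro ⟨hg1, k, hk⟩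
        obtain ⟨i, -, hi⟩ := (Nat.dvd_prime_pow Nat.prime_three).mp (orderOf_dvd_of_pow_eq_one hk)
        obtain ⟨Q, hQ⟩ := (IsPGroup.of_card (n := i) (by rw [Nat.card_zpowers, hi]) :
          IsPGroup 3 (Subgroup.zpowers g)).exists_le_sylow
        exact ⟨Q, hQ (Subgroup.mem_zpowers g), hg1⟩
      · rintro ⟨Q, hQ, hg1⟩
        obtain ⟨k, hk⟩ := Q.2 ⟨g, hQ⟩
        exact ⟨hg1, k, congrArg Subtype.val hk⟩
    rw [hcover, Finset.sum_biUnion]
    · have e : ∀ Q : Sylow 3 G, ∑ g ∈ Finset.univ.filter (fun g => g ∈ (Q : Subgroup G) ∧ g ≠ 1), S.vi g ^ 2 = A := by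
        intro Q
        obtain ⟨c, hc⟩ := MulAction.exists_smul_eq G Ps Q
        have hQ : ∀ g : G, g ∈ (Q : Subgroup G) ↔ c⁻¹ * g * c ∈ P := by
          intro g
          rw [← hc, Sylow.coe_subgroup_smul, hPs, Subgroup.mem_pointwise_smul_iff_inv_smul_mem]
          simp [MulAut.smul_def]
        refine Finset.sum_nbij' (fun g => c⁻¹ * g * c) (fun g => c * g * c⁻¹) ?_ ?_ ?_ ?_ ?_
        · intro g hg
          simp only [Finset.mem_filter, Finset.mem_univ, true_and, hQ] at hg ⊢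
          refine ⟨hg.1, fun e => hg.2 ?_⟩
          rw [show g = c * (c⁻¹ * g * c) * c⁻¹ by group, e]; group
        · intro g hg
          simp only [Finset.mem_filter, Finset.mem_univ, true_and, hQ] at hg ⊢
          exact ⟨by simpa [mul_assoc] using hg.1, fun e => hg.2 (conj_eq_one_iff.mp e)⟩
        · intro g _; group
        · intro g _; group
        · intro g _
          have := S.vi_conj c⁻¹ g
          rw [inv_inv] at this
          rw [this]
      rw [Finset.sum_congr rfl fun Q _ => e Q, Finset.sum_const, Finset.card_univ, ← Nat.card_eq_fintype_card, hcard,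
        nsmul_eq_mul]
      push_cast
      ring
    · intro Q _ Q' _ hne
      refine Finset.disjoint_left.mpr fun g hg hg' => hne ?_
      simp only [Finset.mem_filter, Finset.mem_univ, true_and] at hg hg'
      exact hTI Q Q' g hg.1 hg'.1 hg.2
  rw [hsum] at hb
  set n : ℤ := ((Cfg.invs G).card : ℤ) with hn
  have hnpos : 0 < n := by
    rw [hn, Nat.cast_pos, Finset.card_pos]
    exact ⟨C.t, Cfg.mem_invs.mpr ⟨C.t_sq, C.t_ne⟩⟩
  have hB : 0 ≤ ∑ x ∈ Finset.univ.filter (fun x : L => IsU x), S.vi (C.t * C.E x) ^ 2 :=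
    Finset.sum_nonneg fun _ _ => sq_nonneg _
  have hq3 : (0 : ℤ) < (C.D.q : ℤ) ^ 3 + 1 := by positivity
  refine ⟨le_of_mul_le_mul_left (by nlinarith) hq3, fun hA u hu => ?_⟩
  have h0 : n * ∑ x ∈ Finset.univ.filter (fun x : L => IsU x), S.vi (C.t * C.E x) ^ 2 ≤ 0 := by
    nlinarith
  have h1 : ∑ x ∈ Finset.univ.filter (fun x : L => IsU x), S.vi (C.t * C.E x) ^ 2 = 0 :=
    le_antisymm (nonpos_of_mul_nonpos_right h0 hnpos) hB
  exact pow_eq_zero_iff (n := 2) (by norm_num) |>.mp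
    ((Finset.sum_eq_zero_iff_of_nonneg fun _ _ => sq_nonneg _).mp h1 u (Finset.mem_filter.mpr ⟨Finset.mem_univ _, hu⟩))

/-- `q` divides the value of `v` at a central element. -/
theorem q_dvd_vi {x : G} (hx : ∀ g ∈ P, Commute g x) : (C.D.q : ℤ) ∣ S.vi x := by
  obtain ⟨n, ρ, hρ, hρχ⟩ := S.v.2
  haveI := hρ
  have h := isIntegral_index_mul_div ρ x
  set i := (Subgroup.centralizer ({x} : Set G)).index
  have hdeg : (Module.finrank ℂ (Fin n → ℂ) : ℂ) = ((C.D.q * reeW C : ℕ) : ℂ) := by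
    rw [← ρ.char_one, hρχ, (C.deg_spec S.v).1, S.deg_v]
    push_cast
    rfl
  rw [hρχ, hdeg, S.vi_spec] at h
  have hq : ((i : ℂ) * (S.vi x : ℂ) / ((C.D.q * reeW C : ℕ) : ℂ)) =
      (((i : ℚ) * (S.vi x : ℚ) / ((C.D.q * reeW C : ℕ) : ℚ) : ℚ) : ℂ) := by push_cast; rfl
  rw [hq] at h
  obtain ⟨m, hm⟩ := exists_int_of_isIntegral_ratCast h
  have hd0 : ((C.D.q * reeW C : ℕ) : ℚ) ≠ 0 := by
    have h1 := S.H.R.seven_q
    have h2 := S.W_pos
    exact Nat.cast_ne_zero.mpr (Nat.mul_ne_zero (by omega) (by exact_mod_cast h2.ne'))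
  rw [div_eq_iff hd0] at hm
  have h1 : (i : ℤ) * S.vi x = m * ((C.D.q * reeW C : ℕ) : ℤ) := by exact_mod_cast hm
  have hcop : Nat.Coprime C.D.q i := by
    obtain ⟨j, -, hj⟩ := S.H.R.pow
    rw [hj]
    refine Nat.Coprime.pow_left _ ((Nat.Prime.coprime_iff_not_dvd Nat.prime_three).mpr fun hd => ?_)
    have hle : P ≤ Subgroup.centralizer ({x} : Set G) := fun g hg =>
      Subgroup.mem_centralizer_singleton_iff.mpr (hx g hg)
    have h3 : 3 ∣ P.index := hd.trans (Subgroup.index_dvd_of_le hle)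
    have h4 := P.card_mul_index
    rw [D.card] at h4
    have h5 := (Nat.prime_three.pow_dvd_iff_le_factorization (k := 3 * (2 * _ + 1) + 1) Nat.card_pos.ne' (n := Nat.card G)).mp
      (show 3 ^ (3 * (2 * _ + 1) + 1) ∣ Nat.card G by
        rw [← h4, pow_succ, hj, ← pow_mul, mul_comm (2 * _ + 1) 3]; exact Nat.mul_dvd_mul_left _ h3)
    rw [(S.H.R.factorization_three hj).1] at h5
    omega
  have h2 : (C.D.q : ℤ) ∣ (i : ℤ) * S.vi x := by
    rw [h1]
    exact Dvd.dvd.mul_left (by push_cast; exact dvd_mul_right _ _) m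
  exact (Int.isCoprime_iff_nat_coprime.mpr (by simpa using hcop)).dvd_of_dvd_mul_left h2

/-- One central orbit carries all of `v`. -/
theorem profile {x : G} (hx : x ∈ P) (hx1 : x ≠ 1) (hc : ∀ g ∈ P, Commute g x) (hv : S.vi x ≠ 0) :
    (S.vi x = C.D.q ∨ S.vi x = -(C.D.q : ℤ)) ∧ (∀ y ∈ P, y ≠ 1 → y ∉ orb C x → S.vi y = 0) ∧
      ∀ u : L, IsU u → S.vi (C.t * C.E u) = 0 := by
  obtain ⟨hb, hb'⟩ := S.v_P D
  set T := Finset.univ.filter (fun g : G => g ∈ P ∧ g ≠ 1) with hT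
  have hsub : orb C x ⊆ T := fun y hy => by
    obtain ⟨h1, h2⟩ := orb_sub D.ZP hx hx1 hy
    simp [hT, h1, h2]
  rw [← Finset.sum_sdiff hsub, Finset.sum_congr rfl (s₁ := orb C x) (g := fun _ => S.vi x ^ 2)
    (fun y hy => by rw [S.orb_vi hy]), Finset.sum_const, nsmul_eq_mul] at hb hb'
  have hoc : ((orb C x).card : ℤ) = (C.D.q : ℤ) - 1 := by
    have := S.orb_card D hx hx1
    omega
  rw [hoc] at hb hb'
  obtain ⟨k, hk⟩ := S.q_dvd_vi D hc
  have hk0 : k ≠ 0 := fun e => hv (by rw [hk, e, mul_zero])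
  have hq : (27 : ℤ) ≤ C.D.q := S.q_pos
  have hR : 0 ≤ ∑ g ∈ T \ orb C x, S.vi g ^ 2 := Finset.sum_nonneg fun _ _ => sq_nonneg _
  have hk2 : 1 ≤ k ^ 2 := Int.add_one_le_iff.mpr (sq_pos_iff.mpr hk0)
  rw [hk] at hb hb'
  have hkle : k ^ 2 ≤ 1 := by
    have hpos : (0 : ℤ) < ((C.D.q : ℤ) - 1) * (C.D.q : ℤ) ^ 2 := mul_pos (by linarith) (by positivity)
    refine le_of_mul_le_mul_left ?_ hpos
    linarith
  have hk1 : k ^ 2 = 1 := le_antisymm hkle hk2
  have hsum0 : ∑ g ∈ T \ orb C x, S.vi g ^ 2 = 0 := by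
    rw [mul_pow, hk1] at hb
    linarith
  refine ⟨?_, fun y hy hy1 hyo => ?_, hb' (by rw [mul_pow, hk1]; linarith)⟩
  · rcases sq_eq_one_iff.mp hk1 with rfl | rfl
    · exact Or.inl (by rw [hk, mul_one])
    · exact Or.inr (by rw [hk]; ring)
  · exact pow_eq_zero_iff (n := 2) (by norm_num) |>.mp
      ((Finset.sum_eq_zero_iff_of_nonneg fun _ _ => sq_nonneg _).mp hsum0 y
        (Finset.mem_sdiff.mpr ⟨by simp [hT, hy, hy1], hyo⟩))

omit D in
/-- The sums of `v` against a character on a central subgroup of a subgroup. -/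
theorem mult (Q : Subgroup G) (hQ : IsPGroup 3 Q) (Z₁ : Subgroup Q) (hZ : ∀ z ∈ Z₁, ∀ h : Q, Commute h z)
    (θ : IrrCharacter Q) :
    ∃ k : ℕ, ∑ z ∈ Finset.univ.filter (· ∈ Z₁), (S.vi (z : G) : ℂ) * conj ((θ : Q → ℂ) z) =
        (Nat.card Z₁ : ℂ) * (θ : Q → ℂ) 1 * k ∧
      (Z₁ ≤ commutator Q → (∃ z ∈ Z₁, (θ : Q → ℂ) z ≠ (θ : Q → ℂ) 1) → 3 ∣ k) := by
  haveI : Fact (Nat.Prime 3) := ⟨Nat.prime_three⟩
  set f : Q → ℂ := fun z => (S.v : G → ℂ) (z : G) with hf
  have hfc : IsCharacter Q f := isCharacter_restrict (isCharacter_of_irr S.v.2) Q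
  choose m hm using fun φ : IrrCharacter Q => classInner_char_nat hfc (isCharacter_of_irr φ.2)
  choose d hd hd1 using fun φ : IrrCharacter Q => irr_degree_pos φ.2
  let full : IrrCharacter Q → Prop := fun φ => ∀ z ∈ Z₁, (φ : Q → ℂ) z * conj ((θ : Q → ℂ) z) =
    (φ : Q → ℂ) 1 * (θ : Q → ℂ) 1
  have hS : ∀ φ : IrrCharacter Q, ∑ z ∈ Finset.univ.filter (· ∈ Z₁), (φ : Q → ℂ) z * conj ((θ : Q → ℂ) z) =
      if full φ then (Nat.card Z₁ : ℂ) * ((φ : Q → ℂ) 1 * (θ : Q → ℂ) 1) else 0 := by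
    intro φ
    rcases central_orth Z₁ hZ φ θ with ⟨h1, h2⟩ | h2
    · rw [if_pos h1, h2]
    · split_ifs with h
      · rw [Finset.sum_congr rfl (g := fun _ => (φ : Q → ℂ) 1 * (θ : Q → ℂ) 1)
          (fun z hz => h z (Finset.mem_filter.mp hz).2), Finset.sum_const, nsmul_eq_mul, ← Fintype.card_subtype,
          ← Nat.card_eq_fintype_card]
      · exact h2
  refine ⟨∑ φ : IrrCharacter Q, if full φ then m φ * d φ else 0, ?_, fun hle hθ => ?_⟩
  · have hexp : ∀ z : Q, (S.vi (z : G) : ℂ) = ∑ φ : IrrCharacter Q, (m φ : ℂ) * (φ : Q → ℂ) z := by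
      intro z
      have h := congrFun (eq_sum_irr (isClassFunction_char hfc)) z
      simp only [Finset.sum_apply, Pi.smul_apply, smul_eq_mul, hm] at h
      rw [← h]
      exact (S.vi_spec _).symm
    simp only [hexp, Finset.sum_mul]
    rw [Finset.sum_comm, Nat.cast_sum, Finset.mul_sum]
    refine Finset.sum_congr rfl fun φ _ => ?_
    simp only [mul_assoc, ← Finset.mul_sum]
    rw [hS φ]
    split_ifs with h
    · rw [hd1 φ]; push_cast; ring
    · simp
  · refine Finset.dvd_sum fun φ _ => ?_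
    split_ifs with hfull
    · refine Dvd.dvd.mul_left ?_ _
      obtain ⟨n, ρ, hρ, hρχ⟩ := φ.2
      haveI := hρ
      obtain ⟨e, he⟩ := IsPGroup.iff_card.mp hQ
      have h2 : d φ ∣ 3 ^ e := by
        have h3 := finrank_dvd_card ρ
        have h4 : ((Module.finrank ℂ (Fin n → ℂ) : ℕ) : ℂ) = (d φ : ℂ) := by
          rw [← ρ.char_one, hρχ, hd1 φ]
        rwa [Nat.cast_inj.mp h4, he] at h3
      obtain ⟨i, -, hi⟩ := (Nat.dvd_prime_pow Nat.prime_three).mp h2
      rcases i with _ | i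
      · exfalso
        obtain ⟨z, hz, hne⟩ := hθ
        have h1 : (φ : Q → ℂ) 1 = 1 := by rw [hd1 φ, hi]; simp
        have h5 := hfull z hz
        rw [degree_one_commutator h1 (hle hz), h1, one_mul, one_mul] at h5
        refine hne ?_
        have h6 := congrArg (starRingEnd ℂ) h5
        rwa [Complex.conj_conj, conj_degree] at h6
      · exact hi ▸ dvd_pow_self 3 (by omega)
    · exact dvd_zero 3

omit D in
theorem W_mod_three : ¬ (3 : ℤ) ∣ (reeW C : ℤ) := by
  obtain ⟨k, hk⟩ := S.H.R.three_dvd_q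
  rw [S.W_eq, hk]
  push_cast
  rintro ⟨j, hj⟩
  have : (3 : ℤ) ∣ 1 := ⟨j - (3 * k * k - k), by linear_combination hj⟩
  omega

end Sys

/-- The centre of `P`. -/
structure CData (C : Cfg G L) (P : Subgroup G) : Prop where
  card : Nat.card (P ⊓ Subgroup.centralizer (P : Set G) : Subgroup G) = C.D.q
  derived : P ⊓ Subgroup.centralizer (P : Set G) ≤ ⁅P, P⁆
  shift : ∀ x ∈ P, x ∉ P ⊓ Subgroup.centralizer (P : Set G) → ∀ c ∈ P ⊓ Subgroup.centralizer (P : Set G),
    ∃ g ∈ P, g * x * g⁻¹ = x * c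
  inverted : ∀ c ∈ P ⊓ Subgroup.centralizer (P : Set G), C.t * c * C.t⁻¹ = c⁻¹

namespace Sys

variable (S : Sys C) {P : Subgroup G} {U₀ : Subgroup L} (D : PData C P U₀)
include S D

set_option maxHeartbeats 1600000 in
theorem cData : CData C P := by
  haveI : Fact (Nat.Prime 3) := ⟨Nat.prime_three⟩
  set N := Subgroup.normalizer (P : Set G) with hN
  set Zc := P ⊓ Subgroup.centralizer (P : Set G) with hZc
  have hcomm : ∀ c ∈ Zc, ∀ g ∈ P, Commute g c := fun c hc g hg => Subgroup.mem_centralizer_iff.mp hc.2 g hg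
  set K := Zc ⊓ ⁅P, P⁆ with hK
  have hKP : K ≤ P := fun x hx => hx.1.1
  -- invariance under the normaliser
  have hZcN : ∀ g ∈ N, ∀ c ∈ Zc, g * c * g⁻¹ ∈ Zc := by
    intro g hg c hc
    refine ⟨(Subgroup.mem_normalizer_iff.mp hg c).mp hc.1, Subgroup.mem_centralizer_iff.mpr fun p hp => ?_⟩
    have hp' : g⁻¹ * p * g ∈ P := (Subgroup.mem_normalizer_iff''.mp hg p).mp hp
    have h := (hcomm c hc _ hp').eq
    calc p * (g * c * g⁻¹) = g * (g⁻¹ * p * g * c) * g⁻¹ := by group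
      _ = g * (c * (g⁻¹ * p * g)) * g⁻¹ := by rw [h]
      _ = g * c * g⁻¹ * p := by group
  have hderN : ∀ g ∈ N, ∀ c ∈ ⁅P, P⁆, g * c * g⁻¹ ∈ ⁅P, P⁆ := by
    intro g hg c hc
    have hle : ⁅P, P⁆ ≤ (⁅P, P⁆).comap (MulAut.conj g).toMonoidHom := by
      rw [Subgroup.commutator_le]
      intro a ha b hb
      show g * ⁅a, b⁆ * g⁻¹ ∈ ⁅P, P⁆
      rw [show g * ⁅a, b⁆ * g⁻¹ = ⁅g * a * g⁻¹, g * b * g⁻¹⁆ by rw [commutatorElement_def, commutatorElement_def]; group]
      exact Subgroup.commutator_mem_commutator ((Subgroup.mem_normalizer_iff.mp hg a).mp ha)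
        ((Subgroup.mem_normalizer_iff.mp hg b).mp hb)
    exact hle hc
  have hKN : ∀ g ∈ N, ∀ c ∈ K, g * c * g⁻¹ ∈ K := fun g hg c hc => ⟨hZcN g hg c hc.1, hderN g hg c hc.2⟩
  have htN : C.t ∈ N := Subgroup.mem_normalizer_fintype D.tP
  have hZN : ∀ k ∈ C.D.Z, C.E k ∈ N := fun k hk => Subgroup.mem_normalizer_fintype (D.ZP k hk)
  have hKZ : ∀ k ∈ C.D.Z, ∀ x ∈ K, C.E k * x * (C.E k)⁻¹ ∈ K := fun k hk x hx => hKN _ (hZN k hk) x hx
  -- characters of `P`
  set Z₁ := K.subgroupOf P with hZ₁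
  have hZ₁c : ∀ z ∈ Z₁, ∀ h : P, Commute h z := fun z hz h => Subtype.ext (hcomm _ hz.1 h h.2).eq
  have hZ₁d : Z₁ ≤ commutator P := by
    intro z hz
    have h : (z : G) ∈ (commutator P).map P.subtype := by
      rw [_root_.commutator_def, Subgroup.map_commutator, ← MonoidHom.range_eq_map, Subgroup.range_subtype]
      exact hz.2
    obtain ⟨w, hw, hwz⟩ := h
    rwa [← Subtype.ext (a1 := w) (a2 := z) hwz]
  have hcardK : Nat.card Z₁ = Nat.card K := Nat.card_congr (Subgroup.subgroupOfEquivOfLe hKP).toEquiv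
  -- `K` is not trivial
  obtain ⟨a, hne, ha⟩ : ∃ a : ℕ, 1 ≤ a ∧ Nat.card K = C.D.q ^ a := by
    obtain ⟨a, ha⟩ := S.card_invariant D hKP hKZ
    refine ⟨a, ?_, ha⟩
    rcases Nat.eq_zero_or_pos a with rfl | h
    · exfalso
      obtain ⟨Q, hQ⟩ := exists_nonabelian_three S.H.R S.H.hu
      obtain ⟨Ps, hPs⟩ := S.exists_sylow_P D
      haveI : Group.IsNilpotent P := D.pgroup.isNilpotent
      have hder : commutator P ≠ ⊥ := by
        intro e
        refine hQ fun p p' => ?_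
        obtain ⟨c, hc⟩ := MulAction.exists_smul_eq G Ps Q
        have hmem : ∀ g ∈ (Q : Subgroup G), c⁻¹ * g * c ∈ P := by
          intro g hg
          rw [← hc, Sylow.coe_subgroup_smul, hPs, Subgroup.mem_pointwise_smul_iff_inv_smul_mem] at hg
          simpa [MulAut.smul_def] using hg
        have hcm : ∀ a b : P, Commute a b := fun a b => by
          have h := Subgroup.commutator_mem_commutator (Subgroup.mem_top a) (Subgroup.mem_top b)
          rw [← _root_.commutator_def, e, Subgroup.mem_bot, commutatorElement_eq_one_iff_mul_comm] at h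
          exact h
        have h := congrArg Subtype.val (hcm ⟨_, hmem p p.2⟩ ⟨_, hmem p' p'.2⟩).eq
        refine Subtype.ext ?_
        simp only [Subgroup.coe_mul] at h ⊢
        calc (p : G) * p' = c * (c⁻¹ * p * c * (c⁻¹ * p' * c)) * c⁻¹ := by group
          _ = c * (c⁻¹ * p' * c * (c⁻¹ * p * c)) * c⁻¹ := by rw [h]
          _ = p' * p := by group
      refine CfsgLib.inf_center_ne_bot_of_nilpotent hder ((Subgroup.eq_bot_iff_forall _).mpr fun z hz => ?_)
      have hzK : (z : G) ∈ K := by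
        refine ⟨⟨z.2, Subgroup.mem_centralizer_iff.mpr fun g hg => ?_⟩, ?_⟩
        · exact congrArg Subtype.val (Subgroup.mem_center_iff.mp hz.2 ⟨g, hg⟩)
        · have h := Subgroup.mem_map_of_mem P.subtype hz.1
          rwa [_root_.commutator_def, Subgroup.map_commutator, ← MonoidHom.range_eq_map, Subgroup.range_subtype] at h
      rw [pow_zero, Subgroup.card_eq_one] at ha
      rw [ha, Subgroup.mem_bot] at hzK
      exact Subtype.ext hzK
    · exact h
  have hq : 27 ≤ C.D.q := S.H.R.seven_q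
  have hq0 : (C.D.q : ℂ) ≠ 0 := Nat.cast_ne_zero.mpr (by omega)
  obtain ⟨b, rfl⟩ : ∃ b, a = b + 1 := ⟨a - 1, by omega⟩
  -- a character non-trivial on `Z₁`
  have hnt : ∃ θ : IrrCharacter P, ∃ z ∈ Z₁, (θ : P → ℂ) z ≠ (θ : P → ℂ) 1 := by
    by_contra h
    push Not at h
    obtain ⟨c, hc, hc1⟩ : ∃ c ∈ K, c ≠ 1 := by
      by_contra h'
      push Not at h'
      rw [(Subgroup.eq_bot_iff_forall _).mpr h', Subgroup.card_bot] at ha
      have : C.D.q ≤ C.D.q ^ (b + 1) := Nat.le_self_pow (by omega) _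
      omega
    obtain ⟨g, hg⟩ := isConj_iff.mp (isConj_of_forall_irr fun θ => h θ ⟨c, hKP hc⟩ hc)
    exact hc1 (congrArg Subtype.val (conj_eq_one_iff.mp hg : (⟨c, hKP hc⟩ : P) = 1))
  have hW3 := S.W_mod_three
  have hv1 : S.vi (((1 : P) : G)) = (C.D.q : ℤ) * reeW C :=
    S.vi_eq_of (by rw [OneMemClass.coe_one, (C.deg_spec S.v).1, S.deg_v])
  set F := Finset.univ.filter (fun z : P => z ∈ Z₁) with hF
  have h1F : (1 : P) ∈ F := by simp [hF]
  -- a central orbit
  obtain ⟨x, hxK, hx1, hvx⟩ : ∃ x ∈ K, x ≠ 1 ∧ S.vi x ≠ 0 := by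
    by_contra h
    push Not at h
    obtain ⟨θ, hθ⟩ := hnt
    obtain ⟨k, hk, hk3⟩ := S.mult P D.pgroup Z₁ hZ₁c θ
    obtain ⟨k', rfl⟩ := hk3 hZ₁d hθ
    rw [hcardK, ha, Finset.sum_eq_single_of_mem 1 h1F (fun z hz hz1 => by
      rw [h (z : G) (Finset.mem_filter.mp hz).2 (fun e => hz1 (Subtype.ext e)), Int.cast_zero, zero_mul]), hv1,
      conj_degree] at hk
    have h1 : ((reeW C : ℕ) : ℂ) = (((C.D.q ^ b) * (3 * k') : ℕ) : ℂ) := by
      refine mul_right_cancel₀ (mul_ne_zero hq0 (irr_ne_zero θ.2)) ?_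
      push_cast at hk ⊢
      linear_combination hk
    exact hW3 ⟨((C.D.q ^ b * k' : ℕ) : ℤ), by rw [Nat.cast_inj.mp h1]; push_cast; ring⟩
  obtain ⟨hvq, hv0, htU⟩ := S.profile D (hKP hxK) hx1 (hcomm x hxK.1) hvx
  -- the sums on `Z₁`
  set O := F.filter (fun z : P => (z : G) ∈ orb C x) with hO
  have h1O : (1 : G) ∉ orb C x := fun e => (orb_sub D.ZP (hKP hxK) hx1 e).2 rfl
  have hOcard : O.card + 1 = C.D.q := by
    rw [← S.orb_card D (hKP hxK) hx1]
    congr 1
    refine Finset.card_bij (fun z _ => (z : G)) (fun z hz => (Finset.mem_filter.mp hz).2)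
      (fun z _ z' _ e => Subtype.ext e) fun g hg => ?_
    obtain ⟨hgK, -⟩ := orb_sub hKZ hxK hx1 hg
    exact ⟨⟨g, hKP hgK⟩, Finset.mem_filter.mpr ⟨Finset.mem_filter.mpr ⟨Finset.mem_univ _, hgK⟩, hg⟩, rfl⟩
  have h1Of : (1 : P) ∉ O := fun h => h1O (Finset.mem_filter.mp h).2
  have hsum : ∀ θ : IrrCharacter P, ∑ z ∈ F, (S.vi (z : G) : ℂ) * conj ((θ : P → ℂ) z) =
      (C.D.q : ℂ) * (reeW C : ℂ) * (θ : P → ℂ) 1 + (S.vi x : ℂ) * ∑ z ∈ O, conj ((θ : P → ℂ) z) := by
    intro θ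
    have hsub : insert (1 : P) O ⊆ F := Finset.insert_subset h1F (Finset.filter_subset _ _)
    rw [← Finset.sum_subset hsub (fun z hz hzn => by
      simp only [Finset.mem_insert, not_or] at hzn
      rw [hv0 _ z.2 (fun e => hzn.1 (Subtype.ext e)) (fun e => hzn.2 (Finset.mem_filter.mpr ⟨hz, e⟩)),
        Int.cast_zero, zero_mul]),
      Finset.sum_insert h1Of, hv1, conj_degree, Finset.mul_sum]
    refine congrArg₂ (· + ·) (by push_cast; ring) (Finset.sum_congr rfl fun z hz => ?_)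
    rw [S.orb_vi (Finset.mem_filter.mp hz).2]
  -- the trivial character: the sign
  obtain ⟨k₁, hk₁, -⟩ := S.mult P D.pgroup Z₁ hZ₁c (Blocks.oneIrr P)
  rw [hcardK, ha, hsum] at hk₁
  simp only [show ∀ z, ((Blocks.oneIrr P : IrrCharacter P) : P → ℂ) z = 1 from fun _ => rfl, map_one,
    Finset.sum_const, nsmul_one, mul_one] at hk₁
  have hO1 : (O.card : ℤ) = (C.D.q : ℤ) - 1 := by omega
  have hOC : (O.card : ℂ) = (C.D.q : ℂ) - 1 := by rw [← hOcard]; push_cast; ring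
  have hW : (reeW C : ℤ) = (C.D.q : ℤ) * C.D.q - C.D.q + 1 := S.W_eq
  have hfull : ∀ θ : IrrCharacter P, (∃ z ∈ Z₁, (θ : P → ℂ) z ≠ (θ : P → ℂ) 1) →
      ∑ z ∈ F, conj ((θ : P → ℂ) z) = 0 := by
    rintro θ ⟨z, hz, hne⟩
    have h1 : ∀ w : P, ((Blocks.oneIrr P : IrrCharacter P) : P → ℂ) w = 1 := fun _ => rfl
    rcases central_orth Z₁ hZ₁c (Blocks.oneIrr P) θ with ⟨hh, -⟩ | hh
    · exfalso
      refine hne ?_
      have h2 := hh z hz
      rw [h1, h1, one_mul, one_mul] at h2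
      have h3 := congrArg (starRingEnd ℂ) h2
      rwa [Complex.conj_conj, conj_degree] at h3
    · simp only [h1, one_mul] at hh
      exact hh
  obtain ⟨θ₀, hθ₀⟩ := hnt
  have hε : S.vi x = C.D.q := by
    refine hvq.resolve_right fun e => ?_
    rcases Nat.eq_zero_or_pos b with rfl | hb
    · obtain ⟨k, hk, hk3⟩ := S.mult P D.pgroup Z₁ hZ₁c θ₀
      obtain ⟨k', rfl⟩ := hk3 hZ₁d hθ₀
      have hFO : F = insert 1 O := by
        refine (Finset.eq_of_subset_of_card_le (Finset.insert_subset h1F (Finset.filter_subset _ _)) ?_).symm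
        rw [Finset.card_insert_of_notMem h1Of, hOcard, hF,
          ← Fintype.card_subtype, ← Nat.card_eq_fintype_card, hcardK, ha, zero_add, pow_one]
      have h0 := hfull θ₀ hθ₀
      rw [hFO, Finset.sum_insert h1Of, conj_degree] at h0
      rw [hcardK, ha, hsum, e] at hk
      have h1 : ((reeW C : ℕ) : ℂ) + 1 = ((3 * k' : ℕ) : ℂ) := by
        refine mul_right_cancel₀ (mul_ne_zero hq0 (irr_ne_zero θ₀.2)) ?_
        push_cast at hk ⊢
        linear_combination hk + (C.D.q : ℂ) * h0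
      obtain ⟨j, hj⟩ := S.H.R.three_dvd_q
      have h2 : (reeW C : ℤ) + 1 = 3 * (k' : ℤ) := by exact_mod_cast h1
      rw [hW, hj] at h2
      push_cast at h2
      have : (3 : ℤ) ∣ 2 := ⟨(k' : ℤ) - (3 * j * j - j), by linear_combination h2⟩
      omega
    · have h1 : ((C.D.q : ℤ) * reeW C - C.D.q * ((C.D.q : ℤ) - 1) : ℤ) = (((C.D.q ^ (b + 1) * k₁ : ℕ) : ℤ)) := by
        rw [← hO1]
        apply Int.cast_injective (α := ℂ)
        push_cast
        rw [e] at hk₁
        push_cast at hk₁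
        linear_combination hk₁
      obtain ⟨c, rfl⟩ : ∃ c, b = c + 1 := ⟨b - 1, by omega⟩
      have hd : (C.D.q : ℤ) ∣ 2 := by
        refine ⟨(C.D.q : ℤ) ^ c * k₁ + 2 - C.D.q, ?_⟩
        refine mul_left_cancel₀ (show (C.D.q : ℤ) ≠ 0 by omega) ?_
        rw [hW] at h1
        push_cast at h1
        linear_combination h1
      have := Int.le_of_dvd (by norm_num) hd
      omega
  -- `|K| = q`
  have hb0 : b = 0 := by
    by_contra hb
    obtain ⟨c, rfl⟩ : ∃ c, b = c + 1 := ⟨b - 1, by omega⟩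
    refine hx1 ?_
    have key : ∀ θ : IrrCharacter P, (θ : P → ℂ) ⟨x, hKP hxK⟩ = (θ : P → ℂ) 1 := by
      intro θ
      by_cases hθ : ∃ z ∈ Z₁, (θ : P → ℂ) z ≠ (θ : P → ℂ) 1
      · obtain ⟨k, hk, hk3⟩ := S.mult P D.pgroup Z₁ hZ₁c θ
        obtain ⟨k', rfl⟩ := hk3 hZ₁d hθ
        rw [hcardK, ha, hsum, hε] at hk
        obtain ⟨d, hd0, hd⟩ := irr_degree_pos θ.2
        set s : ℤ := (C.D.q : ℤ) ^ (c + 1) * (3 * k') - reeW C with hs
        have hS : ∑ z ∈ O, conj ((θ : P → ℂ) z) = ((s * d : ℤ) : ℂ) := by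
          refine mul_left_cancel₀ hq0 ?_
          rw [hd] at hk
          rw [hs]
          push_cast at hk ⊢
          linear_combination hk
        have hre := congrArg Complex.re hS
        rw [Complex.re_sum, Complex.intCast_re] at hre
        have hle : ∀ z : P, (conj ((θ : P → ℂ) z)).re ≤ (d : ℝ) ∧ -(d : ℝ) ≤ (conj ((θ : P → ℂ) z)).re := fun z => by
          rw [Complex.conj_re]
          have := re_le_degree (isCharacter_of_irr θ.2) z
          rwa [hd, Complex.natCast_re] at this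
        have hO2 : ((O.card : ℕ) : ℝ) = (C.D.q : ℝ) - 1 := by rw [← hOcard]; push_cast; ring
        have hub : ((s * d : ℤ) : ℝ) ≤ ((C.D.q : ℝ) - 1) * d := by
          rw [← hre, ← hO2]
          refine (Finset.sum_le_card_nsmul _ _ _ fun z _ => (hle z).1).trans (le_of_eq ?_)
          rw [nsmul_eq_mul]
        have hlb : -(((C.D.q : ℝ) - 1) * d) ≤ ((s * d : ℤ) : ℝ) := by
          rw [← hre, ← hO2]
          refine le_trans (le_of_eq ?_) (Finset.card_nsmul_le_sum _ _ _ fun z _ => (hle z).2)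
          rw [nsmul_eq_mul]
          ring
        have hs1 : s ≤ (C.D.q : ℤ) - 1 ∧ -((C.D.q : ℤ) - 1) ≤ s := by
          have hd' : (0 : ℝ) < (d : ℝ) := Nat.cast_pos.mpr hd0
          push_cast at hub hlb
          refine ⟨Int.cast_le (R := ℝ).mp ?_, Int.cast_le (R := ℝ).mp ?_⟩ <;> push_cast
          · nlinarith
          · nlinarith
        have hseq : s = (C.D.q : ℤ) - 1 := by
          obtain ⟨j, hj⟩ := S.H.R.three_dvd_q
          have hdiv : 3 * (C.D.q : ℤ) ∣ s - ((C.D.q : ℤ) - 1) := by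
            refine ⟨(C.D.q : ℤ) ^ c * k' - j, ?_⟩
            have hj' : (C.D.q : ℤ) = 3 * j := by exact_mod_cast hj
            rw [hs, hW]
            linear_combination (-(C.D.q : ℤ)) * hj'
          have := Int.eq_zero_of_abs_lt_dvd hdiv (by rw [abs_lt]; omega)
          omega
        have heq : ∀ z ∈ O, (conj ((θ : P → ℂ) z)).re = (d : ℝ) := by
          refine (Finset.sum_eq_sum_iff_of_le fun z _ => (hle z).1).mp ?_
          rw [hre, hseq, Finset.sum_const, nsmul_eq_mul, ← hO1]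
          push_cast
          rfl
        have hxO : (⟨x, hKP hxK⟩ : P) ∈ O :=
          Finset.mem_filter.mpr ⟨Finset.mem_filter.mpr ⟨Finset.mem_univ _, hxK⟩, self_mem_orb x⟩
        have h1 := heq _ hxO
        rw [Complex.conj_re] at h1
        have h2 := norm_char_le (isCharacter_of_irr θ.2) (⟨x, hKP hxK⟩ : P)
        rw [hd, Complex.norm_natCast, ← h1] at h2
        have h3 := Complex.re_eq_norm.mp (le_antisymm (Complex.re_le_norm _) h2)
        rw [hd]
        refine Complex.ext (by rw [h1, Complex.natCast_re]) ?_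
        rw [Complex.natCast_im]
        exact (Complex.le_def.mp h3).2.symm
      · push Not at hθ
        exact hθ _ hxK
    obtain ⟨g, hg⟩ := isConj_iff.mp (isConj_of_forall_irr key)
    exact congrArg Subtype.val (conj_eq_one_iff.mp hg : (⟨x, hKP hxK⟩ : P) = 1)
  subst hb0
  rw [zero_add, pow_one] at ha
  -- the values of `v` on `P`
  have hOK : ∀ c ∈ K, c ≠ 1 → c ∈ orb C x := by
    have hFO : insert 1 O = F := by
      refine Finset.eq_of_subset_of_card_le (Finset.insert_subset h1F (Finset.filter_subset _ _)) ?_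
      rw [Finset.card_insert_of_notMem h1Of, hOcard, hF,
        ← Fintype.card_subtype, ← Nat.card_eq_fintype_card, hcardK, ha]
    intro c hc hc1
    have hcF : (⟨c, hKP hc⟩ : P) ∈ F := Finset.mem_filter.mpr ⟨Finset.mem_univ _, hc⟩
    rw [← hFO, Finset.mem_insert] at hcF
    rcases hcF with e | e
    · exact absurd (congrArg Subtype.val e) hc1
    · exact (Finset.mem_filter.mp e).2
  -- characters non-trivial on `K` vanish outside
  have hvan : ∀ θ : IrrCharacter P, (∃ z ∈ Z₁, (θ : P → ℂ) z ≠ (θ : P → ℂ) 1) → ∀ y ∉ Z₁, (θ : P → ℂ) y = 0 := by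
    intro θ hθ y hy
    refine vanish_outside Z₁ hZ₁c θ ?_ hy
    have hcharf : IsCharacter P fun z : P => (S.v : G → ℂ) (z : G) :=
      isCharacter_restrict (isCharacter_of_irr S.v.2) P
    obtain ⟨m, hm⟩ := classInner_char_nat hcharf (isCharacter_of_irr θ.2)
    rw [classInner, D.card] at hm
    simp only [S.vi_spec] at hm
    have hout : ∑ z : P, (S.vi (z : G) : ℂ) * conj ((θ : P → ℂ) z) =
        ∑ z ∈ F, (S.vi (z : G) : ℂ) * conj ((θ : P → ℂ) z) := by
      refine (Finset.sum_subset (Finset.subset_univ F) fun z _ hz => ?_).symm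
      rw [hv0 _ z.2 (fun e => hz (by rw [show z = 1 from Subtype.ext e]; exact h1F)) (fun e => hz (by
        simp only [hF, Finset.mem_filter, Finset.mem_univ, true_and]
        exact (orb_sub hKZ hxK hx1 e).1)), Int.cast_zero, zero_mul]
    have h0 := hfull θ hθ
    have hFO : F = insert 1 O := by
      ext z
      simp only [Finset.mem_insert, hO, Finset.mem_filter]
      constructor
      · intro hz
        by_cases e : z = 1
        · exact Or.inl e
        · exact Or.inr ⟨hz, hOK _ (Finset.mem_filter.mp hz).2 fun e' => e (Subtype.ext e')⟩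
      · rintro (rfl | h)
        · exact h1F
        · exact h.1
    rw [hFO, Finset.sum_insert h1Of, conj_degree] at h0
    rw [hout, hsum, hε, inv_mul_eq_iff_eq_mul₀ (by simp; omega)] at hm
    obtain ⟨d, hd0, hd⟩ := irr_degree_pos θ.2
    rw [hd] at hm h0
    have hmq : d * (C.D.q - 1) = C.D.q * m := by
      have hW' : (reeW C : ℂ) = (C.D.q : ℂ) * C.D.q - C.D.q + 1 := by exact_mod_cast hW
      apply Nat.cast_injective (R := ℂ)
      rw [Nat.cast_mul, Nat.cast_mul, Nat.cast_sub (by omega), Nat.cast_one]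
      refine mul_left_cancel₀ (pow_ne_zero 2 hq0) ?_
      push_cast at hm
      rw [hW'] at hm
      linear_combination hm - (C.D.q : ℂ) * h0
    have hdvd : C.D.q ∣ d := by
      refine Nat.Coprime.dvd_of_dvd_mul_right ?_ ⟨m, hmq⟩
      have h := Nat.coprime_self_add_left (m := C.D.q - 1) (n := 1)
      rw [show C.D.q - 1 + 1 = C.D.q by omega] at h
      exact h.mpr (Nat.coprime_one_left _)
    obtain ⟨e, rfl⟩ := hdvd
    have hnorm : (C.D.q : ℝ) * ((C.D.q * e : ℕ) : ℝ) ^ 2 ≤ (C.D.q : ℝ) ^ 3 := by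
      have h := sum_norm_sq_irr θ.2
      rw [D.card] at h
      push_cast at h
      rw [← h]
      refine le_trans (le_of_eq ?_) (Finset.sum_le_sum_of_subset_of_nonneg (Finset.subset_univ F)
        fun _ _ _ => sq_nonneg _)
      rw [Finset.sum_congr rfl (g := fun _ => ((C.D.q * e : ℕ) : ℝ) ^ 2) ?_, Finset.sum_const, nsmul_eq_mul, hF,
        ← Fintype.card_subtype, ← Nat.card_eq_fintype_card, hcardK, ha]
      intro z hz
      rcases central_orth Z₁ hZ₁c θ θ with ⟨hh, -⟩ | hh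
      · have h' := hh z (Finset.mem_filter.mp hz).2
        rw [Complex.mul_conj, Complex.normSq_eq_norm_sq, hd] at h'
        rw [pow_two (((C.D.q * e : ℕ) : ℝ))]
        exact_mod_cast h'
      · exfalso
        simp only [Complex.mul_conj] at hh
        rw [← Complex.ofReal_sum, Complex.ofReal_eq_zero,
          Finset.sum_eq_zero_iff_of_nonneg fun g _ => Complex.normSq_nonneg _] at hh
        exact irr_ne_zero θ.2 (Complex.normSq_eq_zero.mp (hh 1 h1F))
    have he : e = 1 := by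
      have h1 : (C.D.q : ℝ) ^ 3 * ((e : ℝ) ^ 2) ≤ (C.D.q : ℝ) ^ 3 * 1 := by
        push_cast at hnorm; linarith
      have h2 := le_of_mul_le_mul_left h1 (by positivity)
      have h3 : e ^ 2 ≤ 1 := by exact_mod_cast h2
      have h4 : 1 ≤ e := Nat.pos_of_ne_zero fun e0 => by simp [e0] at hd0
      nlinarith
    subst he
    rw [hcardK, ha, D.card, hd]
    push_cast
    ring
  have hshift : ∀ y ∈ P, y ∉ K → ∀ c ∈ K, ∃ g ∈ P, g * y * g⁻¹ = y * c := by
    intro y hy hyK c hc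
    obtain ⟨g, hg⟩ := isConj_iff.mp (conj_shift Z₁ hZ₁c hvan (x := ⟨y, hy⟩) (c := ⟨c, hKP hc⟩) hyK hc)
    exact ⟨g, g.2, congrArg Subtype.val hg⟩
  have hKeq : K = Zc := by
    refine le_antisymm inf_le_left fun y hy => by_contra fun hyK => ?_
    obtain ⟨g, hg, hge⟩ := hshift y hy.1 hyK x hxK
    rw [(hcomm y hy g hg).eq, mul_inv_cancel_right] at hge
    exact hx1 (mul_left_cancel (hge.symm.trans (mul_one y).symm))
  refine ⟨?_, hKeq.symm.le.trans inf_le_right, fun y hy hyn c hc => hshift y hy (hKeq ▸ hyn) c (hKeq ▸ hc), fun c hc => ?_⟩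
  · show Nat.card Zc = C.D.q
    rw [← hKeq, ha]
  · refine inverts_of_fpf C.t_sq Zc (fun a ha => hZcN _ htN a ha) (fun a ha hat => by_contra fun ha1 => ?_) c hc
    obtain ⟨u, hu, rfl⟩ := D.P_t a ha.1 hat
    have hv : S.vi (C.E u) = C.D.q := by
      rw [S.orb_vi (hOK _ (hKeq ▸ ha) ha1), hε]
    have hU : IsU u := ⟨fun e => ha1 (by rw [e, map_one]), by
      obtain ⟨j, hj⟩ := pow_three D ha.1
      exact S.H.hu.exp3 u j (C.E_inj (by rw [map_pow, hj, map_one]))⟩
    have hp := S.parity S.vi_spec u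
    rw [htU u hU, hv] at hp
    obtain ⟨m, hm⟩ := S.H.R.pow
    have hodd : Odd C.D.q := hm.2 ▸ Odd.pow (by decide)
    obtain ⟨i, hi⟩ := hodd
    rw [hi] at hp
    push_cast at hp
    omega

end Sys

end CfsgLib.WalterUse.Ward
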