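import Cfsg.Agent.Lib.WalterUse.Ward.Elements
import Cfsg.Agent.Lib.WalterUse.ReeReal
import Cfsg.Agent.Lib.CharTheory.PowerMap

/-!
Ward's theory for the groups of the order of a small Ree group: the principal characters `St`, `v`, `z`, their
linear relation, their rationality and their values on the tori.
-/

set_option autoImplicit false
set_option linter.unusedSectionVars false
set_option linter.style.haveILetI false

namespace CfsgLib.WalterUse.Ward

open Cfsg CfsgLib CfsgLib.CharTheory CfsgLib.JankoThompson CfsgLib.WalterUse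
open scoped ComplexConjugate

universe u v

variable {G : Type u} [Group G] [Fintype G] {L : Type v} [Group L] [Fintype L] {C : Cfg G L}

/-- The principal characters. -/
structure Sys (C : Cfg G L) where
  H : Hyp C
  st : IrrCharacter G
  v : IrrCharacter G
  z : IrrCharacter G
  r : Fin 2 → IrrCharacter G
  s : Fin 2 → IrrCharacter G
  hV : Vals C st v z r s

theorem Hyp.nonempty_sys (H : Hyp C) : Nonempty (Sys C) := by
  obtain ⟨u, v, z, r, s, hV⟩ := exists_vals H.R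
  exact ⟨⟨H, u, v, z, r, s, hV⟩⟩

namespace Sys

variable (S : Sys C)
include S

theorem q_pos : (27 : ℤ) ≤ C.D.q := by exact_mod_cast S.H.R.seven_q

theorem W_eq : (reeW C : ℤ) = (C.D.q : ℤ) * C.D.q - C.D.q + 1 := reeW_cast S.H.R

theorem W_pos : (0 : ℤ) < reeW C := by
  rw [S.W_eq]
  nlinarith [S.q_pos]

theorem signs : C.va S.st = 1 ∧ C.va S.v = -1 ∧ C.va S.z = -1 := by
  have hq := S.q_pos
  have hW := S.W_pos
  have hu := (C.deg_spec S.st).2
  have hv := (C.deg_spec S.v).2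
  have hz := (C.deg_spec S.z).2
  refine ⟨?_, ?_, ?_⟩
  · rcases S.hV.conf.sA.ha with e | e
    · exact e
    · have h1 := S.hV.degU; rw [e] at h1
      nlinarith [pow_pos (show (0 : ℤ) < C.D.q by linarith) 3]
  · rcases S.hV.conf.sA.hb with e | e
    · have h1 := S.hV.degV; rw [e] at h1
      nlinarith
    · exact e
  · rcases S.hV.conf.sA.hd with e | e
    · have h1 := S.hV.degW; rw [e] at h1
      linarith
    · exact e

theorem deg_st : C.deg S.st = (C.D.q : ℤ) ^ 3 := S.hV.deg_u S.H.R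

theorem deg_v : C.deg S.v = (C.D.q : ℤ) * reeW C := by
  have := S.hV.degV; rw [S.signs.2.1] at this; linarith

theorem deg_z : C.deg S.z = reeW C := by
  have := S.hV.degW; rw [S.signs.2.2] at this; linarith

theorem T_st : C.T S.st = C.D.q := by
  have := S.hV.Tu; rw [S.signs.1] at this; linarith

theorem T_v : C.T S.v = -(C.D.q : ℤ) := by
  have := S.hV.Tv; rw [S.signs.2.1] at this; linarith

theorem T_z : C.T S.z = -1 := by
  have := S.hV.Tz; rw [S.signs.2.2] at this; linarith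

/-- The relation away from the section of `t`. -/
theorem relation {g : G} (hg : ∀ (x : L), Odd (orderOf x) → ∀ c : G, c * g * c⁻¹ ≠ C.t * C.E x) :
    (S.st : G → ℂ) g = (S.z : G → ℂ) g + (S.v : G → ℂ) g - 1 := by
  classical
  have h := C.sum_coef_mul_apply C.D.φa g
  rw [Finset.sum_eq_zero (f := fun x => C.D.φa x * _) (fun x _ => by
    rcases Nat.even_or_odd (orderOf x) with hx | hx
    · rw [C.D.even_a x hx, zero_mul]
    · haveI : IsEmpty {z : G // z * g * z⁻¹ = C.t * C.E x} := ⟨fun z => hg x hx z z.2⟩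
      rw [Nat.card_of_isEmpty, Nat.cast_zero, mul_zero]), mul_zero] at h
  simp only [C.va_spec] at h
  have h4 : ∑ χ : IrrCharacter G, (C.va χ : ℂ) * (χ : G → ℂ) g =
      (C.va S.st : ℂ) * (S.st : G → ℂ) g + (C.va S.v : ℂ) * (S.v : G → ℂ) g +
        (C.va (Blocks.oneIrr G) : ℂ) * (Blocks.oneIrr G : G → ℂ) g + (C.va S.z : ℂ) * (S.z : G → ℂ) g := by
    have hA := S.hV.conf.sA
    have hd1 : S.st ≠ S.v := hA.ab
    have hd2 : S.st ≠ Blocks.oneIrr G := hA.ac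
    have hd3 : S.st ≠ S.z := hA.ad
    have hd4 : S.v ≠ Blocks.oneIrr G := hA.bc
    have hd5 : S.v ≠ S.z := hA.bd
    have hd6 : Blocks.oneIrr G ≠ S.z := hA.cd
    rw [← Finset.sum_subset (Finset.subset_univ ({S.st, S.v, Blocks.oneIrr G, S.z} : Finset (IrrCharacter G)))
      fun χ _ hχ => by
        by_cases h0 : C.va χ = 0
        · rw [h0, Int.cast_zero, zero_mul]
        · exfalso
          refine hχ ?_
          rcases hA.cov χ h0 with e | e | e | e <;> simp [e],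
      Finset.sum_insert (by simp [hd1, hd2, hd3]), Finset.sum_insert (by simp [hd4, hd5]), Finset.sum_pair hd6]
    ring
  rw [h4, S.signs.1, S.signs.2.1, S.signs.2.2, C.va_one] at h
  have e1 : (Blocks.oneIrr G : G → ℂ) g = 1 := rfl
  rw [e1] at h
  push_cast at h
  linear_combination h

theorem relation_odd {g : G} (ho : Odd (orderOf g)) :
    (S.st : G → ℂ) g = (S.z : G → ℂ) g + (S.v : G → ℂ) g - 1 := by
  refine S.relation fun x hx c e => ?_
  have h1 : orderOf (C.t * C.E x) = orderOf g := by rw [← e, order_conj]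
  have h2 : (C.t * C.E x) ^ (orderOf g * orderOf x) = C.t := C.pow_tE (ho.mul hx) (dvd_mul_left _ _)
  rw [← h1, pow_mul, pow_orderOf_eq_one, one_pow] at h2
  exact C.t_ne h2.symm

theorem deg_rest {i : Fin 2} {c : IrrCharacter G} (hc : c = S.r i ∨ c = S.s i) :
    C.deg c ≠ (C.D.q : ℤ) ^ 3 ∧ C.deg c ≠ (C.D.q : ℤ) * reeW C ∧ C.deg c ≠ reeW C := by
  obtain ⟨-, -, hsum⟩ := S.hV.T_rest S.H.R i
  have hpr := S.hV.prod_rest S.H.R i
  have hB := S.hV.conf.sB i
  obtain ⟨m, hm1, hm⟩ := S.H.R.pow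
  obtain ⟨k, hk⟩ : (9 : ℤ) ∣ (C.D.q : ℤ) := by
    refine ⟨((3 ^ (2 * m - 1) : ℕ) : ℤ), ?_⟩
    rw [hm, show 2 * m + 1 = 2 + (2 * m - 1) by omega, pow_add]
    push_cast; ring
  have hW := S.W_eq
  have hz : (C.D.q : ℤ) = 2 * C.D.z + 1 := by exact_mod_cast S.H.R.q_z
  have h3z : ¬ (3 : ℤ) ∣ (C.D.z : ℤ) := fun ⟨j, hj⟩ => by omega
  have h3W : ¬ (3 : ℤ) ∣ (reeW C : ℤ) := by
    rintro ⟨j, hj⟩
    rw [hW, hk] at hj
    have : (3 : ℤ) ∣ 1 := ⟨j - (3 * k * (9 * k) - 3 * k), by linear_combination hj⟩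
    omega
  have hp3 : Prime (3 : ℤ) := Int.prime_three
  have main : ∀ A B : ℤ, A + B = -((C.D.q : ℤ) * C.D.q - C.D.q) →
      3 * (A * B) = -((C.D.z : ℤ) ^ 2 * C.D.q * reeW C) → ∀ e : ℤ, (e = 1 ∨ e = -1) →
      A ≠ e * (C.D.q : ℤ) ^ 3 ∧ A ≠ e * ((C.D.q : ℤ) * reeW C) ∧ A ≠ e * reeW C := by
    intro A B hAB hP e he
    have he2 : e * e = 1 := by rcases he with rfl | rfl <;> norm_num
    have hq0 : (C.D.q : ℤ) ≠ 0 := by have := S.q_pos; omega
    have hW0 : (reeW C : ℤ) ≠ 0 := S.W_pos.ne'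
    refine ⟨fun hA => ?_, fun hA => ?_, fun hA => ?_⟩
    · have h1 : (3 : ℤ) * (e * (C.D.q : ℤ) ^ 2 * B) = -((C.D.z : ℤ) ^ 2 * reeW C) := by
        refine mul_right_cancel₀ hq0 ?_
        rw [hA] at hP; linear_combination hP
      have h2 : (3 : ℤ) ∣ (C.D.z : ℤ) ^ 2 * reeW C := ⟨-(e * (C.D.q : ℤ) ^ 2 * B), by linear_combination h1⟩
      rcases hp3.dvd_mul.mp h2 with h | h
      exacts [h3z (hp3.dvd_of_dvd_pow h), h3W h]
    · have h1 : (3 : ℤ) * (e * B) = -((C.D.z : ℤ) ^ 2) := by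
        refine mul_right_cancel₀ (mul_ne_zero hq0 hW0) ?_
        rw [hA] at hP; linear_combination hP
      exact h3z (hp3.dvd_of_dvd_pow (n := 2) ⟨-(e * B), by linear_combination h1⟩)
    · have h1 : (3 : ℤ) * (e * B) = -((C.D.z : ℤ) ^ 2 * C.D.q) := by
        refine mul_right_cancel₀ hW0 ?_
        rw [hA] at hP; linear_combination hP
      have hB1 : (3 : ℤ) ∣ e * B := ⟨-((C.D.z : ℤ) ^ 2 * k), by rw [hk] at h1; linarith⟩
      have hB2 : (3 : ℤ) ∣ e * e * reeW C := by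
        have h5 : e * e * reeW C = -(e * B) - e * ((C.D.q : ℤ) * C.D.q - C.D.q) := by
          rw [show B = -((C.D.q : ℤ) * C.D.q - C.D.q) - A by linarith, hA]; ring
        rw [h5]
        refine dvd_sub (dvd_neg.mpr hB1) (dvd_mul_of_dvd_right ?_ _)
        exact ⟨3 * k * (9 * k) - 3 * k, by rw [hk]; ring⟩
      rw [he2, one_mul] at hB2
      exact h3W hB2
  rcases hc with rfl | rfl
  · obtain ⟨h1, h2, h3⟩ := main _ _ hsum hpr _ hB.hc
    exact ⟨fun e => h1 (by rw [e]), fun e => h2 (by rw [e]), fun e => h3 (by rw [e])⟩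
  · obtain ⟨h1, h2, h3⟩ := main (C.vb i (S.s i) * C.deg (S.s i)) (C.vb i (S.r i) * C.deg (S.r i))
      (by linarith) (by linear_combination hpr) _ hB.hd
    exact ⟨fun e => h1 (by rw [e]), fun e => h2 (by rw [e]), fun e => h3 (by rw [e])⟩

/-- The characters with a non-zero value at `t`. -/
theorem cases {χ : IrrCharacter G} (hT : C.T χ ≠ 0) :
    χ = Blocks.oneIrr G ∨ χ = S.st ∨ χ = S.v ∨ χ = S.z ∨ (∃ i, χ = S.r i ∨ χ = S.s i) ∨
      (C.Free χ ∧ C.va χ = 0 ∧ C.vb 0 χ = 0 ∧ C.vb 1 χ = 0 ∧ C.deg χ = (C.D.q : ℤ) ^ 3 + 1) ∨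
      (¬ C.Free χ ∧ C.deg χ = (reeW C : ℤ) * ((C.D.q : ℤ) - 1)) := by
  classical
  have h := S.hV.conf
  have R := S.H.R
  by_cases hF : C.Free χ
  · by_cases hva : C.va χ = 0
    · by_cases hb : C.vb 0 χ = 0 ∧ C.vb 1 χ = 0
      · refine Or.inr (Or.inr (Or.inr (Or.inr (Or.inr (Or.inl ⟨hF, hva, hb.1, hb.2, ?_⟩)))))
        obtain ⟨lam, h1, h2⟩ : ∃ lam : C.D.Z →* ℂˣ, lam ≠ 1 ∧ C.vl lam χ ≠ 0 := by
          by_contra hl
          push Not at hl
          refine hT ?_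
          rw [C.T_free hF, hva, hb.1, hb.2,
            Finset.sum_eq_zero fun lam hlam => hl lam (Finset.ne_of_mem_erase hlam)]
          ring
        exact S.hV.deg_vl R h1 h2
      · have hi : ∀ i, C.vb i χ ≠ 0 → χ = S.r i ∨ χ = S.s i := by
          intro i hb'
          rcases (h.sB i).cov χ hb' with e | e | e | e
          · exact absurd (e ▸ hva) (by rcases h.sA.ha with a | a <;> omega)
          · exact absurd (e ▸ hva) (by rcases h.sA.hb with a | a <;> omega)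
          · exact Or.inl e
          · exact Or.inr e
        refine Or.inr (Or.inr (Or.inr (Or.inr (Or.inl ?_))))
        rcases not_and_or.mp hb with e | e
        exacts [⟨0, hi 0 e⟩, ⟨1, hi 1 e⟩]
    · rcases h.sA.cov χ hva with e | e | e | e
      · exact Or.inr (Or.inl e)
      · exact Or.inr (Or.inr (Or.inl e))
      · exact Or.inl e
      · exact Or.inr (Or.inr (Or.inr (Or.inl e)))
  · refine Or.inr (Or.inr (Or.inr (Or.inr (Or.inr (Or.inr ⟨hF, ?_⟩)))))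
    have hpos := (C.deg_spec χ).2
    have h1 : (0 : ℤ) < (reeW C : ℤ) * ((C.D.q : ℤ) - 1) := mul_pos S.W_pos (by linarith [S.q_pos])
    rcases S.hV.degP with e | e <;> rcases Vals.deg_not_free hF with e' | e' <;> rw [e] at e' <;> linarith

/-- The characters `St` and `v` are determined by the degree. -/
theorem unique {χ : IrrCharacter G} (hT : C.T χ ≠ 0) :
    (C.deg χ = (C.D.q : ℤ) ^ 3 → χ = S.st) ∧ (C.deg χ = (C.D.q : ℤ) * reeW C → χ = S.v) := by
  have hq := S.q_pos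
  have hW := S.W_eq
  have hq3 : (27 : ℤ) * ((C.D.q : ℤ) * C.D.q) ≤ (C.D.q : ℤ) ^ 3 := by nlinarith
  have hq2 : (27 : ℤ) * C.D.q ≤ (C.D.q : ℤ) * C.D.q := by nlinarith
  have hqW : (C.D.q : ℤ) * reeW C = (C.D.q : ℤ) ^ 3 - (C.D.q : ℤ) * C.D.q + C.D.q := by rw [hW]; ring
  rcases S.cases hT with rfl | rfl | rfl | rfl | ⟨i, hi⟩ | ⟨-, -, -, -, e⟩ | ⟨-, e⟩
  · constructor <;> intro e <;> rw [C.deg_one] at e <;> exfalso <;> linarith
  · exact ⟨fun _ => rfl, fun e => by rw [S.deg_st] at e; exfalso; linarith⟩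
  · exact ⟨fun e => by rw [S.deg_v] at e; exfalso; linarith, fun _ => rfl⟩
  · constructor <;> intro e <;> rw [S.deg_z] at e <;> exfalso <;> linarith
  · obtain ⟨h1, h2, -⟩ := S.deg_rest hi
    exact ⟨fun e => absurd e h1, fun e => absurd e h2⟩
  · constructor <;> intro e' <;> rw [e] at e' <;> exfalso <;> linarith
  · have h5 : (reeW C : ℤ) * ((C.D.q : ℤ) - 1) = (C.D.q : ℤ) * reeW C - reeW C := by ring
    constructor <;> intro e' <;> rw [e] at e' <;> exfalso <;> linarith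

omit S in
theorem int_value {χ : IrrCharacter G} (hχ : ∀ ψ : IrrCharacter G, C.deg ψ = C.deg χ → C.T ψ = C.T χ → ψ = χ)
    (g : G) : ∃ n : ℤ, (χ : G → ℂ) g = n := by
  refine rational_int_of_invariant (isCharacter_of_irr χ.2) g fun m hm => ?_
  have e : powIrr hm χ = χ := by
    refine hχ _ (Int.cast_injective (α := ℂ) ?_) (Int.cast_injective (α := ℂ) ?_)
    · rw [← (C.deg_spec _).1, ← (C.deg_spec _).1]
      show (χ : G → ℂ) (1 ^ m) = _
      rw [one_pow]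
    · rw [← C.T_spec, ← C.T_spec]
      show (χ : G → ℂ) (C.t ^ m) = _
      have hodd : Odd m := by
        rw [← Nat.not_even_iff_odd]
        intro h2
        have h2G : 2 ∣ Nat.card G := C.t_ord ▸ orderOf_dvd_natCard C.t
        have := Nat.dvd_gcd (even_iff_two_dvd.mp h2) h2G
        rw [hm] at this
        exact absurd this (by norm_num)
      obtain ⟨j, hj⟩ := hodd
      rw [hj, pow_succ, pow_mul, pow_two, C.t_sq, one_pow, one_mul]
  exact congrFun (congrArg Subtype.val e) g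

theorem st_int (g : G) : ∃ n : ℤ, (S.st : G → ℂ) g = n :=
  int_value (fun ψ hd hT => (S.unique (by rw [hT, S.T_st]; have := S.q_pos; omega)).1 (hd.trans S.deg_st)) g

theorem v_int (g : G) : ∃ n : ℤ, (S.v : G → ℂ) g = n :=
  int_value (fun ψ hd hT => (S.unique (by rw [hT, S.T_v]; have := S.q_pos; omega)).2 (hd.trans S.deg_v)) g

/-- The integral values of `St`. -/
noncomputable def sti (g : G) : ℤ := (S.st_int g).choose

/-- The integral values of `v`. -/
noncomputable def vi (g : G) : ℤ := (S.v_int g).choose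

theorem sti_spec (g : G) : (S.st : G → ℂ) g = (S.sti g : ℂ) := (S.st_int g).choose_spec

theorem vi_spec (g : G) : (S.v : G → ℂ) g = (S.vi g : ℂ) := (S.v_int g).choose_spec

theorem sti_eq_of {g : G} {n : ℤ} (h : (S.st : G → ℂ) g = n) : S.sti g = n :=
  Int.cast_injective (α := ℂ) ((S.sti_spec g).symm.trans h)

theorem vi_eq_of {g : G} {n : ℤ} (h : (S.v : G → ℂ) g = n) : S.vi g = n :=
  Int.cast_injective (α := ℂ) ((S.vi_spec g).symm.trans h)

theorem sti_conj (c g : G) : S.sti (c * g * c⁻¹) = S.sti g :=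
  S.sti_eq_of ((isClassFunction_irr S.st.2 _ _).trans (S.sti_spec g))

theorem vi_conj (c g : G) : S.vi (c * g * c⁻¹) = S.vi g :=
  S.vi_eq_of ((isClassFunction_irr S.v.2 _ _).trans (S.vi_spec g))

theorem vi_inv (g : G) : S.vi g⁻¹ = S.vi g :=
  S.vi_eq_of (by rw [char_apply_inv (isCharacter_of_irr S.v.2), S.vi_spec, map_intCast])

omit S in
/-- A free character outside the columns `φ_l` is constant on `t Z`. -/
theorem value_tZ {χ : IrrCharacter G} (hl : ∀ lam : C.D.Z →* ℂˣ, lam ≠ 1 → C.vl lam χ = 0)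
    (h₀ : C.D.Z) (hne : h₀ ≠ 1) : conj ((χ : G → ℂ) (C.t * C.E (h₀ : L))) = (C.va χ : ℂ) := by
  classical
  have hz : (C.D.z : ℂ) ≠ 0 := Nat.cast_ne_zero.2 C.Z_odd.pos.ne'
  have h1 : ∀ lam : C.D.Z →* ℂˣ, (C.vl lam χ : ℂ) = (C.va χ : ℂ) + (C.D.z : ℂ)⁻¹ *
      ∑ h : C.D.Z, ((lam h : ℂ) - 1) * conj ((χ : G → ℂ) (C.t * C.E (h : L))) := by
    intro lam
    rw [← C.vl_spec, ← C.va_spec, show C.φl lam = C.D.φa + indFun C.D.Z (fun h => (lam h : ℂ) - 1)
      from rfl, C.coef_add, C.coef_indFun, C.D.cardZ]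
  have hA : ∑ lam : C.D.Z →* ℂˣ, (lam h₀⁻¹ : ℂ) * (C.vl lam χ : ℂ) = (C.va χ : ℂ) := by
    rw [Finset.sum_eq_single (1 : C.D.Z →* ℂˣ) (fun lam _ hlam => by rw [hl lam hlam, Int.cast_zero, mul_zero])
      (by simp), MonoidHom.one_apply, Units.val_one, one_mul, C.vl_trivial]
  simp only [h1] at hA
  have hB : ∀ h : C.D.Z, ∑ lam : C.D.Z →* ℂˣ, (lam h₀⁻¹ : ℂ) * ((lam h : ℂ) - 1) =
      if h = h₀ then (C.D.z : ℂ) else 0 := by
    intro h
    simp only [mul_sub, mul_one, ← Units.val_mul, ← map_mul, Finset.sum_sub_distrib, sum_dual C.D.cycZ,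
      inv_mul_eq_one, inv_eq_one, hne, if_false, sub_zero, C.D.cardZ]
    by_cases e : h = h₀
    · simp [e]
    · rw [if_neg (fun e' => e e'.symm), if_neg e]
  have hC : ∑ lam : C.D.Z →* ℂˣ, (lam h₀⁻¹ : ℂ) = 0 := by
    rw [sum_dual C.D.cycZ, if_neg (by simpa using hne)]
  simp only [mul_add, Finset.sum_add_distrib, ← Finset.sum_mul, hC, zero_mul, zero_add, Finset.mul_sum] at hA
  rw [Finset.sum_comm] at hA
  have e : ∀ h : C.D.Z, ∑ lam : C.D.Z →* ℂˣ, (lam h₀⁻¹ : ℂ) * ((C.D.z : ℂ)⁻¹ * (((lam h : ℂ) - 1) *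
      conj ((χ : G → ℂ) (C.t * C.E (h : L))))) =
      (C.D.z : ℂ)⁻¹ * conj ((χ : G → ℂ) (C.t * C.E (h : L))) * (if h = h₀ then (C.D.z : ℂ) else 0) := by
    intro h
    rw [← hB h, Finset.mul_sum]
    exact Finset.sum_congr rfl fun lam _ => by ring
  simp only [e, mul_ite, mul_zero, Finset.sum_ite_eq', Finset.mem_univ, if_true] at hA
  rw [← hA]
  field_simp

omit S in
/-- A free character is constant on each coset of the four-group in `A`. -/
theorem value_A {χ : IrrCharacter G} (hF : C.Free χ) (p₀ : V4) (y₀ : C.D.Y) (hne : y₀ ≠ 1) :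
    conj ((χ : G → ℂ) (C.ΦA (p₀.1, p₀.2, y₀))) =
      ∑ μ : Option (Fin 3), (mu μ p₀ : ℂ) * ((if μ = none then C.P χ + C.vn χ else C.P χ : ℤ) : ℂ) := by
  classical
  have hy := C.y_ne
  have hd : ∀ y : C.D.Y, ∑ θ : C.D.Y →* ℂˣ, (θ y : ℂ) = if y = 1 then (C.D.y : ℂ) else 0 := fun y => by
    rw [sum_dual C.D.cycY, C.D.cardY]
  have hc : ∀ μ θ, θ ≠ (1 : C.D.Y →* ℂˣ) → C.vc μ θ χ = if μ = none then C.P χ + C.vn χ else C.P χ := by
    intro μ θ hθ
    rcases μ with _ | l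
    · rw [if_pos rfl, C.free_vc_none hF hθ]
    · rw [if_neg (by simp), C.free_vc hF hθ]
  set K : ℂ := ∑ μ : Option (Fin 3), (mu μ p₀ : ℂ) * ((if μ = none then C.P χ + C.vn χ else C.P χ : ℤ) : ℂ)
  have hLHS : ∑ θ : C.D.Y →* ℂˣ, ∑ μ : Option (Fin 3), (θ y₀⁻¹ : ℂ) * (mu μ p₀ : ℂ) * (C.vc μ θ χ : ℂ) = -K := by
    have h1 : ∀ θ : C.D.Y →* ℂˣ, ∑ μ : Option (Fin 3), (θ y₀⁻¹ : ℂ) * (mu μ p₀ : ℂ) * (C.vc μ θ χ : ℂ) =
        (θ y₀⁻¹ : ℂ) * K - if θ = 1 then K else 0 := by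
      intro θ
      split_ifs with h
      · subst h
        simp [C.vc_trivial]
      · rw [sub_zero, Finset.mul_sum]
        exact Finset.sum_congr rfl fun μ _ => by rw [hc μ θ h]; ring
    simp only [h1, Finset.sum_sub_distrib, ← Finset.sum_mul, hd, inv_eq_one, hne, if_false, zero_mul, zero_sub,
      Finset.sum_ite_eq', Finset.mem_univ, if_true]
  have hRHS : ∑ θ : C.D.Y →* ℂˣ, ∑ μ : Option (Fin 3), (θ y₀⁻¹ : ℂ) * (mu μ p₀ : ℂ) * (C.vc μ θ χ : ℂ) =
      -conj ((χ : G → ℂ) (C.ΦA (p₀.1, p₀.2, y₀))) := by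
    simp only [← C.vc_spec, Cfg.cv, Cfg.gfun, Finset.mul_sum]
    rw [Finset.sum_congr rfl fun θ _ => Finset.sum_comm, Finset.sum_comm]
    have h2 : ∀ a : C.AG, ∑ θ : C.D.Y →* ℂˣ, ∑ μ : Option (Fin 3), (θ y₀⁻¹ : ℂ) * (mu μ p₀ : ℂ) *
        ((Nat.card C.AG : ℂ)⁻¹ * ((mu μ a.p : ℂ) * (1 - (θ a.2.2 : ℂ)) * conj ((χ : G → ℂ) (C.ΦA a)))) =
        (Nat.card C.AG : ℂ)⁻¹ * conj ((χ : G → ℂ) (C.ΦA a)) *
          ((∑ μ : Option (Fin 3), ((mu μ p₀ * mu μ a.p : ℤ) : ℂ)) *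
            ((∑ θ : C.D.Y →* ℂˣ, (θ y₀⁻¹ : ℂ)) - ∑ θ : C.D.Y →* ℂˣ, (θ (y₀⁻¹ * a.2.2) : ℂ))) := by
      intro a
      rw [← Finset.sum_sub_distrib, Finset.sum_mul_sum, Finset.mul_sum, Finset.sum_comm]
      refine Finset.sum_congr rfl fun μ _ => ?_
      rw [Finset.mul_sum]
      refine Finset.sum_congr rfl fun θ _ => ?_
      rw [map_mul, Units.val_mul]
      push_cast
      ring
    simp only [h2, hd, inv_eq_one, hne, if_false, inv_mul_eq_one, zero_sub]
    simp only [← Int.cast_sum, mu_col]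
    rw [Finset.sum_eq_single (p₀.1, p₀.2, y₀)]
    · rw [if_pos (show p₀ = Cfg.AG.p (C := C) (p₀.1, p₀.2, y₀) from rfl), if_pos (show y₀ = (p₀.1, p₀.2, y₀).2.2 from rfl),
        C.cardAG]
      push_cast
      field_simp
    · rintro ⟨i, j, y⟩ - hne'
      by_cases hp : p₀ = (i, j)
      · have : y₀ ≠ y := fun e => hne' (by subst hp e; rfl)
        simp [this]
      · rw [if_neg (show ¬ p₀ = Cfg.AG.p (C := C) (i, j, y) from hp)]
        simp
    · simp
  rw [hLHS] at hRHS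
  exact (neg_injective hRHS).symm

theorem vl_zero {χ : IrrCharacter G} (hd : C.deg χ ≠ (C.D.q : ℤ) ^ 3 + 1) :
    ∀ lam : C.D.Z →* ℂˣ, lam ≠ 1 → C.vl lam χ = 0 := fun lam hl => by
  by_contra hne
  exact hd (S.hV.deg_vl S.H.R hl hne)

theorem free_st : C.Free S.st := C.free_va (by rw [S.signs.1]; norm_num)

theorem free_v : C.Free S.v := C.free_va (by rw [S.signs.2.1]; norm_num)

theorem vn_st : C.vn S.st = -1 ∧ C.vn S.v = 1 := by
  constructor
  · rw [Cfg.vn, S.hV.conf.u_eq, S.hV.conf.u_eq, S.signs.1]; norm_num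
  · rw [Cfg.vn, S.hV.conf.v_eq, S.hV.conf.v_eq, S.signs.2.1]; norm_num

theorem P_st : C.P S.st = 0 ∧ C.P S.v = -1 := by
  have hq : (C.D.q : ℤ) = 4 * C.D.y - 1 := by
    have : (C.D.q : ℤ) + 1 = 4 * C.D.y := by exact_mod_cast S.H.R.q_y
    linarith
  have h7 : (7 : ℤ) ≤ C.D.y := by exact_mod_cast C.seven_le
  constructor
  · obtain ⟨M, hM⟩ := C.congr_free S.free_st
    rw [S.deg_st, S.T_st, S.vn_st.1, hq] at hM
    have hd : (C.D.y : ℤ) ∣ 4 * C.P S.st := ⟨64 * (C.D.y : ℤ) ^ 2 - 48 * C.D.y + 24 - M, by linear_combination -hM⟩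
    rcases C.P_entry S.st with e | e | e
    · exact e
    all_goals
      exfalso
      rw [e] at hd
    · have := Int.le_of_dvd (by norm_num) hd; linarith
    · have := Int.le_of_dvd (by norm_num) (dvd_neg.mpr hd : (C.D.y : ℤ) ∣ -(4 * (-1))); linarith
  · obtain ⟨M, hM⟩ := C.congr_free S.free_v
    rw [S.deg_v, S.T_v, S.W_eq, S.vn_st.2, hq] at hM
    have hd : (C.D.y : ℤ) ∣ 4 * (C.P S.v + 1) :=
      ⟨64 * (C.D.y : ℤ) ^ 2 - 64 * C.D.y + 12 - M, by linear_combination -hM⟩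
    rcases C.P_entry S.v with e | e | e
    · exfalso; rw [e] at hd
      have := Int.le_of_dvd (by norm_num) hd; linarith
    · exfalso; rw [e] at hd
      have := Int.le_of_dvd (by norm_num) hd
      have h8 : (4 : ℤ) * (1 + 1) = 8 := by norm_num
      rw [h8] at hd
      interval_cases hy : (C.D.y : ℤ)
      · norm_num at hd
      · have : Odd (8 : ℕ) := by
          have h := C.D.hy
          rwa [show C.D.y = 8 by exact_mod_cast hy] at h
        exact absurd this (by decide)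
    · exact e

/-- The values on `t Z`. -/
theorem tZ_values {k : L} (hk : k ∈ C.D.Z) (hk1 : k ≠ 1) :
    S.sti (C.t * C.E k) = 1 ∧ S.vi (C.t * C.E k) = -1 := by
  have hq := S.q_pos
  have hq2 : (27 : ℤ) * C.D.q ≤ (C.D.q : ℤ) * C.D.q := by nlinarith
  have h1 := value_tZ (S.vl_zero (χ := S.st) (by rw [S.deg_st]; omega)) ⟨k, hk⟩ (fun e => hk1 (congrArg Subtype.val e))
  have h2 := value_tZ (S.vl_zero (χ := S.v) (by rw [S.deg_v, S.W_eq]; nlinarith)) ⟨k, hk⟩
    (fun e => hk1 (congrArg Subtype.val e))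
  rw [S.signs.1, S.sti_spec, map_intCast] at h1
  rw [S.signs.2.1, S.vi_spec, map_intCast] at h2
  exact ⟨Int.cast_injective h1, Int.cast_injective h2⟩

/-- The values on `A`. -/
theorem Y_values {y : L} (hy : y ∈ C.D.Y) (hy1 : y ≠ 1) :
    S.sti (C.E y) = -1 ∧ S.sti (C.t * C.E y) = -1 ∧ S.vi (C.E y) = -3 ∧ S.vi (C.t * C.E y) = 1 := by
  have hne : (⟨y, hy⟩ : C.D.Y) ≠ 1 := fun e => hy1 (congrArg Subtype.val e)
  have e0 : C.ΦA (1, 1, (⟨y, hy⟩ : C.D.Y)) = C.E y := by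
    rw [C.ΦA_eq, map_one, map_one, map_one, one_mul, one_mul]
  have e1 : C.ΦA (pt.1, pt.2, (⟨y, hy⟩ : C.D.Y)) = C.t * C.E y := C.ΦA_pt _
  have s1 := value_A S.free_st 1 ⟨y, hy⟩ hne
  have s2 := value_A S.free_st pt ⟨y, hy⟩ hne
  have v1 := value_A S.free_v 1 ⟨y, hy⟩ hne
  have v2 := value_A S.free_v pt ⟨y, hy⟩ hne
  simp only [Fintype.sum_option, Fin.sum_univ_three, mu_one, mu_pt, S.P_st.1, S.P_st.2, S.vn_st.1, S.vn_st.2,
    Prod.fst_one, Prod.snd_one, e0, e1, S.sti_spec, S.vi_spec, map_intCast] at s1 s2 v1 v2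
  simp only [reduceCtorEq, if_false, if_true] at s1 s2 v1 v2
  norm_num [Fin.ext_iff] at s1 s2 v1 v2
  refine ⟨Int.cast_injective (α := ℂ) ?_, Int.cast_injective (α := ℂ) ?_, Int.cast_injective (α := ℂ) ?_,
    Int.cast_injective (α := ℂ) ?_⟩ <;> push_cast
  exacts [s1, s2, v1, by exact_mod_cast v2]

end Sys

end CfsgLib.WalterUse.Ward
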