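import Cfsg.Agent.Lib.WalterUse.Ward.Tori

/-!
Ward's theory for the groups of the order of a small Ree group: the two square sums.  There are at least `q⁶`
3-elements, and `v` is small on them.
-/

set_option autoImplicit false
set_option linter.unusedSectionVars false
set_option linter.style.haveILetI false

namespace CfsgLib.WalterUse.Ward

open Cfsg CfsgLib CfsgLib.CharTheory CfsgLib.JankoThompson CfsgLib.WalterUse
open scoped Classical

universe u v

variable {G : Type u} [Group G] [Fintype G] {L : Type v} [Group L] [Fintype L] {C : Cfg G L}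

/-- Counting pairs of an element and an involution. -/
theorem sum_pairs (C : Cfg G L) (f : G → ℤ) (hf : ∀ c g : G, f (c * g * c⁻¹) = f g) (P : G → G → Prop)
    (hP : ∀ c g i : G, P g i → P (c * g * c⁻¹) (c * i * c⁻¹)) :
    ∑ g : G, f g * (((Cfg.invs G).filter fun i => P g i).card : ℤ) =
      ((Cfg.invs G).card : ℤ) * ∑ g ∈ Finset.univ.filter (fun g => P g C.t), f g := by
  have h1 : ∀ i ∈ Cfg.invs G, (∑ g : G, if P g i then f g else 0) = ∑ g : G, if P g C.t then f g else 0 := by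
    intro i hi
    obtain ⟨hii, hi0⟩ := Cfg.mem_invs.mp hi
    obtain ⟨c, hc⟩ := C.all_conj i (orderOf_eq_prime (by rw [pow_two, hii]) hi0)
    symm
    refine Fintype.sum_equiv (MulAut.conj c).toEquiv _ _ fun g => ?_
    show _ = if P (c * g * c⁻¹) i then f (c * g * c⁻¹) else 0
    rw [hf]
    have hiff : P g C.t ↔ P (c * g * c⁻¹) i := by
      constructor
      · intro h; rw [← hc]; exact hP c g _ h
      · intro h
        have := hP c⁻¹ _ _ h
        rwa [← hc, show c⁻¹ * (c * C.t * c⁻¹) * c⁻¹⁻¹ = C.t by group,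
          show c⁻¹ * (c * g * c⁻¹) * c⁻¹⁻¹ = g by group] at this
    simp only [hiff]
  calc ∑ g : G, f g * (((Cfg.invs G).filter fun i => P g i).card : ℤ)
      = ∑ g : G, ∑ i ∈ Cfg.invs G, if P g i then f g else 0 := by
        refine Finset.sum_congr rfl fun g _ => ?_
        rw [← Finset.sum_filter, Finset.sum_const, nsmul_eq_mul, mul_comm]
    _ = ∑ i ∈ Cfg.invs G, ∑ g : G, if P g C.t then f g else 0 := by
        rw [Finset.sum_comm]
        exact Finset.sum_congr rfl h1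
    _ = _ := by rw [Finset.sum_const, nsmul_eq_mul, Finset.sum_filter]

/-- The predicate of the 2-singular pairs. -/
def EvenPair (g i : G) : Prop := Commute g i ∧ Odd (orderOf (i * g))

namespace Hyp

variable (H : Hyp C)
include H

theorem card_evenPair (g : G) :
    ((Cfg.invs G).filter fun i => EvenPair g i).card = if Even (orderOf g) then 1 else 0 := by
  have hodd : ∀ i ∈ Cfg.invs G, EvenPair g i → g ^ orderOf (i * g) = i := by
    intro i hi hp
    obtain ⟨hii, -⟩ := Cfg.mem_invs.mp hi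
    obtain ⟨k, hk⟩ := hp.2
    have h1 := pow_orderOf_eq_one (i * g)
    rw [hp.1.symm.mul_pow] at h1
    have h2 : i ^ orderOf (i * g) = i := by rw [hk, pow_succ, pow_mul, pow_two, hii, one_pow, one_mul]
    rw [h2] at h1
    rw [eq_inv_of_mul_eq_one_right h1, inv_eq_of_mul_eq_one_right hii]
  split_ifs with he
  · obtain ⟨k, hk⟩ := he
    have hk0 : k ≠ 0 := fun e => (orderOf_pos g).ne' (by rw [hk, e])
    have hoi : orderOf (g ^ k) = 2 := by
      rw [orderOf_pow' _ hk0, hk, Nat.gcd_eq_right ⟨2, by ring⟩,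
        show k + k = 2 * k by ring, Nat.mul_div_cancel _ (Nat.pos_of_ne_zero hk0)]
    obtain ⟨c, hc⟩ := C.all_conj _ hoi
    set g' := c⁻¹ * g * c with hg'
    have hgk : g' ^ k = C.t := by
      rw [hg', show c⁻¹ * g * c = c⁻¹ * g * c⁻¹⁻¹ by rw [inv_inv], conj_pow, ← hc]; group
    have hcomm : Commute g' C.t := hgk ▸ (Commute.refl g').pow_right k
    obtain ⟨x, hx | hx⟩ := C.cent g' hcomm
    · exfalso
      rw [hx, ← map_pow] at hgk
      exact C.t_not _ hgk
    · have hko : Odd k := by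
        rw [← Nat.not_even_iff_odd]
        rintro ⟨j, hj⟩
        rw [hx, (C.E_comm x).mul_pow, hj, ← two_mul, pow_mul C.t, pow_two, C.t_sq, one_pow, one_mul, ← map_pow]
          at hgk
        exact C.t_not _ hgk
      have hik : (g ^ k * g) ^ k = 1 := by
        rw [((Commute.refl g).pow_left k).mul_pow]
        obtain ⟨j, hj⟩ := hko
        nth_rw 2 [hj]
        rw [pow_succ, pow_mul, pow_two (g ^ k), ← pow_add, ← hk, pow_orderOf_eq_one, one_pow, one_mul, ← pow_add,
          ← hk, pow_orderOf_eq_one]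
      rw [Finset.card_eq_one]
      refine ⟨g ^ k, Finset.eq_singleton_iff_unique_mem.mpr ⟨Finset.mem_filter.mpr ⟨?_, ?_, ?_⟩, fun i hi => ?_⟩⟩
      · refine Cfg.mem_invs.mpr ⟨by rw [← pow_add, ← hk, pow_orderOf_eq_one], fun e => ?_⟩
        rw [e, orderOf_one] at hoi
        exact absurd hoi (by norm_num)
      · exact (Commute.refl g).pow_right k
      · exact hko.of_dvd_nat (orderOf_dvd_of_pow_eq_one hik)
      · obtain ⟨hi1, hi2⟩ := Finset.mem_filter.mp hi
        obtain ⟨hii, hi0⟩ := Cfg.mem_invs.mp hi1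
        have e1 := hodd i hi1 hi2
        obtain ⟨j, hj⟩ := hi2.2
        have e2 : g ^ (k * orderOf (i * g)) = g ^ k := by
          rw [hj, mul_add, mul_one, pow_add, show k * (2 * j) = (k + k) * j by ring, pow_mul, ← hk, pow_orderOf_eq_one,
            one_pow, one_mul]
        obtain ⟨j', hj'⟩ := hko
        rw [mul_comm, pow_mul, e1, hj', pow_succ, pow_mul, pow_two, hii, one_pow, one_mul, ← hj'] at e2
        exact e2
  · rw [Finset.card_eq_zero, Finset.filter_eq_empty_iff]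
    intro i hi hp
    obtain ⟨hii, hi0⟩ := Cfg.mem_invs.mp hi
    refine he ?_
    have h2 : orderOf i = 2 := orderOf_eq_prime (by rw [pow_two, hii]) hi0
    rw [even_iff_two_dvd, ← h2, ← hodd i hi hp]
    exact orderOf_pow_dvd _

theorem sum_even (f : G → ℤ) (hf : ∀ c g : G, f (c * g * c⁻¹) = f g) :
    ∑ g ∈ Finset.univ.filter (fun g : G => Even (orderOf g)), f g =
      ((Cfg.invs G).card : ℤ) * ∑ x ∈ Finset.univ.filter (fun x : L => Odd (orderOf x)), f (C.t * C.E x) := by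
  have h := sum_pairs C f hf EvenPair fun c g i hp => ⟨commute_conj hp.1 c, by
    rw [show c * i * c⁻¹ * (c * g * c⁻¹) = c * (i * g) * c⁻¹ by group, order_conj]; exact hp.2⟩
  simp only [H.card_evenPair, Nat.cast_ite, Nat.cast_one, Nat.cast_zero, mul_ite, mul_one, mul_zero,
    ← Finset.sum_filter] at h
  rw [h]
  congr 1
  symm
  refine Finset.sum_nbij (fun x => C.t * C.E x) ?_ ?_ ?_ (fun _ _ => rfl)
  · intro x hx
    simp only [Finset.mem_filter, Finset.mem_univ, true_and] at hx ⊢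
    refine ⟨((Commute.refl C.t).mul_left (C.E_comm x).symm), ?_⟩
    rw [← mul_assoc, C.t_sq, one_mul, orderOf_injective C.E C.E_inj]
    exact hx
  · intro a _ b _ e
    exact C.E_inj (mul_left_cancel e)
  · intro g hg
    simp only [Finset.coe_filter, Finset.mem_univ, true_and, Set.mem_setOf_eq] at hg
    obtain ⟨x, hx⟩ := odd_mem_E ((Commute.refl C.t).mul_left hg.1) hg.2
    refine ⟨x, ?_, ?_⟩
    · simp only [Finset.coe_filter, Finset.mem_univ, true_and, Set.mem_setOf_eq]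
      rw [← orderOf_injective C.E C.E_inj x, ← hx]; exact hg.2
    · show C.t * C.E x = g
      rw [← hx, ← mul_assoc, C.t_sq, one_mul]

/-- The elements of a torus type with their commuting involutions. -/
theorem sum_tor {n : ℕ} (hn : Odd n) (f : G → ℤ) (hf : ∀ c g : G, f (c * g * c⁻¹) = f g) :
    ∑ g ∈ Finset.univ.filter (fun g : G => IsTor n g),
        f g * (((Cfg.invs G).filter fun i => Commute g i).card : ℤ) =
      ((Cfg.invs G).card : ℤ) * ∑ x ∈ Finset.univ.filter (fun x : L => IsTor n x), f (C.E x) := by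
  have h := sum_pairs C f hf (fun g i => IsTor n g ∧ Commute g i)
    fun c g i hp => ⟨(isTor_conj c g).mpr hp.1, commute_conj hp.2 c⟩
  rw [Finset.sum_filter, show (∑ g : G, if IsTor n g then f g * (((Cfg.invs G).filter fun i => Commute g i).card : ℤ)
    else 0) = _ from Eq.trans (Finset.sum_congr rfl fun g _ => by by_cases hg : IsTor n g <;> simp [hg]) h]
  congr 1
  symm
  refine Finset.sum_nbij (fun x => C.E x) ?_ ?_ ?_ (fun _ _ => rfl)
  · intro x hx
    simp only [Finset.mem_filter, Finset.mem_univ, true_and] at hx ⊢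
    exact ⟨⟨fun e => hx.1 (C.E_inj (e.trans (map_one C.E).symm)), by rw [← map_pow, hx.2, map_one]⟩,
      (C.E_comm x).symm⟩
  · intro a _ b _ e
    exact C.E_inj e
  · intro g hg
    simp only [Finset.coe_filter, Finset.mem_univ, true_and, Set.mem_setOf_eq] at hg
    obtain ⟨x, hx⟩ := odd_mem_E hg.2 (odd_of_isTor hn hg.1)
    refine ⟨x, ?_, hx.symm⟩
    simp only [Finset.coe_filter, Finset.mem_univ, true_and, Set.mem_setOf_eq]
    exact ⟨fun e => hg.1.1 (by rw [hx, e, map_one]), C.E_inj (by rw [map_pow, ← hx, hg.1.2, map_one])⟩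

end Hyp

/-- A non-trivial element of order three of `L`. -/
def IsU (x : L) : Prop := x ≠ 1 ∧ x ^ 3 = 1

namespace Sys

variable (S : Sys C)
include S

theorem defect_vanish {χ : IrrCharacter G} {l : ℕ} (hl : l.Prime)
    (h : ((l ^ (Nat.card G).factorization l : ℕ) : ℤ) ∣ C.deg χ) {g : G} (hg : l ∣ orderOf g) :
    (χ : G → ℂ) g = 0 := by
  haveI := Fact.mk hl
  refine CfsgLib.RealAbove.defect_zero_eq_zero χ ?_ hg
  obtain ⟨d, -, hd⟩ := irr_degree_pos χ.2
  have e : charDegree (χ : G → ℂ) = d := by simp [charDegree, hd]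
  have e2 : C.deg χ = (d : ℤ) := Int.cast_injective (α := ℂ) (by
    rw [← (C.deg_spec χ).1, hd, Int.cast_natCast])
  rw [e2, Int.natCast_dvd_natCast] at h
  rwa [e]

theorem W_zero {g : G} (hg : IsW C g) : (S.z : G → ℂ) g = 0 ∧ (S.v : G → ℂ) g = 0 := by
  obtain ⟨l, hl, hlW, hld⟩ := hg
  have h : ((l ^ (Nat.card G).factorization l : ℕ) : ℤ) ∣ (reeW C : ℤ) :=
    Int.natCast_dvd_natCast.2 (by rw [factorization_reeW S.H.R hl hlW]; exact Nat.ordProj_dvd _ _)
  exact ⟨S.defect_vanish hl (by rw [S.deg_z]; exact h) hld,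
    S.defect_vanish hl (by rw [S.deg_v]; exact dvd_mul_of_dvd_right h _) hld⟩

theorem sti_three {g : G} (hg : 3 ∣ orderOf g) : S.sti g = 0 := by
  refine S.sti_eq_of ?_
  obtain ⟨m, -, hm⟩ := S.H.R.pow
  rw [S.defect_vanish Nat.prime_three ?_ hg, Int.cast_zero]
  rw [S.deg_st, (S.H.R.factorization_three hm).1, hm]
  exact dvd_of_eq (by push_cast; ring)

theorem sti_W {g : G} (hg : IsW C g) (ho : Odd (orderOf g)) : S.sti g = -1 :=
  S.sti_eq_of (by rw [S.relation_odd ho, (S.W_zero hg).1, (S.W_zero hg).2]; norm_num)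

/-- No element has order divisible by `3` and a prime of `q² - q + 1`. -/
theorem no_mixed {g : G} (h3 : 3 ∣ orderOf g) (hW : IsW C g) (ho : Odd (orderOf g)) : False := by
  have h1 := S.sti_three h3
  rw [S.sti_W hW ho] at h1
  norm_num at h1

/-- Values at `t x` and `x` have the same parity. -/
theorem parity {χ : IrrCharacter G} {f : G → ℤ} (hf : ∀ g, (χ : G → ℂ) g = (f g : ℂ)) (x : L) :
    (2 : ℤ) ∣ f (C.t * C.E x) - f (C.E x) := by
  have hζ : IsPrimitiveRoot (-1 : ℂ) 2 := IsPrimitiveRoot.neg_one 0 (by norm_num)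
  obtain ⟨ω, hω, he⟩ := value_congr_one_sub_root (isGenChar_of_char (isCharacter_of_irr χ.2)) Nat.prime_two hζ
    (x := C.t) (y := C.E x) (by rw [pow_two]; exact C.t_sq) (C.E_comm x).eq
  refine prime_dvd_of_one_sub_root Nat.prime_two hζ hω ?_
  push_cast
  rw [← hf, ← hf]
  exact he

theorem z_values {g : G} (hg : IsTor C.D.z g) : S.sti g ≠ 0 ∧ S.vi g ≠ 0 := by
  obtain ⟨c, k, hk, hk1, hc⟩ := S.H.tor_z_G hg
  rw [← S.sti_conj c g, ← S.vi_conj c g, hc]
  obtain ⟨h1, h2⟩ := S.tZ_values hk hk1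
  have p1 := S.parity S.sti_spec k
  have p2 := S.parity S.vi_spec k
  rw [h1] at p1
  rw [h2] at p2
  constructor <;> intro e
  · rw [e] at p1; norm_num at p1
  · rw [e] at p2; norm_num at p2

theorem y_values {g : G} (hg : IsTor C.D.y g) : S.sti g = -1 ∧ S.vi g = -3 := by
  obtain ⟨c, a, ha, ha1, hc⟩ := S.H.tor_y_G hg
  rw [← S.sti_conj c g, ← S.vi_conj c g, hc]
  exact ⟨(S.Y_values ha ha1).1, (S.Y_values ha ha1).2.2.1⟩

theorem t_values_z {x : L} (hx : IsTor C.D.z x) : S.sti (C.t * C.E x) = 1 ∧ S.vi (C.t * C.E x) = -1 := by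
  obtain ⟨c, hc, hc1⟩ := S.H.tor_z_L hx
  have e : C.E c * (C.t * C.E x) * (C.E c)⁻¹ = C.t * C.E (c * x * c⁻¹) := by
    rw [map_mul, map_mul, map_inv, ← mul_assoc, ← mul_assoc, ← mul_assoc, (C.E_comm c).eq]
  rw [← S.sti_conj (C.E c), ← S.vi_conj (C.E c), e]
  exact S.tZ_values hc hc1

theorem t_values_y {x : L} (hx : IsTor C.D.y x) : S.sti (C.t * C.E x) = -1 ∧ S.vi (C.t * C.E x) = 1 := by
  obtain ⟨c, hc, hc1⟩ := S.H.tor_y_L hx
  have e : C.E c * (C.t * C.E x) * (C.E c)⁻¹ = C.t * C.E (c * x * c⁻¹) := by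
    rw [map_mul, map_mul, map_inv, ← mul_assoc, ← mul_assoc, ← mul_assoc, (C.E_comm c).eq]
  rw [← S.sti_conj (C.E c), ← S.vi_conj (C.E c), e]
  exact ⟨(S.Y_values hc hc1).2.1, (S.Y_values hc hc1).2.2.2⟩

theorem t_values_one : S.sti (C.t * C.E 1) = C.D.q ∧ S.vi (C.t * C.E 1) = -(C.D.q : ℤ) := by
  rw [map_one, mul_one]
  exact ⟨S.sti_eq_of (by rw [C.T_spec, S.T_st]), S.vi_eq_of (by rw [C.T_spec, S.T_v])⟩

theorem sum_sq_st : ∑ g : G, S.sti g ^ 2 = (Nat.card G : ℤ) := by
  apply Int.cast_injective (α := ℂ)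
  push_cast
  rw [← sum_mul_conj_irr S.st.2]
  exact Finset.sum_congr rfl fun g _ => by rw [S.sti_spec, map_intCast, pow_two]

theorem sum_sq_v : ∑ g : G, S.vi g ^ 2 = (Nat.card G : ℤ) := by
  apply Int.cast_injective (α := ℂ)
  push_cast
  rw [← sum_mul_conj_irr S.v.2]
  exact Finset.sum_congr rfl fun g _ => by rw [S.vi_spec, map_intCast, pow_two]

/-- The elements of odd order of `L`, by type. -/
theorem sum_odd_L (f : L → ℤ) :
    ∑ x ∈ Finset.univ.filter (fun x : L => Odd (orderOf x)), f x =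
      f 1 + ∑ x ∈ Finset.univ.filter (fun x : L => IsU x), f x +
        ∑ x ∈ Finset.univ.filter (fun x : L => IsTor C.D.z x), f x +
        ∑ x ∈ Finset.univ.filter (fun x : L => IsTor C.D.y x), f x := by
  have e1 : f 1 = ∑ x : L, if x = 1 then f x else 0 := by rw [Finset.sum_ite_eq']; simp
  rw [e1, Finset.sum_filter, Finset.sum_filter, Finset.sum_filter, Finset.sum_filter, ← Finset.sum_add_distrib,
    ← Finset.sum_add_distrib, ← Finset.sum_add_distrib]
  refine Finset.sum_congr rfl fun x _ => ?_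
  by_cases hx1 : x = 1
  · subst hx1
    simp [IsU, IsTor]
  have h3 : IsU x → ¬ IsTor C.D.z x ∧ ¬ IsTor C.D.y x := fun h =>
    ⟨fun h' => S.H.tor_not_three (Or.inl h') (k := 1) (by rw [pow_one]; exact h.2),
      fun h' => S.H.tor_not_three (Or.inr h') (k := 1) (by rw [pow_one]; exact h.2)⟩
  have hzy : IsTor C.D.z x → ¬ IsTor C.D.y x := fun h h' => S.H.tor_disjoint h h'
  by_cases ho : Odd (orderOf x)
  · rcases S.H.L_cases ho with h | h | h
    · have hU : IsU x := ⟨hx1, h⟩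
      simp [ho, hx1, hU, (h3 hU).1, (h3 hU).2]
    · have hU : ¬ IsU x := fun hU => (h3 hU).1 h
      simp [ho, hx1, hU, h, hzy h]
    · have hU : ¬ IsU x := fun hU => (h3 hU).2 h
      have hz : ¬ IsTor C.D.z x := fun h' => hzy h' h
      simp [ho, hx1, hU, hz, h]
  · have hU : ¬ IsU x := fun h => ho ((show Odd 3 by decide).of_dvd_nat (orderOf_dvd_of_pow_eq_one h.2))
    have hz : ¬ IsTor C.D.z x := fun h => ho (Hyp.odd_of_isTor S.H.R.z_odd h)
    have hy : ¬ IsTor C.D.y x := fun h => ho (Hyp.odd_of_isTor C.D.hy h)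
    simp [ho, hx1, hU, hz, hy]

/-- The elements of `G`, by type. -/
theorem sum_types (f : G → ℤ) :
    ∑ g : G, f g = f 1 + ∑ g ∈ Finset.univ.filter (fun g : G => g ≠ 1 ∧ ∃ k, g ^ 3 ^ k = 1), f g +
      ∑ g ∈ Finset.univ.filter (fun g : G => Even (orderOf g)), f g +
      ∑ g ∈ Finset.univ.filter (fun g : G => IsW C g ∧ Odd (orderOf g)), f g +
      ∑ g ∈ Finset.univ.filter (fun g : G => IsTor C.D.z g), f g +
      ∑ g ∈ Finset.univ.filter (fun g : G => IsTor C.D.y g), f g := by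
  have e1 : f 1 = ∑ x : G, if x = 1 then f x else 0 := by rw [Finset.sum_ite_eq']; simp
  rw [e1, Finset.sum_filter, Finset.sum_filter, Finset.sum_filter, Finset.sum_filter, Finset.sum_filter,
    ← Finset.sum_add_distrib, ← Finset.sum_add_distrib, ← Finset.sum_add_distrib, ← Finset.sum_add_distrib,
    ← Finset.sum_add_distrib]
  refine Finset.sum_congr rfl fun g _ => ?_
  by_cases hg1 : g = 1
  · subst hg1
    have : ¬ IsW C (1 : G) := fun ⟨l, hl, _, hld⟩ => hl.one_lt.ne' (by simpa using hld)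
    simp [IsTor, this]
  by_cases ho : Odd (orderOf g)
  · have he : ¬ Even (orderOf g) := Nat.not_even_iff_odd.mpr ho
    by_cases h3 : ∃ k, g ^ 3 ^ k = 1
    · obtain ⟨k, hk⟩ := h3
      have hz : ¬ IsTor C.D.z g := fun h => S.H.tor_not_three (Or.inl h) hk
      have hy : ¬ IsTor C.D.y g := fun h => S.H.tor_not_three (Or.inr h) hk
      have hW : ¬ IsW C g := fun ⟨l, hl, hlW, hld⟩ => (not_dvd_of_dvd_reeW S.H.R hl hlW).1
        ((Nat.prime_dvd_prime_iff_eq hl Nat.prime_three).mp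
          (hl.dvd_of_dvd_pow (hld.trans (orderOf_dvd_of_pow_eq_one hk))))
      simp [hg1, he, hz, hy, hW, show ∃ k, g ^ 3 ^ k = 1 from ⟨k, hk⟩]
    · by_cases hW : IsW C g
      · have hz : ¬ IsTor C.D.z g := fun h => S.H.not_isW_of_tor (Or.inl h) hW
        have hy : ¬ IsTor C.D.y g := fun h => S.H.not_isW_of_tor (Or.inr h) hW
        simp [hg1, he, ho, h3, hW, hz, hy]
      · rcases S.H.odd_cases ho with h | h | h | h
        · exact absurd h hW
        · exact absurd h h3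
        · have hy : ¬ IsTor C.D.y g := fun h' => S.H.tor_disjoint h h'
          simp [hg1, he, h3, hW, h, hy]
        · have hz : ¬ IsTor C.D.z g := fun h' => S.H.tor_disjoint h' h
          simp [hg1, he, h3, hW, h, hz]
  · have he : Even (orderOf g) := Nat.not_odd_iff_even.mp ho
    have h3 : ¬ ∃ k, g ^ 3 ^ k = 1 := fun ⟨k, hk⟩ =>
      ho ((Odd.pow (by decide) : Odd (3 ^ k)).of_dvd_nat (orderOf_dvd_of_pow_eq_one hk))
    have hz : ¬ IsTor C.D.z g := fun h => ho (Hyp.odd_of_isTor S.H.R.z_odd h)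
    have hy : ¬ IsTor C.D.y g := fun h => ho (Hyp.odd_of_isTor C.D.hy h)
    simp [hg1, ho, he, h3, hz, hy]

theorem invs_eq : ((Cfg.invs G).card : ℤ) = (C.D.q : ℤ) ^ 2 * reeW C := by
  exact_mod_cast card_invs_eq S.H.R

/-- There are at least `q⁶` 3-elements. -/
theorem card_three : (C.D.q : ℤ) ^ 6 ≤ (Nat.card {g : G // ∃ k, g ^ 3 ^ k = 1} : ℤ) := by
  set n : ℤ := ((Cfg.invs G).card : ℤ)
  have hn : (0 : ℤ) ≤ n := Nat.cast_nonneg _
  -- the count
  have h1 := S.sum_types fun _ => (1 : ℤ)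
  rw [S.H.sum_even _ (fun _ _ => rfl), S.sum_odd_L] at h1
  simp only [Finset.sum_const, nsmul_eq_mul, mul_one, Finset.card_univ] at h1
  -- the square sum
  have h2 := S.sum_types fun g => S.sti g ^ 2
  rw [S.sum_sq_st, S.H.sum_even _ (fun c g => by rw [S.sti_conj]), S.sum_odd_L, S.t_values_one.1,
    Finset.sum_congr rfl (g := fun _ => (1 : ℤ)) (s₁ := Finset.univ.filter fun x : L => IsTor C.D.z x)
      (fun x hx => by rw [(S.t_values_z (Finset.mem_filter.mp hx).2).1]; norm_num),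
    Finset.sum_congr rfl (g := fun _ => (1 : ℤ)) (s₁ := Finset.univ.filter fun x : L => IsTor C.D.y x)
      (fun x hx => by rw [(S.t_values_y (Finset.mem_filter.mp hx).2).1]; norm_num),
    S.sti_eq_of (g := 1) (n := (C.D.q : ℤ) ^ 3) (by rw [(C.deg_spec S.st).1, S.deg_st])] at h2
  simp only [Finset.sum_const, nsmul_eq_mul, mul_one] at h2
  have hW : ((Finset.univ.filter fun g : G => IsW C g ∧ Odd (orderOf g)).card : ℤ) ≤
      ∑ g ∈ Finset.univ.filter (fun g : G => IsW C g ∧ Odd (orderOf g)), S.sti g ^ 2 := by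
    rw [Finset.cast_card]
    refine Finset.sum_le_sum fun g hg => ?_
    obtain ⟨h, ho⟩ := (Finset.mem_filter.mp hg).2
    rw [S.sti_W h ho]; norm_num
  have hZ : ((Finset.univ.filter fun g : G => IsTor C.D.z g).card : ℤ) ≤
      ∑ g ∈ Finset.univ.filter (fun g : G => IsTor C.D.z g), S.sti g ^ 2 := by
    rw [Finset.cast_card]
    refine Finset.sum_le_sum fun g hg => ?_
    have := (S.z_values (Finset.mem_filter.mp hg).2).1
    exact Int.add_one_le_iff.mpr (sq_pos_iff.mpr this)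
  have hY : ((Finset.univ.filter fun g : G => IsTor C.D.y g).card : ℤ) ≤
      ∑ g ∈ Finset.univ.filter (fun g : G => IsTor C.D.y g), S.sti g ^ 2 := by
    rw [Finset.cast_card]
    refine Finset.sum_le_sum fun g hg => ?_
    rw [(S.y_values (Finset.mem_filter.mp hg).2).1]; norm_num
  have h3 : (0 : ℤ) ≤ ∑ g ∈ Finset.univ.filter (fun g : G => g ≠ 1 ∧ ∃ k, g ^ 3 ^ k = 1), S.sti g ^ 2 :=
    Finset.sum_nonneg fun _ _ => sq_nonneg _
  have hU : (0 : ℤ) ≤ n * ∑ x ∈ Finset.univ.filter (fun x : L => IsU x), S.sti (C.t * C.E x) ^ 2 :=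
    mul_nonneg hn (Finset.sum_nonneg fun _ _ => sq_nonneg _)
  have hU2 : ((Finset.univ.filter fun x : L => IsU x).card : ℤ) + 1 ≤ (C.D.q : ℤ) ^ 2 := by
    have e : (Finset.univ.filter fun x : L => IsU x) =
        (Finset.univ.filter fun x : L => x ^ 3 = 1).erase 1 := by
      ext x
      rw [Finset.mem_erase, Finset.mem_filter, Finset.mem_filter]
      simp only [IsU, Finset.mem_univ, true_and, ne_eq]
    have h := S.H.card_three_L
    rw [Nat.card_eq_fintype_card, Fintype.card_subtype] at h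
    have h' : (Finset.univ.filter fun x : L => IsU x).card + 1 ≤ C.D.q ^ 2 := by
      rw [e, Finset.card_erase_add_one (by simp)]; exact h
    exact_mod_cast h'
  have hT : ((Finset.univ.filter fun g : G => g ≠ 1 ∧ ∃ k, g ^ 3 ^ k = 1).card : ℤ) + 1 =
      (Nat.card {g : G // ∃ k, g ^ 3 ^ k = 1} : ℤ) := by
    have e : (Finset.univ.filter fun g : G => g ≠ 1 ∧ ∃ k, g ^ 3 ^ k = 1) =
        (Finset.univ.filter fun g : G => ∃ k, g ^ 3 ^ k = 1).erase 1 := by
      ext x; simp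
    rw [Nat.card_eq_fintype_card, Fintype.card_subtype, e]
    exact_mod_cast Finset.card_erase_add_one (by simp)
  rw [← Nat.card_eq_fintype_card] at h1
  nlinarith [mul_le_mul_of_nonneg_left hU2 hn]

theorem two_NZ_four_NY : (C.D.q : ℤ) ^ 2 * ((C.D.q : ℤ) - 3) ≤
    2 * ((Finset.univ.filter fun x : L => IsTor C.D.z x).card : ℤ) +
      4 * ((Finset.univ.filter fun x : L => IsTor C.D.y x).card : ℤ) := by
  have hz := S.H.count_z
  have hy := S.H.count_y
  rw [Nat.card_eq_fintype_card (α := {x : L // IsTor C.D.z x}), Fintype.card_subtype, S.H.card_L] at hz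
  rw [Nat.card_eq_fintype_card (α := {x : L // IsTor C.D.y x}), Fintype.card_subtype, S.H.card_L] at hy
  have h1 : 1 ≤ C.D.z := S.H.R.z_odd.pos
  have h2 : 1 ≤ C.D.y := C.D.hy.pos
  have hz' : 2 * C.D.q * C.D.y * (C.D.z - 1) ≤ (Finset.univ.filter fun x : L => IsTor C.D.z x).card :=
    Nat.le_of_mul_le_mul_left (c := 2 * C.D.z) (le_trans (le_of_eq (by ring)) hz) (by omega)
  have hy' : C.D.q * C.D.z * (C.D.y - 1) ≤ (Finset.univ.filter fun x : L => IsTor C.D.y x).card :=
    Nat.le_of_mul_le_mul_left (c := 4 * C.D.y) (le_trans (le_of_eq (by ring)) hy) (by omega)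
  zify [h1, h2] at hz' hy'
  have e1 : (C.D.q : ℤ) + 1 = 4 * C.D.y := by exact_mod_cast S.H.R.q_y
  have e2 : (C.D.q : ℤ) = 2 * C.D.z + 1 := by exact_mod_cast S.H.R.q_z
  have e3 : (C.D.q : ℤ) ^ 2 * ((C.D.q : ℤ) - 3) =
      2 * (2 * C.D.q * C.D.y * ((C.D.z : ℤ) - 1)) + 4 * (C.D.q * C.D.z * ((C.D.y : ℤ) - 1)) := by
    have h4 : (C.D.q : ℤ) = 4 * C.D.y - 1 := by linarith
    have h5 : (C.D.z : ℤ) = 2 * C.D.y - 1 := by linarith
    rw [h5, h4]; ring
  linarith

/-- The squares of `v` on the 3-elements. -/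
theorem v_bound : ∑ g ∈ Finset.univ.filter (fun g : G => g ≠ 1 ∧ ∃ k, g ^ 3 ^ k = 1), S.vi g ^ 2 +
    ((Cfg.invs G).card : ℤ) * ∑ x ∈ Finset.univ.filter (fun x : L => IsU x), S.vi (C.t * C.E x) ^ 2 ≤
      ((C.D.q : ℤ) ^ 3 + 1) * ((C.D.q : ℤ) ^ 2 * ((C.D.q : ℤ) - 1)) := by
  set n : ℤ := ((Cfg.invs G).card : ℤ) with hn0
  have hn : (0 : ℤ) ≤ n := Nat.cast_nonneg _
  have h2 := S.sum_types fun g => S.vi g ^ 2
  rw [S.sum_sq_v, S.H.sum_even _ (fun c g => by rw [S.vi_conj]), S.sum_odd_L, S.t_values_one.2,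
    Finset.sum_congr rfl (g := fun _ => (1 : ℤ)) (s₁ := Finset.univ.filter fun x : L => IsTor C.D.z x)
      (fun x hx => by rw [(S.t_values_z (Finset.mem_filter.mp hx).2).2]; norm_num),
    Finset.sum_congr rfl (g := fun _ => (1 : ℤ)) (s₁ := Finset.univ.filter fun x : L => IsTor C.D.y x)
      (fun x hx => by rw [(S.t_values_y (Finset.mem_filter.mp hx).2).2]; norm_num),
    S.vi_eq_of (g := 1) (n := (C.D.q : ℤ) * reeW C) (by rw [(C.deg_spec S.v).1, S.deg_v])] at h2
  simp only [Finset.sum_const, nsmul_eq_mul, mul_one] at h2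
  have hW : (0 : ℤ) ≤ ∑ g ∈ Finset.univ.filter (fun g : G => IsW C g ∧ Odd (orderOf g)), S.vi g ^ 2 :=
    Finset.sum_nonneg fun _ _ => sq_nonneg _
  have hZ : n * ((Finset.univ.filter fun x : L => IsTor C.D.z x).card : ℤ) ≤
      ∑ g ∈ Finset.univ.filter (fun g : G => IsTor C.D.z g), S.vi g ^ 2 := by
    have e := S.H.sum_tor S.H.R.z_odd (fun _ => (1 : ℤ)) (fun _ _ => rfl)
    rw [Finset.sum_const, nsmul_eq_mul, mul_one] at e
    rw [hn0, ← e]
    refine Finset.sum_le_sum fun g hg => ?_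
    have h := S.H.inv_z (Finset.mem_filter.mp hg).2
    have h' := (S.z_values (Finset.mem_filter.mp hg).2).2
    have h'' : (1 : ℤ) ≤ S.vi g ^ 2 := Int.add_one_le_iff.mpr (sq_pos_iff.mpr h')
    have h0 : (((Cfg.invs G).filter fun i => Commute g i).card : ℤ) ≤ 1 := by exact_mod_cast h
    linarith
  have hY : 3 * (n * ((Finset.univ.filter fun x : L => IsTor C.D.y x).card : ℤ)) ≤
      ∑ g ∈ Finset.univ.filter (fun g : G => IsTor C.D.y g), S.vi g ^ 2 := by
    have e := S.H.sum_tor C.D.hy (fun _ => (1 : ℤ)) (fun _ _ => rfl)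
    rw [Finset.sum_const, nsmul_eq_mul, mul_one] at e
    rw [hn0, ← e, Finset.mul_sum]
    refine Finset.sum_le_sum fun g hg => ?_
    have h := S.H.inv_y (Finset.mem_filter.mp hg).2
    rw [(S.y_values (Finset.mem_filter.mp hg).2).2]
    have h0 : (((Cfg.invs G).filter fun i => Commute g i).card : ℤ) ≤ 3 := by exact_mod_cast h
    linarith
  have hG : (Nat.card G : ℤ) = (C.D.q : ℤ) ^ 3 * ((C.D.q : ℤ) ^ 3 + 1) * ((C.D.q : ℤ) - 1) := by
    rw [S.H.R.card]
    push_cast [Nat.cast_sub (show 1 ≤ C.D.q by have := S.H.R.seven_q; omega)]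
    ring
  have hN := mul_le_mul_of_nonneg_left S.two_NZ_four_NY hn
  rw [hG] at h2
  have hW' := S.W_eq
  have hinv := S.invs_eq
  rw [← hn0] at hinv
  have key : ((C.D.q : ℤ) * reeW C) ^ 2 + n * ((C.D.q : ℤ) ^ 2 + (C.D.q : ℤ) ^ 2 * ((C.D.q : ℤ) - 3)) =
      (C.D.q : ℤ) ^ 3 * ((C.D.q : ℤ) ^ 3 + 1) * ((C.D.q : ℤ) - 1) -
        ((C.D.q : ℤ) ^ 3 + 1) * ((C.D.q : ℤ) ^ 2 * ((C.D.q : ℤ) - 1)) := by
    rw [hinv, hW']; ring
  nlinarith

end Sys

end CfsgLib.WalterUse.Ward
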