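import Cfsg.Agent.Lib.WalterUse.PSLThree
import Cfsg.Agent.Lib.PSL2.Aut

/-!
Ward's theory for the groups of the order of a small Ree group: the further facts about `L = PSL₂(q)`.
-/

set_option autoImplicit false
set_option linter.unusedSectionVars false
set_option linter.style.haveILetI false

namespace CfsgLib.WalterUse.Ward

open Matrix CfsgLib.SL2Char CfsgLib.SL2Tori CfsgLib.JankoThompson CfsgLib.WalterUse

universe v

/-- The torus `Z` meets a class in at most two elements and normalises a Sylow 3-subgroup. -/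
structure WFacts (L : Type v) [Group L] (Z : Subgroup L) (q : ℕ) : Prop where
  conjZ : ∀ x ∈ Z, x ≠ 1 → ∀ g : L, g * x * g⁻¹ ∈ Z → g * x * g⁻¹ = x ∨ g * x * g⁻¹ = x⁻¹
  borel : ∃ U : Subgroup L, IsPGroup 3 U ∧ Nat.card U = q ∧ ∀ z ∈ Z, ∀ u ∈ U, z * u * z⁻¹ ∈ U

variable {F : Type*} [Field F] [Fintype F] [DecidableEq F]

local notation "SL2" => Matrix.SpecialLinearGroup (Fin 2) F
local notation "PSL" => Matrix.ProjectiveSpecialLinearGroup (Fin 2) F
local notation "π" => (PSL2.mk : SL2 →* PSL)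

/-- A cyclic subgroup of order `z` is conjugate to the torus of the table. -/
theorem exists_conj_tZ (T : Tbl F) (Z : Subgroup PSL) (hZc : IsCyclic Z) (hZ : Nat.card Z = T.z) :
    ∃ h : PSL, Z.map (MulAut.conj h).toMonoidHom = T.tZ := by
  classical
  obtain ⟨c1, c2, c3, hzo⟩ := T.coprimes
  haveI := hZc
  obtain ⟨⟨γ, hγZ⟩, hgen⟩ := IsCyclic.exists_generator (α := Z)
  have hγo : orderOf γ = T.z := by
    rw [← hZ, ← Subgroup.orderOf_mk γ hγZ, orderOf_eq_card_of_forall_mem_zpowers hgen]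
  obtain ⟨h, hh⟩ : ∃ h, h * γ * h⁻¹ ∈ T.tZ := by
    have hg : γ ^ T.z = 1 := hγo ▸ pow_orderOf_eq_one γ
    rcases T.kinds γ with rfl | ⟨e, x, he, -, hx⟩ | ⟨a, ha, -, hx⟩ | ⟨b, hb, -, hx⟩
    · exact ⟨1, by simp⟩
    · refine ⟨1, ?_⟩
      rw [eq_one_of_pow_coprime hg (isConj_pow_eq_one hx.symm (T.pow_unip he x)) c2.symm]
      simp
    · refine ⟨1, ?_⟩
      rw [eq_one_of_pow_coprime hg (isConj_pow_eq_one hx.symm (T.pow_A ha)) c3.symm]
      simp
    · obtain ⟨k, hk⟩ := isConj_iff.mp hx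
      exact ⟨k, hk ▸ Subgroup.mem_map_of_mem _ hb⟩
  refine ⟨h, Subgroup.eq_of_le_of_card_ge ?_ ?_⟩
  · rintro _ ⟨x, hx, rfl⟩
    obtain ⟨n, hn⟩ := Subgroup.mem_zpowers_iff.mp (hgen ⟨x, hx⟩)
    rw [show x = γ ^ n from (congrArg Subtype.val hn).symm]
    show h * γ ^ n * h⁻¹ ∈ T.tZ
    rw [← conj_zpow]
    exact zpow_mem hh n
  · rw [Subgroup.card_map_of_injective (f := (MulAut.conj h).toMonoidHom) (MulAut.conj h).injective, hZ, T.card_tZ]

/-- The diagonal torus normalises the unitriangular group. -/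
theorem diag_uu (a : Fˣ) (t : F) :
    π (bor a 0) * PSL2.uu t * (π (bor a 0))⁻¹ = PSL2.uu ((a : F) * a * t) := by
  rw [mul_inv_eq_iff_eq_mul]
  show π (bor a 0) * π (PSL2.uSL t) = π (PSL2.uSL ((a : F) * a * t)) * π (bor a 0)
  rw [← map_mul, ← map_mul]
  congr 1
  apply Subtype.ext
  rw [Matrix.SpecialLinearGroup.coe_mul, Matrix.SpecialLinearGroup.coe_mul, bor_coe, PSL2.coe_uSL, PSL2.coe_uSL]
  ext i j
  fin_cases i <;> fin_cases j <;> simp <;> field_simp

/-- The facts for a cyclic subgroup of order `z`. -/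
theorem Tbl.wFacts (T : Tbl F) {n : ℕ} (hn : n ≠ 0) (hcard : Fintype.card F = 3 ^ n) (hδ : T.δ = -1) (Z : Subgroup PSL)
    (hZc : IsCyclic Z) (hZ : Nat.card Z = T.z) : WFacts PSL Z (Fintype.card F) := by
  classical
  have h2 := T.two_ne
  haveI : Fact (Nat.Prime 3) := ⟨Nat.prime_three⟩
  obtain ⟨p, hp⟩ := CharP.exists F
  haveI := hp
  obtain ⟨k, hpp, hk⟩ := FiniteField.card F p
  have hp3 : p = 3 := by
    have h : p ∣ 3 ^ n := by rw [← hcard, hk]; exact dvd_pow_self p k.ne_zero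
    exact (Nat.prime_dvd_prime_iff_eq hpp Nat.prime_three).mp (hpp.dvd_of_dvd_pow h)
  subst hp3
  obtain ⟨h, hh⟩ := exists_conj_tZ T Z hZc hZ
  have hin : ∀ {x}, x ∈ Z → h * x * h⁻¹ ∈ T.tZ := fun {x} hx => hh ▸ Subgroup.mem_map_of_mem _ hx
  constructor
  · intro x hx hx1 g hg
    have := T.torB.conj_cases h2 (hin hx) (fun e => hx1 (conj_eq_one_iff.mp e)) (g := h * g * h⁻¹) (by
      rw [show h * g * h⁻¹ * (h * x * h⁻¹) * (h * g * h⁻¹)⁻¹ = h * (g * x * g⁻¹) * h⁻¹ by group]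
      exact hin hg)
    rw [show h * g * h⁻¹ * (h * x * h⁻¹) * (h * g * h⁻¹)⁻¹ = h * (g * x * g⁻¹) * h⁻¹ by group] at this
    rcases this with e | e
    · exact Or.inl ((MulAut.conj h).injective e)
    · exact Or.inr ((MulAut.conj h).injective (e.trans (by simp [MulAut.conj_apply, mul_assoc])))
  · obtain ⟨hS, hScard⟩ := tor_split (F := F) h2
    set D0 : Subgroup PSL := (diagHom (F := F)).range.map π with hD0
    have hD0card : Nat.card D0 = T.z := by
      have h1 : 2 * Nat.card D0 = Nat.card (diagHom (F := F)).range := hS.card_map T.odd_card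
      have hq := T.hq
      have hz := T.hz
      rw [hδ] at hq hz
      rw [hScard] at h1
      omega
    obtain ⟨k, hk'⟩ := exists_conj_tZ T D0 hS.isCyclic_map hD0card
    set w := k⁻¹ * h with hw
    have hZD : ∀ z ∈ Z, w * z * w⁻¹ ∈ D0 := by
      intro z hz
      have h1 := hin hz
      rw [← hk'] at h1
      obtain ⟨d, hd, hde⟩ := h1
      have : w * z * w⁻¹ = d := by
        rw [hw, show k⁻¹ * h * z * (k⁻¹ * h)⁻¹ = k⁻¹ * (h * z * h⁻¹) * k by group, ← hde]
        simp [MulAut.conj_apply, mul_assoc]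
      exact this ▸ hd
    set U₀ : Subgroup PSL := ((PSL2.uSylow (F := F) 3 : Sylow 3 PSL) : Subgroup PSL) with hU₀
    refine ⟨U₀.map (MulAut.conj w⁻¹).toMonoidHom, (PSL2.uSylow (F := F) 3).2.map _, ?_, ?_⟩
    · rw [Subgroup.card_map_of_injective (f := (MulAut.conj w⁻¹).toMonoidHom) (MulAut.conj w⁻¹).injective]
      show Nat.card (PSL2.uHom : Multiplicative F →* PSL).range = _
      rw [← Nat.card_congr (MonoidHom.ofInjective (f := (PSL2.uHom : Multiplicative F →* PSL))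
        fun a b h => Multiplicative.toAdd.injective (PSL2.uu_injective h)).toEquiv, Nat.card_congr Multiplicative.toAdd,
        Nat.card_eq_fintype_card]
    · rintro z hz _ ⟨u, ⟨t, rfl⟩, rfl⟩
      obtain ⟨d, ⟨a, rfl⟩, hd⟩ := hZD z hz
      refine ⟨PSL2.uu ((a : F) * a * t.toAdd), ⟨_, rfl⟩, ?_⟩
      have e : z = w⁻¹ * π (bor a 0) * w := by
        rw [show π (bor a 0) = w * z * w⁻¹ from hd]
        group
      show w⁻¹ * PSL2.uu ((a : F) * a * t.toAdd) * w⁻¹⁻¹ = z * (w⁻¹ * PSL2.uHom t * w⁻¹⁻¹) * z⁻¹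
      rw [← diag_uu, e, show PSL2.uu t.toAdd = PSL2.uHom t from rfl]
      group

/-- The facts in the data of the configuration. -/
theorem exists_wFacts {K : Type*} [Field K] [Fintype K]
    [Fintype (Matrix.ProjectiveSpecialLinearGroup (Fin 2) K)] {m : ℕ} (hcard : Fintype.card K = 3 ^ (2 * m + 1))
    (D : LData (Matrix.ProjectiveSpecialLinearGroup (Fin 2) K)) (hq : D.q = Fintype.card K) (hδ : D.δ = -1) :
    WFacts (Matrix.ProjectiveSpecialLinearGroup (Fin 2) K) D.Z D.q := by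
  classical
  have e1 := D.hq
  rw [hq, hδ] at e1
  obtain ⟨T, hT, hTy⟩ := tbl_neg (F := K) (y := D.y) D.hy (by omega)
  rw [hq]
  refine Tbl.wFacts T (n := 2 * m + 1) (by omega) hcard hT D.Z D.cycZ ?_
  rw [D.cardZ]
  have h1 := D.hz
  have h2 := T.hz
  rw [hδ] at h1
  rw [hT, hTy] at h2
  omega

end CfsgLib.WalterUse.Ward
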