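import Cfsg.Agent.Lib.WalterUse.Ward.Basic
import Cfsg.Agent.Lib.WalterUse.Ward.Facts
import Cfsg.Agent.Lib.WalterUse.ReeTorus

/-!
Ward's theory for the groups of the order of a small Ree group: the elements of the torus types and the sums
over the elements of a given type.
-/

set_option autoImplicit false
set_option linter.unusedSectionVars false
set_option linter.style.haveILetI false

namespace CfsgLib.WalterUse.Ward

open CfsgLib.JankoThompson CfsgLib.WalterUse

universe u v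

variable {G : Type u} [Group G] [Fintype G] {L : Type v} [Group L] [Fintype L] (C : Cfg G L)

/-- The hypotheses. -/
structure Hyp : Prop where
  R : ReeCfg C
  hu : UFacts L
  hw : WFacts L C.D.Z C.D.q

/-- An element with a prime divisor of `q² - q + 1` in its order. -/
def IsW (g : G) : Prop := ∃ l : ℕ, l.Prime ∧ l ∣ reeW C ∧ l ∣ orderOf g

variable {C}

namespace Hyp

variable (H : Hyp C)
include H

theorem tori_coprime : Nat.Coprime C.D.z C.D.y := by
  have e1 := H.R.q_y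
  have e2 := H.R.q_z
  have h : C.D.z + 1 = 2 * C.D.y := by omega
  refine Nat.coprime_of_dvd' fun k _ h1 h2 => ?_
  have h3 := dvd_mul_of_dvd_right h2 2
  rw [← h] at h3
  exact (Nat.dvd_add_right h1).mp h3

theorem card_L : Nat.card L = C.D.q * (4 * C.D.y * C.D.z) := by
  have e := C.D.card
  have e1 : (C.D.q : ℤ) + 1 = 4 * C.D.y := by exact_mod_cast H.R.q_y
  have e2 : (C.D.q : ℤ) = 2 * C.D.z + 1 := by exact_mod_cast H.R.q_z
  have : (2 : ℤ) * Nat.card L = 2 * ((C.D.q * (4 * C.D.y * C.D.z) : ℕ) : ℤ) := by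
    rw [e]
    push_cast
    linear_combination (C.D.q : ℤ) * ((2 * (C.D.z : ℤ)) * e1 + ((C.D.q : ℤ) + 1) * e2)
  omega

theorem factL_le (l : ℕ) : (Nat.card L).factorization l ≤ (Nat.card G).factorization l :=
  (Nat.factorization_le_iff_dvd Nat.card_pos.ne' Nat.card_pos.ne').mpr (Subgroup.card_dvd_of_injective C.E C.E_inj) l

omit H in
theorem exists_pow_prime {X : Type*} [Group X] [Finite X] {x : X} {l : ℕ} (hl : l.Prime) (h : l ∣ orderOf x) :
    ∃ m : ℕ, orderOf (x ^ m) = l := by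
  refine ⟨orderOf x / l, ?_⟩
  obtain ⟨c, hc⟩ := h
  have hc0 : 0 < c := Nat.pos_of_ne_zero fun e => (orderOf_pos x).ne' (by rw [hc, e, mul_zero])
  rw [hc, Nat.mul_div_cancel_left _ hl.pos, orderOf_pow' _ hc0.ne', hc, Nat.gcd_eq_right (dvd_mul_left c l),
    Nat.mul_div_cancel _ hc0]

/-- An element of odd order with a prime of `y` in its order lies over a conjugate of `Y`. -/
theorem pow_y {g : G} (ho : Odd (orderOf g)) {l : ℕ} (hl : l.Prime) (hy : l ∣ C.D.y) (hd : l ∣ orderOf g) :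
    g ^ C.D.y = 1 := by
  haveI := Fact.mk hl
  have hl3 : l ≠ 3 := fun e => H.R.three_not_torus (dvd_mul_of_dvd_left (dvd_mul_of_dvd_right (e ▸ hy) _) _)
  obtain ⟨m, hm⟩ := exists_pow_prime hl hd
  obtain ⟨x, hx⟩ := conj_into (C.D.Y.map C.E) (by
    rw [Subgroup.card_map_of_injective C.E_inj, C.D.cardY, H.R.factorization_y hl hy hl3]) hm
  obtain ⟨a, ha, hae⟩ := hx
  have ha1 : a ≠ 1 := fun e => by
    rw [e, map_one, eq_comm, conj_eq_one_iff] at hae
    rw [hae, orderOf_one] at hm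
    exact hl.one_lt.ne hm
  have hc : Commute (x * g * x⁻¹) (C.E a) := by
    rw [hae]
    exact commute_conj ((Commute.refl g).pow_right m) x
  have h2 := cent_Y_pow ha ha1 hc
  rw [conj_pow, conj_eq_one_iff, mul_comm, pow_mul] at h2
  refine eq_one_of_pow_coprime (m := 2) h2 (by rw [← pow_mul, mul_comm, pow_mul, pow_orderOf_eq_one, one_pow])
    (Nat.coprime_two_left.mpr ho)

/-- An element of odd order with a prime of `z` in its order lies in a conjugate of `Z`. -/
theorem conj_z {g : G} (ho : Odd (orderOf g)) {l : ℕ} (hl : l.Prime) (hz : l ∣ C.D.z) (hd : l ∣ orderOf g) :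
    ∃ c : G, ∃ k ∈ C.D.Z, c * g * c⁻¹ = C.E k := by
  haveI := Fact.mk hl
  obtain ⟨m, hm⟩ := exists_pow_prime hl hd
  obtain ⟨x, hx⟩ := conj_into (C.D.Z.map C.E) (by
    rw [Subgroup.card_map_of_injective C.E_inj, C.D.cardZ, H.R.factorization_z hl hz]) hm
  obtain ⟨k, hk, hke⟩ := hx
  have hk1 : k ≠ 1 := fun e => by
    rw [e, map_one, eq_comm, conj_eq_one_iff] at hke
    rw [hke, orderOf_one] at hm
    exact hl.one_lt.ne hm
  have hc : Commute (x * g * x⁻¹) (C.E k) := by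
    rw [hke]
    exact commute_conj ((Commute.refl g).pow_right m) x
  obtain ⟨l', hl'⟩ := odd_mem_E (H.R.cent_Z hk hk1 hc) (by rw [order_conj]; exact ho)
  refine ⟨x, l', H.R.zf.cent k hk hk1 l' (C.E_inj ?_), hl'⟩
  rw [map_mul, map_mul, ← hl']
  exact hc

theorem isTor_z_conj {g : G} (hg : IsTor C.D.z g) : ∃ c : G, ∃ k ∈ C.D.Z, k ≠ 1 ∧ c * g * c⁻¹ = C.E k := by
  have hd : orderOf g ∣ C.D.z := orderOf_dvd_of_pow_eq_one hg.2
  have hne : orderOf g ≠ 1 := fun e => hg.1 (orderOf_eq_one_iff.mp e)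
  obtain ⟨c, k, hk, hke⟩ := H.conj_z (H.R.z_odd.of_dvd_nat hd) (Nat.minFac_prime hne)
    ((Nat.minFac_dvd _).trans hd) (Nat.minFac_dvd _)
  exact ⟨c, k, hk, fun e => hg.1 (conj_eq_one_iff.mp (by rw [hke, e, map_one])), hke⟩

theorem isTor_y_conj {g : G} (hg : IsTor C.D.y g) :
    ∃ c : G, ∃ m : ℕ, ∃ a ∈ C.D.Y, a ≠ 1 ∧ c * g ^ m * c⁻¹ = C.E a := by
  have hd : orderOf g ∣ C.D.y := orderOf_dvd_of_pow_eq_one hg.2
  have hne : orderOf g ≠ 1 := fun e => hg.1 (orderOf_eq_one_iff.mp e)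
  have hl := Nat.minFac_prime hne
  haveI := Fact.mk hl
  have hy : (orderOf g).minFac ∣ C.D.y := (Nat.minFac_dvd _).trans hd
  have hl3 : (orderOf g).minFac ≠ 3 := fun e =>
    H.R.three_not_torus (dvd_mul_of_dvd_left (dvd_mul_of_dvd_right (e ▸ hy) _) _)
  obtain ⟨m, hm⟩ := exists_pow_prime hl (Nat.minFac_dvd _)
  obtain ⟨x, hx⟩ := conj_into (C.D.Y.map C.E) (by
    rw [Subgroup.card_map_of_injective C.E_inj, C.D.cardY, H.R.factorization_y hl hy hl3]) hm
  obtain ⟨a, ha, hae⟩ := hx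
  refine ⟨x, m, a, ha, fun e => ?_, hae.symm⟩
  rw [e, map_one, eq_comm, conj_eq_one_iff] at hae
  rw [hae, orderOf_one] at hm
  exact hl.one_lt.ne hm

/-- The elements of odd order. -/
theorem odd_cases {g : G} (ho : Odd (orderOf g)) :
    IsW C g ∨ (∃ k, g ^ 3 ^ k = 1) ∨ IsTor C.D.z g ∨ IsTor C.D.y g := by
  classical
  by_cases hW : IsW C g
  · exact Or.inl hW
  by_cases hg1 : g = 1
  · exact Or.inr (Or.inl ⟨0, by simp [hg1]⟩)
  by_cases hz : ∃ l, l.Prime ∧ l ∣ C.D.z ∧ l ∣ orderOf g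
  · obtain ⟨l, hl, hlz, hld⟩ := hz
    obtain ⟨c, k, hk, hke⟩ := H.conj_z ho hl hlz hld
    refine Or.inr (Or.inr (Or.inl ⟨hg1, ?_⟩))
    have h : (c * g * c⁻¹) ^ C.D.z = 1 := by
      rw [hke, ← map_pow, ← map_one C.E]
      congr 1
      rw [← C.D.cardZ]
      exact congrArg Subtype.val (pow_card_eq_one' (G := C.D.Z) (x := ⟨k, hk⟩))
    rwa [conj_pow, conj_eq_one_iff] at h
  by_cases hy : ∃ l, l.Prime ∧ l ∣ C.D.y ∧ l ∣ orderOf g
  · obtain ⟨l, hl, hly, hld⟩ := hy
    exact Or.inr (Or.inr (Or.inr ⟨hg1, H.pow_y ho hl hly hld⟩))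
  refine Or.inr (Or.inl ⟨(orderOf g).primeFactorsList.length, ?_⟩)
  have : orderOf g = 3 ^ (orderOf g).primeFactorsList.length :=
    Nat.eq_prime_pow_of_unique_prime_dvd (orderOf_pos g).ne' fun {l} hl hd => by
      rcases H.R.prime_G hl (hd.trans (orderOf_dvd_natCard g)) with h | h | h | h | h
      · exact absurd ho (Nat.not_odd_iff_even.mpr (even_iff_two_dvd.mpr (h ▸ hd)))
      · exact h
      · exact absurd ⟨l, hl, h, hd⟩ hz
      · exact absurd ⟨l, hl, h, hd⟩ hy
      · exact absurd ⟨l, hl, h, hd⟩ hW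
  rw [← this]
  exact pow_orderOf_eq_one g

omit H in
theorem odd_of_isTor {n : ℕ} (hn : Odd n) {X : Type*} [Group X] {g : X} (hg : IsTor n g) : Odd (orderOf g) :=
  hn.of_dvd_nat (orderOf_dvd_of_pow_eq_one hg.2)

theorem tor_disjoint {X : Type*} [Group X] {g : X} (hz : IsTor C.D.z g) (hy : IsTor C.D.y g) : False :=
  hz.1 (eq_one_of_pow_coprime hz.2 hy.2 H.tori_coprime)

theorem tor_not_three {X : Type*} [Group X] {g : X} (h : IsTor C.D.z g ∨ IsTor C.D.y g) {k : ℕ}
    (hk : g ^ 3 ^ k = 1) : False := by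
  have h3 := H.R.three_not_torus
  rcases h with h | h <;> refine h.1 (eq_one_of_pow_coprime h.2 hk (Nat.Coprime.pow_right k ?_))
  · exact ((Nat.Prime.coprime_iff_not_dvd Nat.prime_three).mpr fun e => h3 (e.mul_left _)).symm
  · exact ((Nat.Prime.coprime_iff_not_dvd Nat.prime_three).mpr fun e =>
      h3 (dvd_mul_of_dvd_left (e.mul_left 2) _)).symm

theorem not_isW_of_tor {g : G} (h : IsTor C.D.z g ∨ IsTor C.D.y g) : ¬ IsW C g := by
  rintro ⟨l, hl, hlW, hld⟩
  obtain ⟨-, -, hz, hy⟩ := H.R.reeW_prime hl hlW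
  rcases h with h | h
  · exact hz (hld.trans (orderOf_dvd_of_pow_eq_one h.2))
  · exact hy (hld.trans (orderOf_dvd_of_pow_eq_one h.2))

/-- The elements of odd order of `L`. -/
theorem L_cases {x : L} (ho : Odd (orderOf x)) :
    (x ^ 3 = 1) ∨ IsTor C.D.z x ∨ IsTor C.D.y x := by
  have hE : ∀ n : ℕ, (C.E x) ^ n = 1 → x ^ n = 1 := fun n h => C.E_inj (by rw [map_pow, h, map_one])
  rcases H.odd_cases (g := C.E x) (by rw [orderOf_injective C.E C.E_inj]; exact ho) with h | ⟨k, hk⟩ | h | h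
  · exfalso
    obtain ⟨l, hl, hlW, hld⟩ := h
    obtain ⟨-, hl2, hz, hy⟩ := H.R.reeW_prime hl hlW
    rw [orderOf_injective C.E C.E_inj] at hld
    rcases H.R.prime_cases hl hl2 (hld.trans (orderOf_dvd_natCard x)) with e | ⟨e, -⟩ | ⟨e, -⟩
    · exact (not_dvd_of_dvd_reeW H.R hl hlW).1 e
    · exact hz e
    · exact hy e
  · exact Or.inl (H.hu.exp3 x k (hE _ hk))
  · exact Or.inr (Or.inl ⟨fun e => h.1 (by rw [e, map_one]), hE _ h.2⟩)
  · exact Or.inr (Or.inr ⟨fun e => h.1 (by rw [e, map_one]), hE _ h.2⟩)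

theorem card_three_L : Nat.card {x : L // x ^ 3 = 1} ≤ C.D.q ^ 2 := by
  classical
  haveI : Fact (Nat.Prime 3) := ⟨Nat.prime_three⟩
  obtain ⟨U, hUp, hUc, hUz⟩ := H.hw.borel
  obtain ⟨m, -, hm⟩ := H.R.pow
  obtain ⟨-, hL3⟩ := H.R.factorization_three hm
  have hmult : 3 ^ (Nat.card L).factorization 3 = C.D.q := by rw [hL3, hm]
  let P : Sylow 3 L := Sylow.ofCard U (by rw [hUc, hmult])
  set N := Subgroup.normalizer ((P : Subgroup L) : Set L)
  have hUN : U ≤ N := Subgroup.le_normalizer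
  have hZN : C.D.Z ≤ N := fun z hz => Subgroup.mem_normalizer_fintype fun u hu => hUz z hz u hu
  have h1 : C.D.q * C.D.z ∣ Nat.card N := by
    refine Nat.Coprime.mul_dvd_of_dvd_of_dvd ?_ (hUc ▸ Subgroup.card_dvd_of_le hUN)
      (C.D.cardZ ▸ Subgroup.card_dvd_of_le hZN)
    rw [hm]
    exact Nat.Coprime.pow_left _ ((Nat.Prime.coprime_iff_not_dvd Nat.prime_three).mpr fun e =>
      H.R.three_not_torus (e.mul_left _))
  have hidx : Nat.card (Sylow 3 L) ≤ C.D.q + 1 := by
    rw [Sylow.card_eq_index_normalizer P]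
    have h2 := N.index_mul_card
    rw [H.card_L] at h2
    have h3 := Nat.le_of_dvd Nat.card_pos h1
    have hpos : 0 < C.D.q * C.D.z := Nat.mul_pos (by have := H.R.seven_q; omega) H.R.z_odd.pos
    refine Nat.le_of_mul_le_mul_right ?_ hpos
    calc N.index * (C.D.q * C.D.z) ≤ N.index * Nat.card N := Nat.mul_le_mul_left _ h3
      _ = C.D.q * (4 * C.D.y * C.D.z) := h2
      _ = (C.D.q + 1) * (C.D.q * C.D.z) := by rw [H.R.q_y]; ring
  have hle : Nat.card {x : L // x ^ 3 = 1} ≤ Nat.card {g : L // ∃ k, g ^ 3 ^ k = 1} :=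
    Nat.card_le_card_of_injective (fun x => ⟨x.1, 1, by rw [pow_one]; exact x.2⟩)
      fun a b e => Subtype.ext (congrArg (fun y : {g : L // ∃ k, g ^ 3 ^ k = 1} => (y : L)) e)
  have h4 := (card_pElems (p := 3) (H := L)).1
  rw [hmult] at h4
  have hq : 1 ≤ C.D.q := by have := H.R.seven_q; omega
  nlinarith [Nat.mul_le_mul_right (C.D.q - 1) hidx, Nat.sub_add_cancel hq]

/-- The number of elements of `Z`-type of `L`. -/
theorem count_z : Nat.card L * (C.D.z - 1) ≤ 2 * C.D.z * Nat.card {x : L // IsTor C.D.z x} := by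
  classical
  refine card_conj_into C.D.Z C.D.cardZ fun h hh hh1 => ?_
  obtain ⟨w, -, hwi⟩ := H.R.zf.inv
  have hmem : ∀ n : L, n⁻¹ * h * n ∈ C.D.Z → n ∈ C.D.Z ∨ n * w ∈ C.D.Z := by
    intro n hn
    have e0 := H.hw.conjZ h hh hh1 n⁻¹ (by rw [inv_inv]; exact hn)
    rw [inv_inv] at e0
    rcases e0 with e | e
    · refine Or.inl (H.R.zf.cent h hh hh1 n ?_)
      show n * h = h * n
      calc n * h = n * (n⁻¹ * h * n) := by rw [e]
        _ = h * n := by group
    · refine Or.inr (H.R.zf.cent h hh hh1 (n * w) ?_)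
      show n * w * h = h * (n * w)
      calc n * w * h = n * (w * h * w⁻¹) * w := by group
        _ = n * (n⁻¹ * h * n) * w := by rw [hwi h hh, e]
        _ = h * (n * w) := by group
  refine (Nat.card_le_card_of_injective
    (fun n : {n : L // n⁻¹ * h * n ∈ C.D.Z} =>
      if hn : (n : L) ∈ C.D.Z then (Sum.inl ⟨(n : L), hn⟩ : C.D.Z ⊕ C.D.Z)
      else Sum.inr ⟨(n : L) * w, (hmem n n.2).resolve_left hn⟩) ?_).trans ?_
  · intro a b e
    simp only at e
    split_ifs at e with h1 h2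
    · simp only [Sum.inl.injEq, Subtype.mk.injEq] at e
      exact Subtype.ext e
    · simp only [Sum.inr.injEq, Subtype.mk.injEq] at e
      exact Subtype.ext (mul_right_cancel e)
  · rw [Nat.card_sum, C.D.cardZ]
    omega

/-- The number of elements of `Y`-type of `L`. -/
theorem count_y : Nat.card L * (C.D.y - 1) ≤ 4 * C.D.y * Nat.card {x : L // IsTor C.D.y x} := by
  classical
  refine card_conj_into C.D.Y C.D.cardY fun a ha ha1 => ?_
  have key : ∀ n : L, n⁻¹ * a * n ∈ C.D.Y → ∃ (e i j : Fin 2) (y₀ : C.D.Y),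
      C.E n⁻¹ = C.w ^ (e : ℕ) * aElt C.t C.E C.v i j (y₀ : L) := by
    intro n hn
    obtain ⟨k, e, i, j, y₀, hy₀, hg⟩ := C.transporter (C.E n⁻¹) 0 0 0 0 a ha _ hn ha1 (by
      simp only [aElt, Fin.val_zero, pow_zero, one_mul]
      rw [← map_inv, ← map_mul, ← map_mul, inv_inv])
    refine ⟨e, i, j, ⟨y₀, hy₀⟩, ?_⟩
    have hk : k = 0 := by
      have hc : Commute (C.w ^ (e : ℕ) * aElt C.t C.E C.v i j y₀) C.t := by
        refine (C.w_t.pow_left _).mul_left ?_
        exact ((Commute.refl C.t).pow_left _).mul_left (C.E_comm _).symm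
      have hc2 : Commute (C.σ ^ (k : ℕ)) C.t := by
        have h0 : Commute (C.E n⁻¹) C.t := (C.E_comm _).symm
        rw [hg, mul_assoc] at h0
        have := h0.mul_left hc.inv_left
        rwa [mul_inv_cancel_right] at this
      fin_cases k
      · rfl
      · exfalso
        have h1 : C.σ * C.t * C.σ⁻¹ = C.t := by
          rw [show C.σ * C.t = C.t * C.σ from by simpa using hc2.eq, mul_inv_cancel_right]
        rw [C.σ_t] at h1
        exact C.t_not _ h1
      · exfalso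
        have h1 : C.σ ^ 2 * C.t * (C.σ ^ 2)⁻¹ = C.t := by
          rw [show C.σ ^ 2 * C.t = C.t * C.σ ^ 2 from by simpa using hc2.eq, mul_inv_cancel_right]
        rw [pow_two, show C.σ * C.σ * C.t * (C.σ * C.σ)⁻¹ = C.σ * (C.σ * C.t * C.σ⁻¹) * C.σ⁻¹ by group, C.σ_t,
          C.σ_v] at h1
        have : C.E C.v = 1 := mul_left_cancel (a := C.t) (by rw [h1, mul_one])
        rw [← map_one C.E] at this
        have hv := C.v_ord
        rw [C.E_inj this, orderOf_one] at hv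
        exact absurd hv (by norm_num)
    subst hk
    simpa using hg
  choose e i j y₀ hg using key
  refine (Nat.card_le_card_of_injective
    (fun n : {n : L // n⁻¹ * a * n ∈ C.D.Y} => (e n n.2, j n n.2, y₀ n n.2)) ?_).trans ?_
  · intro p p' hpp
    simp only [Prod.mk.injEq] at hpp
    have h1 := hg p p.2
    have h2 := hg p' p'.2
    rw [hpp.1, hpp.2.1, hpp.2.2] at h1
    have h3 : C.E (((p : L)⁻¹)⁻¹ * ((p' : L)⁻¹)) =
        (aElt C.t C.E C.v (i p p.2) (j p' p'.2) (y₀ p' p'.2 : L))⁻¹ *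
          aElt C.t C.E C.v (i p' p'.2) (j p' p'.2) (y₀ p' p'.2 : L) := by
      rw [map_mul, map_inv, h1, h2]; group
    simp only [aElt] at h3
    apply Subtype.ext
    generalize i p p.2 = ia at h3 h1
    generalize i p' p'.2 = ib at h3 h2
    fin_cases ia <;> fin_cases ib <;> simp only [pow_zero, pow_one, one_mul, mul_inv_rev, inv_inv,
      inv_mul_cancel] at h3
    · exact inv_injective (C.E_inj (h1.trans h2.symm))
    · exfalso
      refine C.t_not ((p : L) * (p' : L)⁻¹) ?_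
      rw [h3, ← mul_assoc, ← (C.E_comm _).inv_right.eq, inv_mul_cancel_right]
    · exfalso
      refine C.t_not ((p : L) * (p' : L)⁻¹) ?_
      rw [h3, C.t_inv, mul_assoc, (C.E_comm _).eq, inv_mul_cancel_left]
    · exact inv_injective (C.E_inj (h1.trans h2.symm))
  · simp only [Nat.card_prod, Nat.card_fin, C.D.cardY]
    omega

end Hyp

end CfsgLib.WalterUse.Ward
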