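import Cfsg.Agent.Lib.WalterUse.Ward.Bound
import Cfsg.Agent.Lib.WalterUse.SimpleCases

/-!
The consequences of Ward's theory for the simple groups of the order of a small Ree group: they are doubly
transitive on their Sylow 3-subgroups, and some cyclic subgroup of order nine is not a TI set.
-/

set_option autoImplicit false
set_option linter.unusedSectionVars false
set_option linter.style.haveILetI false

namespace CfsgLib.WalterUse.Ward

open Cfsg CfsgLib CfsgLib.JankoThompson CfsgLib.WalterUse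
open scoped Classical

universe u v

variable {G : Type u} [Group G] [Fintype G] {L : Type v} [Group L] [Fintype L] {C : Cfg G L}

/-- All cyclic subgroups of prime power order are TI sets. -/
def CyclicTI (G : Type u) [Group G] : Prop :=
  ∀ H : Subgroup G, IsCyclic H → IsPrimePow (Nat.card H) →
    ∀ g : G, H.map (MulAut.conj g).toMonoidHom = H ∨ H.map (MulAut.conj g).toMonoidHom ⊓ H = ⊥

theorem CyclicTI.conj {G : Type u} [Group G] [Finite G] (h : CyclicTI G) {x : G} {l k : ℕ} (hl : l.Prime)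
    (hk : k ≠ 0) (hx : orderOf x = l ^ k) {g y : G} (hy : y ≠ 1) (hy1 : y ∈ Subgroup.zpowers x)
    (hy2 : g⁻¹ * y * g ∈ Subgroup.zpowers x) : g * x * g⁻¹ ∈ Subgroup.zpowers x := by
  rcases h (Subgroup.zpowers x) inferInstance
      ((isPrimePow_nat_iff _).mpr ⟨l, k, hl, Nat.pos_of_ne_zero hk, by rw [Nat.card_zpowers, hx]⟩) g with e | e
  · exact e.le ⟨x, Subgroup.mem_zpowers x, rfl⟩
  · exfalso
    refine hy ?_
    rw [← Subgroup.mem_bot, ← e]
    refine ⟨⟨_, hy2, ?_⟩, hy1⟩
    show g * (g⁻¹ * y * g) * g⁻¹ = y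
    group

/-- The hypotheses of Ward's theory for a simple group of Ree case. -/
theorem exists_sys {G : Type u} [Group G] [Fintype G] (h : ReeCase G) :
    ∃ (F : Type) (_ : Field F) (_ : Fintype F) (_ : Fintype (Matrix.ProjectiveSpecialLinearGroup (Fin 2) F))
      (C : Cfg G (Matrix.ProjectiveSpecialLinearGroup (Fin 2) F)), Nonempty (Sys C) := by
  obtain ⟨F, i1, i2, i3, C, hq, R⟩ := h
  obtain ⟨m, -, hm⟩ := R.pow
  refine ⟨F, i1, i2, i3, C, Hyp.nonempty_sys ⟨R, uFacts_psl ⟨m, rfl⟩ (hq.symm.trans hm), ?_⟩⟩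
  exact exists_wFacts (hq.symm.trans hm) C.D hq R.delta

namespace Sys

variable (S : Sys C)
include S

/-- `G` is doubly transitive on its Sylow 3-subgroups. -/
theorem two_transitive [IsSimpleGroup G] : ∃ (n : ℕ) (_ : MulAction G (Fin n)),
    FaithfulSMul G (Fin n) ∧ MulAction.IsMultiplyPretransitive G (Fin n) 2 := by
  haveI : Fact (Nat.Prime 3) := ⟨Nat.prime_three⟩
  obtain ⟨P, U₀, D⟩ := S.exists_pData
  obtain ⟨hn, hTI, -⟩ := S.sylow_facts D
  obtain ⟨Ps, hPs⟩ := S.exists_sylow_P D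
  have hPset : (Ps : Set G) = (P : Set G) := by rw [← hPs]; rfl
  set n := C.D.q ^ 3 + 1
  obtain ⟨e⟩ : Nonempty (Sylow 3 G ≃ Fin n) :=
    ⟨(Finite.equivFin (Sylow 3 G)).trans (finCongr hn)⟩
  let act : MulAction G (Fin n) :=
    { smul := fun g i => e (g • e.symm i)
      one_smul := fun i => by
        show e ((1 : G) • e.symm i) = i
        rw [one_smul, Equiv.apply_symm_apply]
      mul_smul := fun g h i => by
        show e ((g * h) • e.symm i) = e (g • e.symm (e (h • e.symm i)))
        rw [Equiv.symm_apply_apply, mul_smul] }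
  have hsmul : ∀ (g : G) (i : Fin n), e.symm (letI := act; g • i) = g • e.symm i := fun g i =>
    e.symm_apply_apply _
  have hfix : ∀ (Q : Sylow 3 G) (p : G), p ∈ P → p • Q = Q → p = 1 ∨ Q = Ps := by
    intro Q p hp hpQ
    by_cases hp1 : p = 1
    · exact Or.inl hp1
    obtain ⟨j, hj⟩ := pow_three D hp
    obtain ⟨i, -, hi⟩ := (Nat.dvd_prime_pow Nat.prime_three).mp (orderOf_dvd_of_pow_eq_one hj)
    have hg : IsPGroup 3 (Subgroup.zpowers p) := IsPGroup.of_card (n := i) (by rw [Nat.card_zpowers, hi])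
    have h := hg.inf_normalizer_sylow Q
    have hm : p ∈ Subgroup.zpowers p ⊓ (Q : Subgroup G) :=
      h.le ⟨Subgroup.mem_zpowers p, Sylow.smul_eq_iff_mem_normalizer.mp hpQ⟩
    exact Or.inr (hTI Q Ps p hm.2 (by rw [hPs]; exact hp) hp1)
  -- `P` is transitive on the other Sylow subgroups
  have hreg : ∀ Q Q' : Sylow 3 G, Q ≠ Ps → Q' ≠ Ps → ∃ p ∈ P, p • Q = Q' := by
    intro Q Q' hQ hQ'
    have hne : ∀ p : P, (p : G) • Q ≠ Ps := fun p h => hQ (by
      have hp : (p : G) • Ps = Ps := Sylow.smul_eq_iff_mem_normalizer.mpr (by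
        rw [hPset]; exact Subgroup.le_normalizer p.2)
      exact smul_left_cancel _ (h.trans hp.symm))
    have hinj : Function.Injective fun p : P => (⟨(p : G) • Q, hne p⟩ : {R : Sylow 3 G // R ≠ Ps}) := by
      intro a b hab
      have h : (a : G) • Q = (b : G) • Q := congrArg Subtype.val hab
      rcases hfix Q ((b : G)⁻¹ * a) (mul_mem (inv_mem b.2) a.2) (by rw [mul_smul, h, inv_smul_smul]) with h1 | h1
      · exact Subtype.ext (inv_mul_eq_one.mp h1).symm
      · exact absurd h1 hQ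
    have hcard : Nat.card {R : Sylow 3 G // R ≠ Ps} ≤ Nat.card P := by
      rw [D.card, Nat.card_eq_fintype_card, Fintype.card_subtype_compl, Fintype.card_subtype_eq,
        ← Nat.card_eq_fintype_card, hn, Nat.add_sub_cancel]
    obtain ⟨p, hp⟩ := (hinj.bijective_of_nat_card_le hcard).2 ⟨Q', hQ'⟩
    exact ⟨p, p.2, congrArg Subtype.val hp⟩
  have htwo : ∀ a b c d : Sylow 3 G, a ≠ b → c ≠ d → ∃ g : G, g • a = c ∧ g • b = d := by
    intro a b c d hab hcd
    obtain ⟨g, hg⟩ := MulAction.exists_smul_eq G a Ps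
    obtain ⟨h, hh⟩ := MulAction.exists_smul_eq G c Ps
    obtain ⟨p, hp, hpb⟩ := hreg (g • b) (h • d) (fun e => hab (smul_left_cancel g (hg.trans e.symm)))
      (fun e => hcd (smul_left_cancel h (hh.trans e.symm)))
    have hpP : p • Ps = Ps := Sylow.smul_eq_iff_mem_normalizer.mpr (by rw [hPset]; exact Subgroup.le_normalizer hp)
    refine ⟨h⁻¹ * p * g, ?_, ?_⟩
    · rw [mul_smul, mul_smul, hg, hpP, ← hh, inv_smul_smul]
    · rw [mul_smul, mul_smul, hpb, inv_smul_smul]
  refine ⟨n, act, ?_, ?_⟩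
  · letI := act
    set N := (MulAction.toPermHom G (Fin n)).ker with hN
    have hmem : ∀ x : G, x ∈ N → ∀ i : Fin n, x • i = i := fun x hx i => Equiv.ext_iff.mp (MonoidHom.mem_ker.mp hx) i
    rcases IsSimpleGroup.eq_bot_or_eq_top_of_normal N inferInstance with h | h
    · exact ⟨fun {a b} hab => (MonoidHom.ker_eq_bot_iff _).mp h (Equiv.ext hab)⟩
    · exfalso
      have h0 : ∀ Q : Sylow 3 G, Q = Ps := fun Q => by
        obtain ⟨g, hg⟩ := MulAction.exists_smul_eq G Ps Q
        have h1 := hsmul g (e Ps)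
        rw [hmem g (h ▸ Subgroup.mem_top g) (e Ps), Equiv.symm_apply_apply, hg] at h1
        exact h1.symm
      haveI : Subsingleton (Sylow 3 G) := ⟨fun a b => (h0 a).trans (h0 b).symm⟩
      have h1 := Nat.card_of_subsingleton Ps
      have h27 := S.H.R.seven_q
      have h2 : C.D.q ≤ C.D.q ^ 3 := Nat.le_self_pow (by norm_num) _
      omega
  · letI := act
    rw [MulAction.is_two_pretransitive_iff]
    intro a b c d hab hcd
    obtain ⟨g, hga, hgb⟩ := htwo (e.symm a) (e.symm b) (e.symm c) (e.symm d)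
      (fun h => hab (e.symm.injective h)) (fun h => hcd (e.symm.injective h))
    exact ⟨g, e.symm.injective (by rw [hsmul, hga]), e.symm.injective (by rw [hsmul, hgb])⟩

/-- A cyclic subgroup of order nine is not a TI set. -/
theorem not_cyclicTI : ¬ CyclicTI G := by
  intro h
  obtain ⟨P, U₀, D⟩ := S.exists_pData
  have CD := S.cData D
  have T := S.tData D CD
  obtain ⟨g, hg, hg3, hg9⟩ := S.exists_nine T
  haveI : Fact (Nat.Prime 3) := ⟨Nat.prime_three⟩
  have ho : orderOf g = 3 ^ (1 + 1) := orderOf_eq_prime_pow (by rwa [pow_one]) (by norm_num; exact hg9)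
  set Zc := P ⊓ Subgroup.centralizer (P : Set G) with hZc
  have hgn : g ∉ Zc := fun hc => hg3 (T.centre g hc)
  have hy := T.cube g hg
  have hmem : ∀ c : Zc, g * (c : G) ∈ Subgroup.zpowers g := fun c => by
    obtain ⟨p, hp, hpe⟩ := CD.shift g hg hgn c c.2
    rw [← hpe]
    have hcp : p⁻¹ * g ^ 3 * p = g ^ 3 := by
      rw [mul_assoc, ← Subgroup.mem_centralizer_iff.mp hy.2 p hp, inv_mul_cancel_left]
    refine h.conj Nat.prime_three two_ne_zero ho hg3 (Subgroup.pow_mem _ (Subgroup.mem_zpowers g) 3) ?_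
    rw [hcp]
    exact Subgroup.pow_mem _ (Subgroup.mem_zpowers g) 3
  have hle := Nat.card_le_card_of_injective (fun c : Zc => (⟨g * c, hmem c⟩ : Subgroup.zpowers g))
    fun a b hab => Subtype.ext (mul_left_cancel (congrArg Subtype.val hab))
  rw [Nat.card_zpowers, ho, CD.card] at hle
  have := S.H.R.seven_q
  norm_num at hle
  omega

end Sys

end CfsgLib.WalterUse.Ward
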