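import Cfsg.Agent.Lib.WalterUse.Ward.Center

/-!
Ward's theory for the groups of the order of a small Ree group: cubes of elements of a Sylow 3-subgroup are
central, and what follows from exponent three.
-/

set_option autoImplicit false
set_option linter.unusedSectionVars false
set_option linter.style.haveILetI false

namespace CfsgLib.WalterUse.Ward

open Cfsg CfsgLib CfsgLib.JankoThompson CfsgLib.WalterUse
open scoped Classical commutatorElement

universe u v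

section General

variable {G : Type u} [Group G]

/-- In exponent three conjugates commute. -/
theorem exp_three_conj_comm {x y : G} (h1 : y ^ 3 = 1) (h2 : (x * y) ^ 3 = 1) (h3 : (x * y⁻¹) ^ 3 = 1) :
    Commute (y * x * y⁻¹) x := by
  have e1 : x * y⁻¹ * x * y⁻¹ = (x * y⁻¹)⁻¹ :=
    eq_inv_of_mul_eq_one_left (by rw [← h3, pow_succ, pow_two]; group)
  have e2 : x * y * x * y = (x * y)⁻¹ := eq_inv_of_mul_eq_one_left (by rw [← h2, pow_succ, pow_two]; group)
  have e3 : y * y = y⁻¹ := eq_inv_of_mul_eq_one_left (by rw [← h1, pow_succ, pow_two])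
  show y * x * y⁻¹ * x = x * (y * x * y⁻¹)
  calc y * x * y⁻¹ * x = y * (x * y⁻¹ * x * y⁻¹) * y := by group
    _ = y * y * x⁻¹ * y := by rw [e1]; group
    _ = y⁻¹ * x⁻¹ * y := by rw [e3]
    _ = (x * y)⁻¹ * (y⁻¹)⁻¹ := by group
    _ = x * y * x * y * (y * y)⁻¹ := by rw [e2, e3]
    _ = x * (y * x * y⁻¹) := by group

/-- The commutator of two elements of a group of exponent three commutes with the first. -/
theorem exp_three_engel {x y : G} (h1 : y ^ 3 = 1) (h2 : (x * y) ^ 3 = 1) (h3 : (x * y⁻¹) ^ 3 = 1) :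
    Commute (x * y * x⁻¹ * y⁻¹) x := by
  rw [show x * y * x⁻¹ * y⁻¹ = x * (y * x * y⁻¹)⁻¹ by group]
  exact (Commute.refl x).mul_left (exp_three_conj_comm h1 h2 h3).inv_left

end General

variable {G : Type u} [Group G] [Fintype G] {L : Type v} [Group L] [Fintype L] {C : Cfg G L}

/-- The cubes in `P` are central, and exponent three gives a small centraliser with many inverting involutions. -/
structure TData (C : Cfg G L) (P : Subgroup G) : Prop where
  cube : ∀ g ∈ P, g ^ 3 ∈ P ⊓ Subgroup.centralizer (P : Set G)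
  nine : ∀ g ∈ P, g ^ 9 = 1
  centre : ∀ c ∈ P ⊓ Subgroup.centralizer (P : Set G), c ^ 3 = 1
  exp_three : (∀ g ∈ P, g ^ 3 = 1) → ∃ x : G, x ≠ 1 ∧ x ^ 3 = 1 ∧
    Nat.card (Subgroup.centralizer ({x} : Set G)) = C.D.q ^ 2 ∧
    C.D.q ^ 2 ≤ Nat.card {g : G // g ∈ Cfg.invs G ∧ g⁻¹ * x ∈ Cfg.invs G}

namespace Sys

variable (S : Sys C) {P : Subgroup G} {U₀ : Subgroup L} (D : PData C P U₀) (CD : CData C P)
include S D CD

set_option maxHeartbeats 3200000 in
theorem tData : TData C P := by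
  haveI : Fact (Nat.Prime 3) := ⟨Nat.prime_three⟩
  have hq27 : 27 ≤ C.D.q := S.H.R.seven_q
  set N := Subgroup.normalizer (P : Set G) with hN
  set Zc := P ⊓ Subgroup.centralizer (P : Set G) with hZc
  have hcomm : ∀ c ∈ Zc, ∀ g ∈ P, g * c = c * g := fun c hc g hg => Subgroup.mem_centralizer_iff.mp hc.2 g hg
  have hσ : ∀ a b : G, C.t * (a * b) * C.t⁻¹ = (C.t * a * C.t⁻¹) * (C.t * b * C.t⁻¹) := fun a b => by group
  have hEσ : ∀ u : L, C.t * C.E u * C.t⁻¹ = C.E u := fun u => by rw [(C.E_comm u).eq, mul_inv_cancel_right]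
  have hσσ : ∀ a : G, C.t * (C.t * a * C.t⁻¹) * C.t⁻¹ = a := fun a => by
    rw [show C.t * (C.t * a * C.t⁻¹) * C.t⁻¹ = C.t * C.t * a * (C.t * C.t)⁻¹ by group, C.t_sq]; group
  -- an element that is fixed and inverted is trivial
  have hfixinv : ∀ a ∈ P, C.t * a * C.t⁻¹ = a → C.t * a * C.t⁻¹ = a⁻¹ → a = 1 := fun a ha h1 h2 => by
    rw [h1] at h2
    exact eq_one_of_pow_coprime (m := 2) (by rw [pow_two]; exact mul_eq_one_iff_eq_inv.mpr h2)
      (pow_orderOf_eq_one a) (Nat.coprime_two_left.mpr (odd_mem D ha))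
  have hZcN : ∀ g ∈ N, ∀ c ∈ Zc, g * c * g⁻¹ ∈ Zc := by
    intro g hg c hc
    refine ⟨(Subgroup.mem_normalizer_iff.mp hg c).mp hc.1, Subgroup.mem_centralizer_iff.mpr fun p hp => ?_⟩
    have hp' : g⁻¹ * p * g ∈ P := (Subgroup.mem_normalizer_iff''.mp hg p).mp hp
    have h := hcomm c hc _ hp'
    calc p * (g * c * g⁻¹) = g * (g⁻¹ * p * g * c) * g⁻¹ := by group
      _ = g * (c * (g⁻¹ * p * g)) * g⁻¹ := by rw [h]
      _ = g * c * g⁻¹ * p := by group
  have hZN : ∀ k ∈ C.D.Z, C.E k ∈ N := fun k hk => Subgroup.mem_normalizer_fintype (D.ZP k hk)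
  have htN : C.t ∈ N := Subgroup.mem_normalizer_fintype D.tP
  -- the image of `U`
  set UE := U₀.map C.E with hUE
  have hUP : UE ≤ P := Subgroup.map_le_iff_le_comap.mpr fun u hu => D.UP u hu
  have hUcard : Nat.card UE = C.D.q := by rw [hUE, Subgroup.card_map_of_injective C.E_inj, D.cardU]
  have hUfix : ∀ u ∈ UE, C.t * u * C.t⁻¹ = u := by
    rintro _ ⟨u, -, rfl⟩
    exact hEσ u
  have hfixU : ∀ a ∈ P, C.t * a * C.t⁻¹ = a → a ∈ UE := fun a ha h => by
    obtain ⟨u, hu, rfl⟩ := D.P_t a ha (mul_inv_eq_iff_eq_mul.mp h).symm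
    exact Subgroup.mem_map_of_mem _ hu
  have hUZinv : ∀ k ∈ C.D.Z, ∀ x ∈ UE, C.E k * x * (C.E k)⁻¹ ∈ UE := by
    rintro k hk _ ⟨u, hu, rfl⟩
    rw [← map_inv, ← map_mul, ← map_mul]
    exact Subgroup.mem_map_of_mem _ (D.UZ k hk u hu)
  have hU3 : ∀ u ∈ UE, u ^ 3 = 1 := by
    rintro _ ⟨u, hu, rfl⟩
    obtain ⟨j, hj⟩ := pow_three D (D.UP u hu)
    rw [← map_pow, S.H.hu.exp3 u j (C.E_inj (by rw [map_pow, hj, map_one])), map_one]
  have hUZc : ∀ u ∈ UE, u ∈ Zc → u = 1 := fun u hu hc => hfixinv u (hUP hu) (hUfix u hu) (CD.inverted u hc)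
  -- `U` lies in the second centre
  let Z2 : Subgroup G :=
    { carrier := {x | x ∈ P ∧ ∀ g ∈ P, x * g * x⁻¹ * g⁻¹ ∈ Zc}
      one_mem' := ⟨one_mem _, fun g _ => by simp⟩
      mul_mem' := fun {a b} ha hb => ⟨mul_mem ha.1 hb.1, fun g hg => by
        have h := hcomm _ (hb.2 g hg) a ha.1
        rw [show a * b * g * (a * b)⁻¹ * g⁻¹ = a * (b * g * b⁻¹ * g⁻¹) * g * a⁻¹ * g⁻¹ by group, h,
          show b * g * b⁻¹ * g⁻¹ * a * g * a⁻¹ * g⁻¹ = b * g * b⁻¹ * g⁻¹ * (a * g * a⁻¹ * g⁻¹) by group]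
        exact mul_mem (hb.2 g hg) (ha.2 g hg)⟩
      inv_mem' := fun {a} ha => ⟨inv_mem ha.1, fun g hg => by
        have h := hcomm _ (inv_mem (ha.2 g hg)) a⁻¹ (inv_mem ha.1)
        rw [show a⁻¹ * g * a⁻¹⁻¹ * g⁻¹ = a⁻¹ * (a * g * a⁻¹ * g⁻¹)⁻¹ * a by group, h, inv_mul_cancel_right]
        exact inv_mem (ha.2 g hg)⟩ }
  have hZ2N : ∀ g ∈ N, ∀ x ∈ Z2, g * x * g⁻¹ ∈ Z2 := by
    intro g hg x hx
    refine ⟨(Subgroup.mem_normalizer_iff.mp hg x).mp hx.1, fun p hp => ?_⟩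
    have hp' : g⁻¹ * p * g ∈ P := (Subgroup.mem_normalizer_iff''.mp hg p).mp hp
    have h := hZcN g hg _ (hx.2 _ hp')
    rwa [show g * x * g⁻¹ * p * (g * x * g⁻¹)⁻¹ * p⁻¹ =
      g * (x * (g⁻¹ * p * g) * x⁻¹ * (g⁻¹ * p * g)⁻¹) * g⁻¹ by group]
  have hZcZ2 : Zc ≤ Z2 := fun c hc => ⟨hc.1, fun g hg => by
    rw [← hcomm c hc g hg, mul_inv_cancel_right, mul_inv_cancel]; exact one_mem _⟩
  have hZ2P : Z2 ≤ P := fun x hx => hx.1
  obtain ⟨b, hb⟩ : ∃ b, Nat.card Z2 = C.D.q ^ b := S.card_invariant D hZ2P fun k hk x hx => hZ2N _ (hZN k hk) x hx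
  have hZ2lt : ∃ x ∈ Z2, x ∉ Zc := by
    haveI : (Zc.subgroupOf P).Normal := ⟨fun n hn g => hZcN _ (Subgroup.le_normalizer g.2) _ hn⟩
    haveI : Nontrivial (P ⧸ Zc.subgroupOf P) := by
      rw [← Finite.one_lt_card_iff_nontrivial, ← Subgroup.index_eq_card]
      have h := (Zc.subgroupOf P).card_mul_index
      rw [Nat.card_congr (Subgroup.subgroupOfEquivOfLe inf_le_left).toEquiv, CD.card, D.card] at h
      by_contra hlt
      have h' := Nat.mul_le_mul_left C.D.q (not_lt.mp hlt)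
      rw [h, mul_one] at h'
      have := Nat.pow_lt_pow_right (show 1 < C.D.q by omega) (show 1 < 3 by norm_num)
      rw [pow_one] at this
      omega
    haveI := (D.pgroup.to_quotient (Zc.subgroupOf P)).center_nontrivial
    obtain ⟨⟨a, ha⟩, hne'⟩ := exists_ne (1 : Subgroup.center (P ⧸ Zc.subgroupOf P))
    have hne : a ≠ 1 := fun e => hne' (Subtype.ext e)
    obtain ⟨⟨x, hx⟩, rfl⟩ := QuotientGroup.mk_surjective a
    refine ⟨x, ⟨hx, fun g hg => ?_⟩, fun hc => hne ((QuotientGroup.eq_one_iff _).mpr hc)⟩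
    have h := Subgroup.mem_center_iff.mp ha (QuotientGroup.mk ⟨g, hg⟩)
    rw [← QuotientGroup.mk_mul, ← QuotientGroup.mk_mul, QuotientGroup.eq, Subgroup.mem_subgroupOf] at h
    have h' := hcomm _ h g⁻¹ (inv_mem hg)
    simp only [Subgroup.coe_mul, Subgroup.coe_inv, mul_inv_rev] at h h'
    have h2 := hZcN g (Subgroup.le_normalizer hg) _ (hZcN x (Subgroup.le_normalizer hx) _ h)
    rw [show g * (x * (x⁻¹ * g⁻¹ * (x * g)) * x⁻¹) * g⁻¹ = x * g * x⁻¹ * g⁻¹ by group] at h2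
    exact h2
  have hU2 : UE ≤ Z2 := by
    obtain ⟨a, ha⟩ := S.card_invariant D (K := UE ⊓ Z2) (inf_le_left.trans hUP)
      fun k hk x hx => ⟨hUZinv k hk x hx.1, hZ2N _ (hZN k hk) x hx.2⟩
    rcases Nat.eq_zero_or_pos a with rfl | ha0
    swap
    · refine inf_eq_left.mp (Subgroup.eq_of_le_of_card_ge inf_le_left ?_)
      rw [ha, hUcard]
      exact Nat.le_self_pow (by omega) _
    exfalso
    rw [pow_zero, Subgroup.card_eq_one] at ha
    have htZ2 : ∀ x ∈ Z2, C.t * x * C.t⁻¹ = x⁻¹ := inverts_of_fpf C.t_sq Z2 (fun x hx => hZ2N _ htN x hx)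
      fun x hx hxt => by
        have hxU := hfixU x hx.1 (mul_inv_eq_iff_eq_mul.mpr hxt.eq.symm)
        have hmem : x ∈ UE ⊓ Z2 := ⟨hxU, hx⟩
        rwa [ha, Subgroup.mem_bot] at hmem
    -- `U` is abelian
    have hUab : ∀ u ∈ UE, ∀ v ∈ UE, u * v = v * u := by
      obtain ⟨a', ha'⟩ := S.card_invariant D (K := UE ⊓ Subgroup.centralizer (UE : Set G)) (inf_le_left.trans hUP)
        fun k hk x hx => ⟨hUZinv k hk x hx.1, Subgroup.mem_centralizer_iff.mpr fun v hv => by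
          have hv' := hUZinv k⁻¹ (inv_mem hk) v hv
          rw [map_inv, inv_inv] at hv'
          have h := Subgroup.mem_centralizer_iff.mp hx.2 _ hv'
          calc v * (C.E k * x * (C.E k)⁻¹) = C.E k * ((C.E k)⁻¹ * v * C.E k * x) * (C.E k)⁻¹ := by group
            _ = C.E k * (x * ((C.E k)⁻¹ * v * C.E k)) * (C.E k)⁻¹ := by rw [h]
            _ = C.E k * x * (C.E k)⁻¹ * v := by group⟩
      have hne : UE ⊓ Subgroup.centralizer (UE : Set G) ≠ ⊥ := by
        haveI : Nontrivial UE := by rw [← Finite.one_lt_card_iff_nontrivial, hUcard]; omega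
        haveI := (D.pgroup.to_le hUP).center_nontrivial
        obtain ⟨⟨w, hw⟩, hw1'⟩ := exists_ne (1 : Subgroup.center UE)
        have hw1 : w ≠ 1 := fun e => hw1' (Subtype.ext e)
        intro e
        have hmem : (w : G) ∈ UE ⊓ Subgroup.centralizer (UE : Set G) := ⟨w.2, Subgroup.mem_centralizer_iff.mpr
          fun v hv => congrArg Subtype.val (Subgroup.mem_center_iff.mp hw ⟨v, hv⟩)⟩
        rw [e, Subgroup.mem_bot] at hmem
        exact hw1 (Subtype.ext hmem)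
      have hle : UE ≤ Subgroup.centralizer (UE : Set G) := by
        refine inf_eq_left.mp (Subgroup.eq_of_le_of_card_ge inf_le_left ?_)
        rw [hUcard, ha']
        refine Nat.le_self_pow (fun e => hne (Subgroup.card_eq_one.mp (by rw [ha', e, pow_zero]))) _
      exact fun u hu v hv => (Subgroup.mem_centralizer_iff.mp (hle hu) v hv).symm
    -- `P = Z2 U`
    have hprod : ∀ p ∈ P, ∃ a ∈ Z2, ∃ u ∈ UE, p = a * u := by
      have hinj : Function.Injective fun w : Z2 × UE => (⟨w.1 * w.2, mul_mem (hZ2P w.1.2) (hUP w.2.2)⟩ : P) := by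
        rintro ⟨a, u⟩ ⟨b, v⟩ e
        have e' : (a : G) * u = b * v := congrArg Subtype.val e
        have e2 : (b : G)⁻¹ * a = v * (u : G)⁻¹ := by
          rw [eq_mul_inv_iff_mul_eq, mul_assoc, e', inv_mul_cancel_left]
        have hmem : (b : G)⁻¹ * a ∈ UE ⊓ Z2 := Subgroup.mem_inf.mpr
          ⟨by rw [e2]; exact mul_mem v.2 (inv_mem u.2), mul_mem (inv_mem b.2) a.2⟩
        rw [ha, Subgroup.mem_bot] at hmem
        refine Prod.ext (Subtype.ext (inv_mul_eq_one.mp hmem).symm) (Subtype.ext ?_)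
        rw [hmem] at e2
        exact (mul_inv_eq_one.mp e2.symm).symm
      have hcard : Nat.card P ≤ Nat.card (Z2 × UE) := by
        rw [Nat.card_prod, D.card, hUcard, hb]
        have hb2 : 2 ≤ b := by
          by_contra hlt
          obtain ⟨x, hx, hxn⟩ := hZ2lt
          refine hxn ?_
          have heq : Zc = Z2 := Subgroup.eq_of_le_of_card_ge hZcZ2 (by
            rw [hb, CD.card]
            calc C.D.q ^ b ≤ C.D.q ^ 1 := Nat.pow_le_pow_right (by omega) (by omega)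
              _ = C.D.q := pow_one _)
          exact heq ▸ hx
        calc C.D.q ^ 3 = C.D.q ^ 2 * C.D.q := by ring
          _ ≤ C.D.q ^ b * C.D.q := Nat.mul_le_mul_right _ (Nat.pow_le_pow_right (by omega) hb2)
      intro p hp
      obtain ⟨⟨a, u⟩, e⟩ := (hinj.bijective_of_nat_card_le hcard).2 ⟨p, hp⟩
      exact ⟨a, a.2, u, u.2, (congrArg Subtype.val e).symm⟩
    obtain ⟨u, hu, hu1⟩ : ∃ u ∈ UE, u ≠ 1 := by
      by_contra h
      push Not at h
      rw [(Subgroup.eq_bot_iff_forall _).mpr h, Subgroup.card_bot] at hUcard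
      omega
    have hmem : u ∈ UE ⊓ Z2 := ⟨hu, hUP hu, fun p hp => by
      obtain ⟨a, ha, v, hv, rfl⟩ := hprod p hp
      rw [show u * (a * v) * u⁻¹ * (a * v)⁻¹ = u * a * (v * u⁻¹ * v⁻¹) * a⁻¹ by group,
        show v * u⁻¹ * v⁻¹ = u⁻¹ by rw [hUab v hv u⁻¹ (inv_mem hu), mul_inv_cancel_right],
        show u * a * u⁻¹ * a⁻¹ = (a * u * a⁻¹ * u⁻¹)⁻¹ by group]
      exact inv_mem (ha.2 u (hUP hu))⟩
    rw [ha, Subgroup.mem_bot] at hmem
    exact hu1 hmem
  -- `U Z(P)`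
  let UZ : Subgroup G :=
    { carrier := {x | ∃ u ∈ UE, ∃ c ∈ Zc, x = u * c}
      one_mem' := ⟨1, one_mem _, 1, one_mem _, (one_mul 1).symm⟩
      mul_mem' := by
        rintro _ _ ⟨u, hu, c, hc, rfl⟩ ⟨v, hv, d, hd, rfl⟩
        exact ⟨u * v, mul_mem hu hv, c * d, mul_mem hc hd, by
          rw [show u * c * (v * d) = u * (c * v) * d by group, ← hcomm c hc v (hUP hv)]; group⟩
      inv_mem' := by
        rintro _ ⟨u, hu, c, hc, rfl⟩
        exact ⟨u⁻¹, inv_mem hu, c⁻¹, inv_mem hc, by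
          rw [mul_inv_rev, hcomm _ (inv_mem hc) _ (inv_mem (hUP hu))]⟩ }
  have hUZP : UZ ≤ P := by
    rintro _ ⟨u, hu, c, hc, rfl⟩
    exact mul_mem (hUP hu) hc.1
  have hUUZ : UE ≤ UZ := fun u hu => ⟨u, hu, 1, one_mem _, (mul_one u).symm⟩
  have hZcUZ : Zc ≤ UZ := fun c hc => ⟨1, one_mem _, c, hc, (one_mul c).symm⟩
  have hUZn : ∀ g ∈ P, ∀ x ∈ UZ, g * x * g⁻¹ ∈ UZ := by
    rintro g hg _ ⟨u, hu, c, hc, rfl⟩
    rw [show g * (u * c) * g⁻¹ = u * (u⁻¹ * g * u⁻¹⁻¹ * g⁻¹) * (g * c * g⁻¹) by group, mul_assoc]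
    exact ⟨u, hu, _, mul_mem ((hU2 (inv_mem hu)).2 g hg) (hZcN g (Subgroup.le_normalizer hg) c hc), rfl⟩
  have hinvUZ : ∀ x ∈ UZ, C.t * x * C.t⁻¹ = x⁻¹ → x ∈ Zc := by
    rintro _ ⟨u, hu, c, hc, rfl⟩ hx
    rw [hσ, hUfix u hu, CD.inverted c hc, mul_inv_rev, hcomm _ (inv_mem hc) u (hUP hu)] at hx
    have h1 : u = u⁻¹ := mul_left_cancel hx
    have h2 : u = 1 := hfixinv u (hUP hu) (hUfix u hu) (by rw [hUfix u hu]; exact h1)
    rw [h2, one_mul]
    exact hc
  -- decomposition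
  have hdec : ∀ g ∈ P, ∃ u ∈ UE, ∃ i ∈ P, C.t * i * C.t⁻¹ = i⁻¹ ∧ g = u * i := by
    intro g hg
    set w := g⁻¹ * (C.t * g * C.t⁻¹) with hw
    have hwP : w ∈ P := mul_mem (inv_mem hg) (D.tP g hg)
    have htw : C.t * w * C.t⁻¹ = w⁻¹ := by
      rw [hw, hσ, hσσ, show C.t * g⁻¹ * C.t⁻¹ = (C.t * g * C.t⁻¹)⁻¹ by group]; group
    obtain ⟨i, hi⟩ := odd_mem D hwP
    set s := w ^ (i + 1) with hs
    have hsP : s ∈ P := pow_mem hwP _
    have hss : s * s = w := by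
      rw [hs, ← pow_add, show i + 1 + (i + 1) = orderOf w + 1 by omega, pow_succ, pow_orderOf_eq_one, one_mul]
    have hts : C.t * s * C.t⁻¹ = s⁻¹ := by rw [hs, ← conj_pow, htw, inv_pow]
    refine ⟨g * s, hfixU _ (mul_mem hg hsP) ?_, s⁻¹, inv_mem hsP, ?_, by group⟩
    · rw [hσ, hts, show C.t * g * C.t⁻¹ = g * w by rw [hw]; group, ← hss]
      group
    · rw [show C.t * s⁻¹ * C.t⁻¹ = (C.t * s * C.t⁻¹)⁻¹ by group, hts]
  have hmod : ∀ g ∈ P, (C.t * g * C.t⁻¹) * g ∈ UZ := by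
    intro g hg
    obtain ⟨u, hu, i, hi, hti, rfl⟩ := hdec g hg
    rw [hσ, hUfix u hu, hti, show u * i⁻¹ * (u * i) = u * (u * (u⁻¹ * i⁻¹ * u⁻¹⁻¹ * i⁻¹⁻¹)) by group]
    exact ⟨u * u, mul_mem hu hu, _, (hU2 (inv_mem hu)).2 i⁻¹ (inv_mem hi), by group⟩
  haveI hUZN : (UZ.subgroupOf P).Normal := ⟨fun n hn g => hUZn g g.2 _ hn⟩
  set π := QuotientGroup.mk' (UZ.subgroupOf P) with hπ
  have hker : ∀ x : P, π x = 1 ↔ (x : G) ∈ UZ := fun x => by
    rw [hπ, QuotientGroup.mk'_apply, QuotientGroup.eq_one_iff, Subgroup.mem_subgroupOf]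
  have hπt : ∀ g : P, π ⟨C.t * g * C.t⁻¹, D.tP g g.2⟩ = (π g)⁻¹ := fun g => by
    rw [← mul_eq_one_iff_eq_inv, ← map_mul, hker]
    exact hmod g g.2
  have hπc : ∀ g h : P, π g * π h = π h * π g := fun g h => by
    have e := hπt (g * h)
    rw [show (⟨C.t * (g * h : P) * C.t⁻¹, D.tP _ (g * h).2⟩ : P) =
      ⟨C.t * g * C.t⁻¹, D.tP g g.2⟩ * ⟨C.t * h * C.t⁻¹, D.tP h h.2⟩ from Subtype.ext (hσ _ _), map_mul, hπt, hπt,
      map_mul] at e
    rw [← inv_inj, mul_inv_rev, mul_inv_rev]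
    exact (e.trans (mul_inv_rev _ _)).symm
  -- the cubes
  let K : Subgroup G :=
    { carrier := {x | x ∈ P ∧ x ^ 3 ∈ UZ}
      one_mem' := ⟨one_mem _, by simp⟩
      mul_mem' := fun {a b} ha hb => ⟨mul_mem ha.1 hb.1, (hker (⟨a * b, mul_mem ha.1 hb.1⟩ ^ 3)).mp (by
        rw [map_pow, show (⟨a * b, mul_mem ha.1 hb.1⟩ : P) = ⟨a, ha.1⟩ * ⟨b, hb.1⟩ from rfl, map_mul,
          (show Commute (π ⟨a, ha.1⟩) (π ⟨b, hb.1⟩) from hπc _ _).mul_pow, ← map_pow, ← map_pow,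
          (hker _).mpr (show a ^ 3 ∈ UZ from ha.2), (hker _).mpr (show b ^ 3 ∈ UZ from hb.2), one_mul])⟩
      inv_mem' := fun {a} ha => ⟨inv_mem ha.1, by rw [inv_pow]; exact inv_mem ha.2⟩ }
  have hKP : K ≤ P := fun x hx => hx.1
  have hUZK : UZ ≤ K := fun x hx => ⟨hUZP hx, pow_mem hx 3⟩
  have hUZcard : C.D.q ^ 2 ≤ Nat.card UZ := by
    have hinj : Function.Injective fun w : UE × Zc => (⟨w.1 * w.2, w.1, w.1.2, w.2, w.2.2, rfl⟩ : UZ) := by
      rintro ⟨a, c⟩ ⟨b, d⟩ e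
      have e' : (a : G) * c = b * d := congrArg Subtype.val e
      have e2 : (b : G)⁻¹ * a = d * (c : G)⁻¹ := by
        rw [eq_mul_inv_iff_mul_eq, mul_assoc, e', inv_mul_cancel_left]
      have h1 := hUZc _ (mul_mem (inv_mem b.2) a.2) (e2 ▸ mul_mem d.2 (inv_mem c.2))
      refine Prod.ext (Subtype.ext (inv_mul_eq_one.mp h1).symm) (Subtype.ext ?_)
      rw [h1] at e2
      exact (mul_inv_eq_one.mp e2.symm).symm
    calc C.D.q ^ 2 = Nat.card (UE × Zc) := by rw [Nat.card_prod, hUcard, CD.card, sq]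
      _ ≤ _ := Nat.card_le_card_of_injective _ hinj
  have hUZlt : Nat.card UZ < Nat.card P := by
    refine lt_of_le_of_ne (Nat.le_of_dvd Nat.card_pos (Subgroup.card_dvd_of_le hUZP)) fun h => ?_
    have heq : UZ = P := Subgroup.eq_of_le_of_card_ge hUZP h.ge
    have hle : Nat.card P ≤ Nat.card (UE × Zc) := by
      refine Nat.card_le_card_of_surjective (fun w : UE × Zc => (⟨w.1 * w.2, mul_mem (hUP w.1.2) w.2.2.1⟩ : P)) ?_
      rintro ⟨p, hp⟩
      obtain ⟨u, hu, c, hc, rfl⟩ : p ∈ UZ := heq ▸ hp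
      exact ⟨(⟨u, hu⟩, ⟨c, hc⟩), rfl⟩
    rw [Nat.card_prod, hUcard, CD.card, D.card] at hle
    nlinarith
  have hK : K = P := by
    obtain ⟨y, hy, hyn⟩ : ∃ y ∈ P, y ∉ UZ := by
      by_contra h
      push Not at h
      exact hUZlt.not_ge (Nat.le_of_dvd Nat.card_pos (Subgroup.card_dvd_of_le h))
    obtain ⟨j, hj⟩ := pow_three D hy
    have hex : ∃ i, y ^ 3 ^ i ∈ UZ := ⟨j, by rw [hj]; exact one_mem _⟩
    obtain ⟨i, hi⟩ : ∃ i, Nat.find hex = i + 1 := ⟨Nat.find hex - 1, by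
      have : Nat.find hex ≠ 0 := fun e => hyn (by have := Nat.find_spec hex; rw [e] at this; simpa using this)
      omega⟩
    have hx : y ^ 3 ^ i ∈ K := ⟨pow_mem hy _, by
      rw [← pow_mul, ← pow_succ]; exact hi ▸ Nat.find_spec hex⟩
    have hxn : y ^ 3 ^ i ∉ UZ := Nat.find_min hex (by omega)
    obtain ⟨a, ha⟩ := S.card_invariant D hKP fun k hk x hx => ⟨D.ZP k hk x hx.1, by
      rw [conj_pow]
      obtain ⟨u, hu, c, hc, he⟩ := hx.2
      exact ⟨_, hUZinv k hk u hu, _, hZcN _ (hZN k hk) c hc, by rw [he]; group⟩⟩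
    refine Subgroup.eq_of_le_of_card_ge hKP ?_
    rw [ha, D.card]
    refine Nat.pow_le_pow_right (by omega) ((Nat.pow_lt_pow_iff_right (show 1 < C.D.q by omega)).mp ?_)
    rw [← ha]
    refine lt_of_le_of_lt hUZcard (lt_of_le_of_ne (Nat.le_of_dvd Nat.card_pos (Subgroup.card_dvd_of_le hUZK))
      fun h => hxn ?_)
    exact (Subgroup.eq_of_le_of_card_ge hUZK h.ge).symm ▸ hx
  have hcube : ∀ g ∈ P, g ^ 3 ∈ Zc := by
    intro g hg
    obtain ⟨u, hu, i, hi, hti, rfl⟩ := hdec g hg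
    have hi3 : i ^ 3 ∈ Zc := hinvUZ _ (hK.symm ▸ hi : i ∈ K).2 (by rw [← conj_pow, hti, inv_pow])
    set c := i * u * i⁻¹ * u⁻¹ with hc
    have hcZ : c ∈ Zc := by
      rw [hc, show i * u * i⁻¹ * u⁻¹ = (u * i * u⁻¹ * i⁻¹)⁻¹ by group]
      exact inv_mem ((hU2 hu).2 i hi)
    have e1 : i * u = c * u * i := by rw [hc]; group
    have hcu := hcomm c hcZ u (hUP hu)
    have hci := hcomm c hcZ i hi
    have h1 : (u * i) ^ 3 = c ^ 3 * i ^ 3 := by
      have hcu' : ∀ r, u * (c * r) = c * (u * r) := fun r => by rw [← mul_assoc, hcu, mul_assoc]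
      have hci' : ∀ r, i * (c * r) = c * (i * r) := fun r => by rw [← mul_assoc, hci, mul_assoc]
      have e1' : ∀ r, i * (u * r) = c * (u * (i * r)) := fun r => by rw [← mul_assoc, e1, mul_assoc, mul_assoc]
      have hu3 : ∀ r, u * (u * (u * r)) = r := fun r => by
        rw [← mul_assoc, ← mul_assoc, ← pow_two, ← pow_succ, hU3 u hu, one_mul]
      simp only [pow_succ, pow_zero, one_mul, mul_assoc, hcu', hci', e1', hu3]
    rw [h1]
    exact mul_mem (pow_mem hcZ 3) hi3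
  let K0 : Subgroup G :=
    { carrier := {c | c ∈ Zc ∧ c ^ 3 = 1}
      one_mem' := ⟨one_mem _, one_pow _⟩
      mul_mem' := fun {a b} ha hb => ⟨mul_mem ha.1 hb.1, by
        rw [(show Commute a b from hcomm b hb.1 a ha.1.1).mul_pow, ha.2, hb.2, one_mul]⟩
      inv_mem' := fun {a} ha => ⟨inv_mem ha.1, by rw [inv_pow, ha.2, inv_one]⟩ }
  have hK0 : Zc ≤ K0 := by
    obtain ⟨a, ha⟩ := S.card_invariant D (K := K0) (fun c hc => hc.1.1)
      fun k hk c hc => ⟨hZcN _ (hZN k hk) c hc.1, by rw [conj_pow, hc.2]; group⟩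
    have ha0 : a ≠ 0 := by
      intro e
      rw [e, pow_zero, Subgroup.card_eq_one] at ha
      obtain ⟨c, hc⟩ := exists_prime_orderOf_dvd_card' (G := Zc) 3 (by rw [CD.card]; exact S.H.R.three_dvd_q)
      have hm : (c : G) ∈ K0 := ⟨c.2, by
        rw [← hc, ← Subgroup.orderOf_coe]; exact pow_orderOf_eq_one _⟩
      rw [ha, Subgroup.mem_bot] at hm
      rw [show c = 1 from Subtype.ext hm, orderOf_one] at hc
      norm_num at hc
    refine (Subgroup.eq_of_le_of_card_ge (fun c hc => hc.1 : K0 ≤ Zc) ?_).ge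
    rw [CD.card, ha]
    exact Nat.le_self_pow ha0 _
  refine ⟨hcube, fun g hg => by rw [show 9 = 3 * 3 from rfl, pow_mul]; exact (hK0 (hcube g hg)).2,
    fun c hc => (hK0 hc).2, fun h3 => ?_⟩
  -- exponent three: the centraliser of `u`
  have hcu : ∀ u ∈ UE, u ≠ 1 → ∀ x ∈ P, C.t * x * C.t⁻¹ = x⁻¹ → Commute x u → x ∈ Zc := by
    intro u hu hu1 x hx htx hxu
    let φ : P →* Zc := MonoidHom.mk' (fun g => ⟨(g : G) * u * (g : G)⁻¹ * u⁻¹, by
        rw [show (g : G) * u * (g : G)⁻¹ * u⁻¹ = (u * g * u⁻¹ * (g : G)⁻¹)⁻¹ by group]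
        exact inv_mem ((hU2 hu).2 g g.2)⟩) fun g h => Subtype.ext (by
      show (g * h : P) * u * ((g * h : P) : G)⁻¹ * u⁻¹ =
        (g : G) * u * (g : G)⁻¹ * u⁻¹ * ((h : G) * u * (h : G)⁻¹ * u⁻¹)
      set c := (h : G) * u * (h : G)⁻¹ * u⁻¹ with hc
      have hcZ : c ∈ Zc := by
        rw [hc, show (h : G) * u * (h : G)⁻¹ * u⁻¹ = (u * h * u⁻¹ * (h : G)⁻¹)⁻¹ by group]
        exact inv_mem ((hU2 hu).2 h h.2)
      rw [Subgroup.coe_mul, show (g : G) * h * u * ((g : G) * h)⁻¹ * u⁻¹ = g * c * (u * (g : G)⁻¹ * u⁻¹) by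
        rw [hc]; group, hcomm c hcZ g g.2, hcomm c hcZ ((g : G) * u * (g : G)⁻¹ * u⁻¹)
        (mul_mem (mul_mem (mul_mem g.2 (hUP hu)) (inv_mem g.2)) (inv_mem (hUP hu)))]
      group)
    have hsurj : Function.Surjective φ := by
      rintro ⟨c, hc⟩
      obtain ⟨g, hg, hge⟩ := CD.shift u (hUP hu) (fun h => hu1 (hUZc u hu h)) c hc
      refine ⟨⟨g, hg⟩, Subtype.ext ?_⟩
      show g * u * g⁻¹ * u⁻¹ = c
      rw [hge, hcomm c hc u (hUP hu), mul_inv_cancel_right]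
    have hker : Nat.card φ.ker = C.D.q ^ 2 := by
      have h := φ.ker.card_mul_index
      rw [Subgroup.index_ker, MonoidHom.range_eq_top.mpr hsurj, Subgroup.card_top, CD.card, D.card] at h
      exact Nat.eq_of_mul_eq_mul_right (show 0 < C.D.q by omega) (h.trans (by ring))
    have hkc : ∀ y ∈ φ.ker, (y : G) * u = u * y := fun y hy => by
      have h := congrArg Subtype.val (MonoidHom.mem_ker.mp hy)
      exact mul_inv_eq_iff_eq_mul.mp (mul_inv_eq_one.mp h)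
    have hle : UZ.subgroupOf P ≤ φ.ker := by
      rintro ⟨_, hy⟩ ⟨v, hv, c, hc, rfl⟩
      refine MonoidHom.mem_ker.mpr (Subtype.ext ?_)
      show v * c * u * (v * c)⁻¹ * u⁻¹ = 1
      have hvu : v * u = u * v := by
        have h := hinvUZ _ (mul_mem (mul_mem (mul_mem (hUUZ hv) (hUUZ hu)) (inv_mem (hUUZ hv))) (inv_mem (hUUZ hu)))
        have hk : v * u * v⁻¹ * u⁻¹ ∈ Zc := by
          rw [show v * u * v⁻¹ * u⁻¹ = (u * v * u⁻¹ * v⁻¹)⁻¹ by group]
          exact inv_mem ((hU2 hu).2 v (hUP hv))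
        have h1 := hUZc _ (mul_mem (mul_mem (mul_mem hv hu) (inv_mem hv)) (inv_mem hu)) hk
        exact mul_inv_eq_iff_eq_mul.mp (mul_inv_eq_one.mp h1)
      rw [show v * c * u * (v * c)⁻¹ * u⁻¹ = v * (c * u) * c⁻¹ * v⁻¹ * u⁻¹ by group, ← hcomm c hc u (hUP hu),
        show v * (u * c) * c⁻¹ * v⁻¹ * u⁻¹ = v * u * v⁻¹ * u⁻¹ by group, hvu, mul_inv_cancel_right, mul_inv_cancel]
    have heq : UZ.subgroupOf P = φ.ker := Subgroup.eq_of_le_of_card_ge hle (by
      rw [hker, Nat.card_congr (Subgroup.subgroupOfEquivOfLe hUZP).toEquiv]; exact hUZcard)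
    have hxk : (⟨x, hx⟩ : P) ∈ φ.ker := MonoidHom.mem_ker.mpr (Subtype.ext (by
      show x * u * x⁻¹ * u⁻¹ = 1
      rw [hxu.eq, mul_inv_cancel_right, mul_inv_cancel]))
    rw [← heq] at hxk
    exact hinvUZ x hxk htx
  -- the inverted elements form an abelian subgroup
  have hQc : ∀ x ∈ P, C.t * x * C.t⁻¹ = x⁻¹ → ∀ y ∈ P, C.t * y * C.t⁻¹ = y⁻¹ → x * y = y * x := by
    intro x hx htx y hy hty
    set c := x * y * x⁻¹ * y⁻¹ with hc
    have hcP : c ∈ P := mul_mem (mul_mem (mul_mem hx hy) (inv_mem hx)) (inv_mem hy)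
    have hcx : Commute c x := exp_three_engel (h3 y hy) (h3 _ (mul_mem hx hy)) (h3 _ (mul_mem hx (inv_mem hy)))
    have hcy : Commute c y := by
      have h := exp_three_engel (h3 x hx) (h3 _ (mul_mem hy hx)) (h3 _ (mul_mem hy (inv_mem hx)))
      rw [show y * x * y⁻¹ * x⁻¹ = c⁻¹ by rw [hc]; group] at h
      exact Commute.inv_left_iff.mp h
    have hct : C.t * c * C.t⁻¹ = c := by
      calc C.t * c * C.t⁻¹ = (C.t * x * C.t⁻¹) * (C.t * y * C.t⁻¹) * (C.t * x * C.t⁻¹)⁻¹ * (C.t * y * C.t⁻¹)⁻¹ := by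
            rw [hc]; group
        _ = x⁻¹ * y⁻¹ * (c * (y * x)) := by rw [htx, hty, hc]; group
        _ = c * (x⁻¹ * y⁻¹ * (y * x)) := by
            rw [← mul_assoc, ← ((hcx.inv_right).mul_right hcy.inv_right).eq, mul_assoc]
        _ = c := by group
    by_cases hc1 : c = 1
    · rw [hc, mul_inv_eq_one, mul_inv_eq_iff_eq_mul] at hc1
      exact hc1
    · have hxZ := hcu c (hfixU c hcP hct) hc1 x hx htx hcx.symm
      exact (hcomm x hxZ y hy).symm
  let Q : Subgroup G :=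
    { carrier := {x | x ∈ P ∧ C.t * x * C.t⁻¹ = x⁻¹}
      one_mem' := ⟨one_mem _, by simp⟩
      mul_mem' := fun {a b} ha hb => ⟨mul_mem ha.1 hb.1, by
        rw [hσ, ha.2, hb.2, ← mul_inv_rev, hQc b hb.1 hb.2 a ha.1 ha.2]⟩
      inv_mem' := fun {a} ha => ⟨inv_mem ha.1, by
        rw [show C.t * a⁻¹ * C.t⁻¹ = (C.t * a * C.t⁻¹)⁻¹ by group, ha.2]⟩ }
  have hQcard : Nat.card Q = C.D.q ^ 2 := by
    have hinj : Function.Injective fun w : UE × Q => (⟨w.1 * w.2, mul_mem (hUP w.1.2) w.2.2.1⟩ : P) := by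
      rintro ⟨a, i⟩ ⟨b, k⟩ e
      have e' : (a : G) * i = b * k := congrArg Subtype.val e
      have e2 : (b : G)⁻¹ * a = k * (i : G)⁻¹ := by
        rw [eq_mul_inv_iff_mul_eq, mul_assoc, e', inv_mul_cancel_left]
      have hm : (b : G)⁻¹ * a ∈ UE := mul_mem (inv_mem b.2) a.2
      have h1 : (b : G)⁻¹ * a = 1 := hfixinv _ (hUP hm) (hUfix _ hm) (e2 ▸ (mul_mem k.2 (inv_mem i.2) : _ ∈ Q).2)
      refine Prod.ext (Subtype.ext (inv_mul_eq_one.mp h1).symm) (Subtype.ext ?_)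
      rw [h1] at e2
      exact (mul_inv_eq_one.mp e2.symm).symm
    have hsurj : Function.Surjective fun w : UE × Q => (⟨w.1 * w.2, mul_mem (hUP w.1.2) w.2.2.1⟩ : P) := by
      rintro ⟨g, hg⟩
      obtain ⟨u, hu, i, hi, hti, rfl⟩ := hdec g hg
      exact ⟨(⟨u, hu⟩, ⟨i, hi, hti⟩), rfl⟩
    have h := Nat.card_congr (Equiv.ofBijective _ ⟨hinj, hsurj⟩)
    rw [Nat.card_prod, hUcard, D.card] at h
    exact Nat.eq_of_mul_eq_mul_left (show 0 < C.D.q by omega) (h.trans (by ring))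
  obtain ⟨x, hxQ, hxn⟩ : ∃ x ∈ Q, x ∉ Zc := by
    by_contra h
    push Not at h
    have h' := Nat.le_of_dvd Nat.card_pos (Subgroup.card_dvd_of_le h)
    rw [hQcard, CD.card] at h'
    nlinarith
  have hx1 : x ≠ 1 := fun e => hxn (e ▸ one_mem _)
  -- its centraliser
  have hcentP : ∀ g ∈ P, Commute g x → g ∈ Q := by
    intro g hg hgx
    obtain ⟨u, hu, i, hi, hti, rfl⟩ := hdec g hg
    have hxu : Commute x u := by
      have h := hgx.mul_left (show Commute i x from hQc i hi hti x hxQ.1 hxQ.2).inv_left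
      rw [mul_inv_cancel_right] at h
      exact h.symm
    by_cases hu1 : u = 1
    · rw [hu1, one_mul]; exact ⟨hi, hti⟩
    · exact absurd (hcu u hu hu1 x hxQ.1 hxQ.2 hxu) hxn
  -- `N` normalises `U Z(P)`
  have hNUZ : N ≤ Subgroup.normalizer (UZ : Set G) := by
    set M := N ⊓ Subgroup.normalizer (UZ : Set G) with hM
    have htM : C.t ∈ M := ⟨htN, Subgroup.mem_normalizer_fintype (by
      rintro _ ⟨u, hu, c, hc, rfl⟩
      exact ⟨u, hu, _, hZcN _ htN c hc, by rw [hσ, hUfix u hu]⟩)⟩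
    have hZM : C.D.Z.map C.E ≤ M := by
      rintro _ ⟨k, hk, rfl⟩
      refine ⟨hZN k hk, Subgroup.mem_normalizer_fintype ?_⟩
      rintro _ ⟨u, hu, c, hc, rfl⟩
      exact ⟨_, hUZinv k hk u hu, _, hZcN _ (hZN k hk) c hc, by group⟩
    have hPM : P ≤ M := fun g hg =>
      ⟨Subgroup.le_normalizer hg, Subgroup.mem_normalizer_fintype fun w hw => hUZn g hg w hw⟩
    have h1 : C.D.q ^ 3 ∣ Nat.card M := D.card ▸ Subgroup.card_dvd_of_le hPM
    have h2 : 2 ∣ Nat.card M := C.t_ord ▸ Subgroup.orderOf_dvd_natCard M htM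
    have h3 : C.D.z ∣ Nat.card M := by
      have := Subgroup.card_dvd_of_le hZM
      rwa [Subgroup.card_map_of_injective C.E_inj, C.D.cardZ] at this
    obtain ⟨m, -, hm⟩ := S.H.R.pow
    have hd : C.D.q ^ 3 * (2 * C.D.z) ∣ Nat.card M := by
      refine Nat.Coprime.mul_dvd_of_dvd_of_dvd ?_ h1 (Nat.Coprime.mul_dvd_of_dvd_of_dvd
        (Nat.coprime_two_left.mpr S.H.R.z_odd) h2 h3)
      rw [hm, ← pow_mul]
      exact Nat.Coprime.pow_left _ (Nat.Coprime.mul_right (by norm_num) S.H.z_coprime_three.symm)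
    have heq : M = N := by
      refine Subgroup.eq_of_le_of_card_ge inf_le_left ?_
      rw [hN, (S.sylow_facts D).2.2]
      exact Nat.le_of_dvd Nat.card_pos hd
    exact heq.ge.trans inf_le_right
  have hcent : Nat.card (Subgroup.centralizer ({x} : Set G)) = C.D.q ^ 2 := by
    have hle : Q ≤ Subgroup.centralizer ({x} : Set G) := fun a ha =>
      Subgroup.mem_centralizer_singleton_iff.mpr (hQc a ha.1 ha.2 x hxQ.1 hxQ.2)
    rw [← hQcard]
    congr 1
    suffices h : Subgroup.centralizer ({x} : Set G) ≤ Q by rw [le_antisymm h hle]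
    intro g hg
    have hgx : Commute g x := Subgroup.mem_centralizer_singleton_iff.mp hg
    have hgN := S.cent_norm D hxQ.1 hx1 hgx
    refine hcentP g ?_ hgx
    -- the order of `g` is a power of three
    have hgP : ∀ l : ℕ, l.Prime → l ∣ orderOf g → l = 3 := by
      intro l hl hd
      by_contra hl3
      obtain ⟨n, hn⟩ := Hyp.exists_pow_prime hl hd
      have hdN : l ∣ C.D.q ^ 3 * (2 * C.D.z) := by
        rw [← (S.sylow_facts D).2.2]
        exact hd.trans (Subgroup.orderOf_dvd_natCard N hgN)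
      obtain ⟨m, -, hm⟩ := S.H.R.pow
      rcases hl.dvd_mul.mp hdN with h | h
      · rw [hm, ← pow_mul] at h
        exact hl3 ((Nat.prime_dvd_prime_iff_eq hl Nat.prime_three).mp (hl.dvd_of_dvd_pow h))
      rcases hl.dvd_mul.mp h with h | h
      · -- an involution
        obtain rfl : l = 2 := (Nat.prime_dvd_prime_iff_eq hl Nat.prime_two).mp h
        haveI : Fact (Nat.Prime 2) := ⟨Nat.prime_two⟩
        have hT : IsPGroup 2 (Subgroup.zpowers (⟨C.t, htN⟩ : N)) :=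
          IsPGroup.of_card (n := 1) (by rw [Nat.card_zpowers, Subgroup.orderOf_mk, C.t_ord, pow_one])
        have hfac : (Nat.card N).factorization 2 = 1 := by
          rw [(S.sylow_facts D).2.2, hm, ← pow_mul]
          rw [Nat.factorization_mul (by positivity) (Nat.mul_ne_zero two_ne_zero S.H.R.z_odd.pos.ne'),
            Nat.factorization_mul two_ne_zero S.H.R.z_odd.pos.ne', Finsupp.add_apply, Finsupp.add_apply,
            Nat.Prime.factorization_self Nat.prime_two,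
            Nat.factorization_eq_zero_of_not_dvd (fun hd => Nat.not_even_iff_odd.mpr S.H.R.z_odd (even_iff_two_dvd.mpr hd)),
            Nat.factorization_eq_zero_of_not_dvd (fun hd => by
              have := Nat.prime_two.dvd_of_dvd_pow hd; norm_num at this)]
          rfl
        let T : Sylow 2 N := Sylow.ofCard (Subgroup.zpowers (⟨C.t, htN⟩ : N)) (by
          rw [hfac, Nat.card_zpowers, Subgroup.orderOf_mk, C.t_ord, pow_one])
        obtain ⟨T', hT'⟩ := (IsPGroup.of_card (n := 1) (by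
          rw [Nat.card_zpowers, Subgroup.orderOf_mk, hn, pow_one]) :
          IsPGroup 2 (Subgroup.zpowers (⟨g ^ n, pow_mem hgN n⟩ : N))).exists_le_sylow
        obtain ⟨r, hr⟩ := MulAction.exists_smul_eq N T' T
        have he : (r : G) * g ^ n * (r : G)⁻¹ = C.t := by
          have hm' : r * ⟨g ^ n, pow_mem hgN n⟩ * r⁻¹ ∈ ((r • T' : Sylow 2 N) : Subgroup N) := by
            rw [Sylow.coe_subgroup_smul]
            exact ⟨_, hT' (Subgroup.mem_zpowers _), rfl⟩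
          rw [hr] at hm'
          obtain ⟨e, he⟩ := Subgroup.mem_zpowers_iff.mp hm'
          have he' : C.t ^ e = (r : G) * g ^ n * (r : G)⁻¹ := by
            have := congrArg Subtype.val he
            simpa using this
          rcases Int.even_or_odd e with ⟨f, rfl⟩ | ⟨f, rfl⟩
          · exfalso
            rw [← two_mul, zpow_mul, zpow_two, C.t_sq, one_zpow, eq_comm, conj_eq_one_iff] at he'
            rw [he', orderOf_one] at hn
            norm_num at hn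
          · rw [zpow_add_one, zpow_mul, zpow_two, C.t_sq, one_zpow, one_mul] at he'
            exact he'.symm
        have hxr : (r : G) * x * (r : G)⁻¹ ∈ UE := by
          refine hfixU _ ((Subgroup.mem_normalizer_iff.mp r.2 x).mp hxQ.1) ?_
          rw [← he]
          calc (r : G) * g ^ n * (r : G)⁻¹ * ((r : G) * x * (r : G)⁻¹) * ((r : G) * g ^ n * (r : G)⁻¹)⁻¹
              = (r : G) * (g ^ n * x) * (g ^ n)⁻¹ * (r : G)⁻¹ := by group
            _ = (r : G) * x * (r : G)⁻¹ := by rw [(hgx.pow_left n).eq]; group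
        have hxUZ : x ∈ UZ := (Subgroup.mem_normalizer_iff.mp (hNUZ r.2) x).mpr (hUUZ hxr)
        exact hxn (hinvUZ x hxUZ hxQ.2)
      · exact hx1 (S.H.three_fpf (x := g ^ n) (hn.symm ▸ hl) (Or.inl (hn.symm ▸ h)) S (k := 1)
          (by rw [pow_one]; exact h3 x hxQ.1) (hgx.symm.pow_right n))
    obtain ⟨a, n, hn, han⟩ := Nat.exists_eq_pow_mul_and_not_dvd (orderOf_pos g).ne' 3 (by norm_num)
    have hn1 : n = 1 := by
      by_contra hne
      obtain ⟨l, hl, hln⟩ := Nat.exists_prime_and_dvd hne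
      exact hn (hgP l hl (han ▸ dvd_mul_of_dvd_right hln _) ▸ hln)
    obtain ⟨Ps, hPs⟩ := S.exists_sylow_P D
    have hp : IsPGroup 3 (Subgroup.zpowers g) := IsPGroup.of_card (n := a) (by
      rw [Nat.card_zpowers, han, hn1, mul_one])
    have h := hp.inf_normalizer_sylow Ps
    have hmem : g ∈ Subgroup.zpowers g ⊓ Subgroup.normalizer ((Ps : Subgroup G) : Set G) :=
      ⟨Subgroup.mem_zpowers _, hPs.symm ▸ hgN⟩
    have hmem' : g ∈ Subgroup.zpowers g ⊓ (Ps : Subgroup G) := h.le hmem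
    exact hPs ▸ hmem'.2
  refine ⟨x, hx1, h3 x hxQ.1, hcent, ?_⟩
  rw [← hQcard]
  have hinvs : ∀ a ∈ Q, C.t * a ∈ Cfg.invs G := fun a ha => Cfg.mem_invs.mpr ⟨by
    rw [show C.t * a * (C.t * a) = (C.t * a * C.t⁻¹) * (C.t * C.t) * a by group, ha.2, C.t_sq]; group,
    fun e => C.t_ne (by
      have h1 : C.t = a⁻¹ := mul_eq_one_iff_eq_inv.mp e
      have ho := (odd_mem D (inv_mem ha.1))
      rw [← h1, C.t_ord] at ho
      exact absurd ho (by decide))⟩
  refine Nat.card_le_card_of_injective (fun a : Q => ⟨C.t * a, hinvs a a.2, ?_⟩) fun a b e => ?_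
  · have h2 := (Cfg.mem_invs.mp (hinvs a a.2)).1
    rw [inv_eq_of_mul_eq_one_right h2, mul_assoc]
    exact hinvs _ (mul_mem a.2 hxQ)
  · exact Subtype.ext (mul_left_cancel (congrArg Subtype.val e))

end Sys

end CfsgLib.WalterUse.Ward
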