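import Cfsg.Agent.Lib.WalterUse.Ward.Count
import Cfsg.Agent.Lib.WalterUse.ReeThree
import Cfsg.Agent.Lib.Coprime
import Cfsg.Agent.S0205

/-!
Ward's theory for the groups of the order of a small Ree group: a Sylow 3-subgroup normalised by `⟨t⟩ × Z`.
-/

set_option autoImplicit false
set_option linter.unusedSectionVars false
set_option linter.style.haveILetI false

namespace CfsgLib.WalterUse.Ward

open CfsgLib.JankoThompson CfsgLib.WalterUse

universe u v

section Frobenius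

variable {G : Type u} [Group G] [Finite G]

/-- A Frobenius group `K⟨a⟩` has no faithful fixed-point-free action on an abelian group of coprime order. -/
theorem frob_fpf (V K : Subgroup G) (a : G) {r : ℕ} (hr : r.Prime) (har : orderOf a = r)
    (hV : ∀ v ∈ V, ∀ w ∈ V, v * w = w * v)
    (hKV : ∀ k ∈ K, ∀ v ∈ V, k * v * k⁻¹ ∈ V) (haV : ∀ v ∈ V, a * v * a⁻¹ ∈ V)
    (haK : ∀ k ∈ K, a * k * a⁻¹ ∈ K)
    (hKfix : ∀ k ∈ K, k ≠ 1 → ∀ v ∈ V, Commute k v → v = 1)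
    (hafix : ∀ v ∈ V, Commute a v → v = 1) (haKfix : ∀ k ∈ K, Commute a k → k = 1)
    (hK1 : K ≠ ⊥) (hcop : ∀ v ∈ V, v ^ Nat.card K = 1 → v = 1) : V = ⊥ := by
  classical
  letI : CommGroup V := { (inferInstance : Group V) with mul_comm := fun x y => Subtype.ext (hV _ x.2 _ y.2) }
  letI : Fintype K := Fintype.ofFinite K
  -- conjugation
  let cj : G → V → V := fun g v => if h : g * (v : G) * g⁻¹ ∈ V then ⟨g * (v : G) * g⁻¹, h⟩ else 1
  have haiV : ∀ i : ℕ, ∀ v ∈ V, a ^ i * v * (a ^ i)⁻¹ ∈ V := by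
    intro i
    induction i with
    | zero => intro v hv; simpa using hv
    | succ i ih =>
      intro v hv
      rw [pow_succ', show a * a ^ i * v * (a * a ^ i)⁻¹ = a * (a ^ i * v * (a ^ i)⁻¹) * a⁻¹ by group]
      exact haV _ (ih v hv)
  have haiK : ∀ i : ℕ, ∀ k ∈ K, a ^ i * k * (a ^ i)⁻¹ ∈ K := by
    intro i
    induction i with
    | zero => intro v hv; simpa using hv
    | succ i ih =>
      intro v hv
      rw [pow_succ', show a * a ^ i * v * (a * a ^ i)⁻¹ = a * (a ^ i * v * (a ^ i)⁻¹) * a⁻¹ by group]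
      exact haK _ (ih v hv)
  have hcj : ∀ g : G, (∀ v ∈ V, g * v * g⁻¹ ∈ V) → ∀ v : V, (cj g v : G) = g * v * g⁻¹ := fun g hg v => by
    simp only [cj, dif_pos (hg v v.2)]
  have hnK : ∀ k : K, ∀ v ∈ V, (k : G) * v * (k : G)⁻¹ ∈ V := fun k => hKV k k.2
  -- the norm of `K` vanishes
  have hN : ∀ w : V, ∏ k : K, cj k w = 1 := by
    intro w
    obtain ⟨k₀, hk₀, hk₀1⟩ : ∃ k ∈ K, k ≠ 1 := by
      by_contra h
      push Not at h
      exact hK1 ((Subgroup.eq_bot_iff_forall _).mpr h)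
    have hhom : ∀ g : G, (∀ v ∈ V, g * v * g⁻¹ ∈ V) → ∀ x y : V, cj g (x * y) = cj g x * cj g y :=
      fun g hg x y => Subtype.ext (by
        rw [Subgroup.coe_mul, hcj g hg, hcj g hg, hcj g hg, Subgroup.coe_mul]; group)
    let f : V →* V :=
      { toFun := cj k₀
        map_one' := Subtype.ext (by rw [hcj _ (hKV k₀ hk₀)]; simp)
        map_mul' := hhom k₀ (hKV k₀ hk₀) }
    have hfx : f (∏ k : K, cj k w) = ∏ k : K, cj k w := by
      rw [map_prod]
      refine Fintype.prod_equiv (Equiv.mulLeft ⟨k₀, hk₀⟩) _ _ fun k => Subtype.ext ?_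
      show (cj k₀ (cj k w) : G) = (cj ((⟨k₀, hk₀⟩ * k : K) : G) w : G)
      rw [hcj _ (hKV k₀ hk₀), hcj _ (hnK k), hcj _ (hnK _), Subgroup.coe_mul]
      group
    refine Subtype.ext (hKfix k₀ hk₀ hk₀1 _ (∏ k : K, cj k w).2 ?_)
    have h := congrArg Subtype.val hfx
    change (cj k₀ (∏ k : K, cj k w) : G) = _ at h
    rw [hcj _ (hKV k₀ hk₀)] at h
    exact mul_inv_eq_iff_eq_mul.mp h
  -- the norm of `⟨a⟩` vanishes
  have hA : ∀ w : V, ∏ i ∈ Finset.range r, cj (a ^ i) w = 1 := by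
    intro w
    let f : V →* V :=
      { toFun := cj a
        map_one' := Subtype.ext (by rw [hcj _ haV]; simp)
        map_mul' := fun x y => Subtype.ext (by
          rw [Subgroup.coe_mul, hcj _ haV, hcj _ haV, hcj _ haV, Subgroup.coe_mul]; group) }
    have hfx : f (∏ i ∈ Finset.range r, cj (a ^ i) w) = ∏ i ∈ Finset.range r, cj (a ^ i) w := by
      rw [map_prod]
      have e : ∀ i, f (cj (a ^ i) w) = cj (a ^ (i + 1)) w := fun i => Subtype.ext (by
        show (cj a (cj (a ^ i) w) : G) = _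
        rw [hcj _ haV, hcj _ (haiV i), hcj _ (haiV (i + 1)), pow_succ']
        group)
      rw [Finset.prod_congr rfl fun i _ => e i]
      have h1 := Finset.prod_range_succ' (fun i => cj (a ^ i) w) r
      have h2 := Finset.prod_range_succ (fun i => cj (a ^ i) w) r
      rw [h1] at h2
      have h3 : cj (a ^ r) w = cj (a ^ 0) w := by rw [← har, pow_orderOf_eq_one, pow_zero]
      rw [h3] at h2
      exact mul_right_cancel h2
    refine Subtype.ext (hafix _ (∏ i ∈ Finset.range r, cj (a ^ i) w).2 ?_)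
    have h := congrArg Subtype.val hfx
    change (cj a (∏ i ∈ Finset.range r, cj (a ^ i) w) : G) = _ at h
    rw [hcj _ haV] at h
    exact mul_inv_eq_iff_eq_mul.mp h
  rw [Subgroup.eq_bot_iff_forall]
  intro v hv
  set vv : V := ⟨v, hv⟩
  have hnb : ∀ (k : K) (i : ℕ), ∀ w ∈ V, ((k : G) * a ^ i * (k : G)⁻¹) * w * ((k : G) * a ^ i * (k : G)⁻¹)⁻¹ ∈ V :=
    fun k i w hw => by
      have h1 : (k : G)⁻¹ * w * (k : G)⁻¹⁻¹ ∈ V := hKV _ (inv_mem k.2) w hw
      have h3 := hnK k _ (haiV i _ h1)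
      rwa [show (k : G) * a ^ i * (k : G)⁻¹ * w * ((k : G) * a ^ i * (k : G)⁻¹)⁻¹ =
        (k : G) * (a ^ i * ((k : G)⁻¹ * w * (k : G)⁻¹⁻¹) * (a ^ i)⁻¹) * (k : G)⁻¹ by group]
  -- the conjugates of `⟨a⟩`
  have hM : ∀ k : K, ∏ i ∈ Finset.range r, cj ((k : G) * a ^ i * (k : G)⁻¹) vv = 1 := by
    intro k
    have h1 : (k : G)⁻¹ * v * (k : G)⁻¹⁻¹ ∈ V := hKV _ (inv_mem k.2) v hv
    let f : V →* V :=
      { toFun := cj k
        map_one' := Subtype.ext (by rw [hcj _ (hnK k)]; simp)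
        map_mul' := fun x y => Subtype.ext (by
          rw [Subgroup.coe_mul, hcj _ (hnK k), hcj _ (hnK k), hcj _ (hnK k), Subgroup.coe_mul]; group) }
    have e := congrArg f (hA ⟨_, h1⟩)
    rw [map_prod, map_one] at e
    refine Eq.trans (Finset.prod_congr rfl fun i _ => Subtype.ext ?_) e
    show _ = (cj k (cj (a ^ i) ⟨_, h1⟩) : G)
    rw [hcj _ (hnb k i), hcj _ (hnK k), hcj _ (haiV i)]
    simp only [vv]
    group
  have hprod : ∏ i ∈ Finset.range r, ∏ k : K, cj ((k : G) * a ^ i * (k : G)⁻¹) vv = 1 := by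
    rw [Finset.prod_comm]
    exact Finset.prod_eq_one fun k _ => hM k
  have hi : ∀ i ∈ Finset.range r, i ≠ 0 → ∏ k : K, cj ((k : G) * a ^ i * (k : G)⁻¹) vv = 1 := by
    intro i hir hi0
    have hmem : ∀ k : K, (k : G) * (a ^ i * (k : G)⁻¹ * (a ^ i)⁻¹) ∈ K := fun k =>
      mul_mem k.2 (haiK i _ (inv_mem k.2))
    let σ : K → K := fun k => ⟨_, hmem k⟩
    have hσ : Function.Injective σ := by
      intro k k' e
      have e' := congrArg Subtype.val e
      simp only [σ] at e'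
      have hc : Commute (a ^ i) ((k' : G)⁻¹ * k) := by
        show a ^ i * ((k' : G)⁻¹ * k) = (k' : G)⁻¹ * k * a ^ i
        calc a ^ i * ((k' : G)⁻¹ * k) = (k' : G)⁻¹ * ((k' : G) * (a ^ i * (k' : G)⁻¹ * (a ^ i)⁻¹)) * (a ^ i) * k := by
              group
          _ = (k' : G)⁻¹ * ((k : G) * (a ^ i * (k : G)⁻¹ * (a ^ i)⁻¹)) * (a ^ i) * k := by rw [e']
          _ = (k' : G)⁻¹ * k * a ^ i := by group
      have hgen : Commute a ((k' : G)⁻¹ * k) := by
        have hcp : Nat.Coprime i (orderOf a) := by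
          rw [har]
          exact (Nat.Coprime.symm ((Nat.Prime.coprime_iff_not_dvd hr).mpr fun hd =>
            absurd (Nat.le_of_dvd (Nat.pos_of_ne_zero hi0) hd) (not_le.mpr (Finset.mem_range.mp hir))))
        obtain ⟨j, hj⟩ := exists_pow_eq_self_of_coprime hcp
        rw [← hj]
        exact hc.pow_left j
      have := haKfix _ (mul_mem (inv_mem k'.2) k.2) hgen
      exact (Subtype.ext (inv_mul_eq_one.mp this)).symm
    rw [← hN ⟨a ^ i * v * (a ^ i)⁻¹, haiV i v hv⟩]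
    refine Fintype.prod_equiv (Equiv.ofBijective σ (Finite.injective_iff_bijective.mp hσ)) _ _ fun k => Subtype.ext ?_
    show _ = (cj ((σ k : K) : G) _ : G)
    rw [hcj _ (hnb k i), hcj _ (hnK _)]
    simp only [σ, vv]
    group
  rw [Finset.prod_eq_single 0 hi (fun h => absurd (Finset.mem_range.mpr hr.pos) h)] at hprod
  have e : ∀ k : K, cj ((k : G) * a ^ 0 * (k : G)⁻¹) vv = vv := fun k => Subtype.ext (by
    rw [hcj _ (hnb k 0)]
    simp)
  rw [Finset.prod_congr rfl fun k _ => e k, Finset.prod_const, Finset.card_univ, ← Nat.card_eq_fintype_card] at hprod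
  exact hcop v hv (by simpa using congrArg Subtype.val hprod)

end Frobenius

variable {G : Type u} [Group G] [Fintype G] {L : Type v} [Group L] [Fintype L] {C : Cfg G L}

namespace Hyp

variable (H : Hyp C)
include H

omit H in
theorem comm_Z {a b : L} (ha : a ∈ C.D.Z) (hb : b ∈ C.D.Z) : Commute a b := by
  haveI := C.D.cycZ
  letI := IsCyclic.commGroup (α := C.D.Z)
  exact congrArg Subtype.val (mul_comm (⟨a, ha⟩ : C.D.Z) ⟨b, hb⟩)

omit H in
theorem pow_z {k : L} (hk : k ∈ C.D.Z) : k ^ C.D.z = 1 := by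
  rw [← C.D.cardZ]
  exact congrArg Subtype.val (pow_card_eq_one' (G := C.D.Z) (x := ⟨k, hk⟩))

theorem z_coprime_three : Nat.Coprime C.D.z 3 :=
  ((Nat.Prime.coprime_iff_not_dvd Nat.prime_three).mpr fun e => H.R.three_not_torus (e.mul_left _)).symm

/-- An element of prime order of the tori or of `q² - q + 1` commutes with no element of order three. -/
theorem three_fpf {x g : G} (hl : (orderOf x).Prime) (h : orderOf x ∣ C.D.z ∨ orderOf x ∣ C.D.y ∨ orderOf x ∣ reeW C)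
    (S : Sys C) {k : ℕ} (hg : g ^ 3 ^ k = 1) (hc : Commute g x) : g = 1 := by
  by_contra hg1
  obtain ⟨i, -, hi⟩ := (Nat.dvd_prime_pow Nat.prime_three).mp (orderOf_dvd_of_pow_eq_one hg)
  have hd : 3 ∣ orderOf g := by
    rcases i with _ | i
    · exact absurd (orderOf_eq_one_iff.mp (by rw [hi, pow_zero])) hg1
    · exact hi ▸ dvd_pow_self 3 (by omega)
  obtain ⟨m, hm⟩ := Hyp.exists_pow_prime Nat.prime_three hd
  rcases h with h | h | h
  · exact H.R.no_three_torus hl (Or.inl h) hm (hc.pow_left m)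
  · exact H.R.no_three_torus hl (Or.inr h) hm (hc.pow_left m)
  · obtain ⟨h7, -, -, -⟩ := H.R.reeW_prime hl h
    have hco : (orderOf (g ^ m)).Coprime (orderOf x) := by
      rw [hm]; exact (Nat.coprime_primes Nat.prime_three hl).mpr (by omega)
    have ho := (hc.pow_left m).orderOf_mul_eq_mul_orderOf_of_coprime hco
    rw [hm] at ho
    refine S.no_mixed (g := g ^ m * x) (ho ▸ dvd_mul_right _ _) ⟨_, hl, h, ho ▸ dvd_mul_left _ _⟩ ?_
    rw [ho]
    exact (by decide : Odd 3).mul (hl.odd_of_ne_two (by omega))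

/-- A non-trivial 2-element of `L` normalises no Sylow 3-subgroup. -/
theorem two_borel {U₀ : Subgroup L} (hp : IsPGroup 3 U₀) (hc : Nat.card U₀ = C.D.q)
    {c : L} (hn : ∀ u ∈ U₀, c * u * c⁻¹ ∈ U₀) {k : ℕ} (hk : c ^ 2 ^ k = 1) : c = 1 := by
  classical
  haveI : Fact (Nat.Prime 2) := ⟨Nat.prime_two⟩
  by_contra hc1
  obtain ⟨i, -, hi⟩ := (Nat.dvd_prime_pow Nat.prime_two).mp (orderOf_dvd_of_pow_eq_one hk)
  have hd : 2 ∣ orderOf c := by
    rcases i with _ | i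
    · exact absurd (orderOf_eq_one_iff.mp (by rw [hi, pow_zero])) hc1
    · exact hi ▸ dvd_pow_self 2 (by omega)
  obtain ⟨m, hm⟩ := Hyp.exists_pow_prime Nat.prime_two hd
  have hnm : ∀ n : ℕ, ∀ u ∈ U₀, c ^ n * u * (c ^ n)⁻¹ ∈ U₀ := by
    intro n
    induction n with
    | zero => intro u hu; simpa using hu
    | succ n ih =>
      intro u hu
      rw [show c ^ (n + 1) * u * (c ^ (n + 1))⁻¹ = c ^ n * (c * u * c⁻¹) * (c ^ n)⁻¹ by rw [pow_succ]; group]
      exact ih _ (hn u hu)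
  have h3 : ∀ u ∈ U₀, u ≠ 1 → orderOf u = 3 := fun u hu hu1 => by
    obtain ⟨j, hj⟩ := hp ⟨u, hu⟩
    exact orderOf_eq_prime (H.hu.exp3 u j (congrArg Subtype.val hj)) hu1
  have hinv := inverts_of_fpf (τ := c ^ m) (by rw [← pow_two, ← hm]; exact pow_orderOf_eq_one _) U₀ (hnm m)
    fun u hu hcu => by_contra fun hu1 => H.hu.odd3 (c ^ m) u hm (h3 u hu hu1) hcu.symm
  obtain ⟨u, hu, hu1⟩ : ∃ u ∈ U₀, u ≠ 1 := by
    by_contra h
    push Not at h
    rw [(Subgroup.eq_bot_iff_forall _).mpr h, Subgroup.card_bot] at hc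
    have := H.R.seven_q
    omega
  exact H.R.zf.three u (c ^ m) (h3 u hu hu1) (hinv u hu)

end Hyp

/-- A Sylow 3-subgroup normalised by `⟨t⟩ × Z` with fixed group `U` under `t`. -/
structure PData (C : Cfg G L) (P : Subgroup G) (U₀ : Subgroup L) : Prop where
  card : Nat.card P = C.D.q ^ 3
  pgroup : IsPGroup 3 P
  cardU : Nat.card U₀ = C.D.q
  UZ : ∀ z ∈ C.D.Z, ∀ u ∈ U₀, z * u * z⁻¹ ∈ U₀
  UP : ∀ u ∈ U₀, C.E u ∈ P
  P_t : ∀ x ∈ P, Commute x C.t → ∃ u ∈ U₀, x = C.E u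
  tP : ∀ x ∈ P, C.t * x * C.t⁻¹ ∈ P
  ZP : ∀ z ∈ C.D.Z, ∀ x ∈ P, C.E z * x * (C.E z)⁻¹ ∈ P

namespace Sys

variable (S : Sys C)
include S

set_option maxHeartbeats 3200000 in
theorem exists_pData : ∃ P U₀, PData C P U₀ := by
  classical
  have H := S.H
  haveI : Fact (Nat.Prime 3) := ⟨Nat.prime_three⟩
  obtain ⟨U₀, hUp, hUc, hUz⟩ := H.hw.borel
  obtain ⟨m, -, hm⟩ := H.R.pow
  obtain ⟨hG3, hL3⟩ := H.R.factorization_three hm
  let UL : Sylow 3 L := Sylow.ofCard U₀ (by rw [hUc, hL3, hm])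
  have hU3 : ∀ u ∈ U₀, u ^ 3 = 1 := fun u hu => by
    obtain ⟨j, hj⟩ := hUp ⟨u, hu⟩
    exact H.hu.exp3 u j (congrArg Subtype.val hj)
  -- a maximal invariant 3-subgroup
  obtain ⟨R, ⟨hRp, hUR, htR, hZR⟩, hmax⟩ := (Set.toFinite {R : Subgroup G |
    IsPGroup 3 R ∧ U₀.map C.E ≤ R ∧ (∀ x ∈ R, C.t * x * C.t⁻¹ ∈ R) ∧
      ∀ z ∈ C.D.Z, ∀ x ∈ R, C.E z * x * (C.E z)⁻¹ ∈ R}).exists_maximal ⟨U₀.map C.E, hUp.map _, le_rfl, (by
        rintro _ ⟨u, hu, rfl⟩
        rw [(C.E_comm u).eq, mul_inv_cancel_right]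
        exact Subgroup.mem_map_of_mem _ hu), (by
        rintro z hz _ ⟨u, hu, rfl⟩
        rw [← map_inv, ← map_mul, ← map_mul]
        exact Subgroup.mem_map_of_mem _ (hUz z hz u hu))⟩
  -- the fixed group
  have hRt : ∀ x ∈ R, Commute x C.t → ∃ u ∈ U₀, x = C.E u := by
    intro x hx hxt
    obtain ⟨j, hj⟩ := hRp ⟨x, hx⟩
    obtain ⟨c, rfl⟩ := odd_mem_E hxt ((show Odd (3 ^ j) from Odd.pow (by decide)).of_dvd_nat
      (orderOf_dvd_of_pow_eq_one (congrArg Subtype.val hj)))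
    refine ⟨c, ?_, rfl⟩
    have hK : IsPGroup 3 (R.comap C.E) := hRp.comap_of_injective _ C.E_inj
    have e := UL.is_maximal' hK fun u hu => hUR (Subgroup.mem_map_of_mem _ hu)
    have hc : c ∈ R.comap C.E := hx
    rw [e] at hc
    exact hc
  set M := Subgroup.normalizer (R : Set G) with hM
  have htM : C.t ∈ M := Subgroup.mem_normalizer_fintype htR
  have hZM : ∀ z ∈ C.D.Z, C.E z ∈ M := fun z hz => Subgroup.mem_normalizer_fintype (hZR z hz)
  have hMR : ∀ g ∈ M, ∀ x ∈ R, g * x * g⁻¹ ∈ R := fun g hg x hx => (Subgroup.mem_normalizer_iff.mp hg x).mp hx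
  -- an element of `M` commuting with `t` normalises `U`
  have hnU : ∀ c : L, (C.E c ∈ M ∨ C.t * C.E c ∈ M) → ∀ u ∈ U₀, c * u * c⁻¹ ∈ U₀ := by
    intro c hc u hu
    have hcM : C.E c ∈ M := by
      rcases hc with h | h
      · exact h
      · have h' := mul_mem htM h
        rwa [← mul_assoc, C.t_sq, one_mul] at h'
    obtain ⟨u', hu', he⟩ := hRt _ (hMR _ hcM _ (hUR (Subgroup.mem_map_of_mem _ hu))) (by
      rw [← map_inv, ← map_mul, ← map_mul]; exact (C.E_comm _).symm)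
    rw [← map_inv, ← map_mul, ← map_mul] at he
    exact C.E_inj he ▸ hu'
  obtain ⟨X, SX⟩ := exists_tSplit C M htM fun g hg hgt k hk => by
    obtain ⟨c, hc⟩ := C.cent g hgt
    have hc1 : c = 1 := by
      refine H.two_borel hUp hUc (hnU c (by rcases hc with e | e <;> rw [← e] <;> simp [hg])) (k := k + 1) ?_
      refine C.E_inj ?_
      rw [map_pow, map_one]
      have h : g ^ 2 ^ (k + 1) = 1 := by rw [pow_succ, pow_mul, hk, one_pow]
      rcases hc with e | e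
      · rwa [← e]
      · rw [e, (C.E_comm c).mul_pow, pow_succ', pow_mul C.t, pow_two, C.t_sq, one_pow, one_mul, ← pow_succ'] at h
        exact h
    rcases hc with e | e <;> simp [e, hc1]
  have hRM : R ≤ M := Subgroup.le_normalizer
  have hodd : ∀ {x : G}, x ∈ X → Odd (orderOf x) := fun hx => SX.odd.of_dvd_nat (Subgroup.orderOf_dvd_natCard X hx)
  have hR3 : ∀ {x : G}, x ∈ R → ∃ j, x ^ 3 ^ j = 1 := fun {x} hx => by
    obtain ⟨j, hj⟩ := hRp ⟨x, hx⟩; exact ⟨j, congrArg Subtype.val hj⟩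
  have hoddR : ∀ {x : G}, x ∈ R → Odd (orderOf x) := fun {x} hx => by
    obtain ⟨j, hj⟩ := hR3 hx
    exact (show Odd (3 ^ j) from Odd.pow (by decide)).of_dvd_nat (orderOf_dvd_of_pow_eq_one hj)
  have hRX : R ≤ X := fun x hx => SX.odd_mem x (hRM hx) (hoddR hx)
  have hZX : ∀ z ∈ C.D.Z, C.E z ∈ X := fun z hz => SX.odd_mem _ (hZM z hz) (by
    rw [orderOf_injective C.E C.E_inj]
    exact H.R.z_odd.of_dvd_nat (orderOf_dvd_of_pow_eq_one (Hyp.pow_z hz)))
  -- the quotient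
  set R' := R.subgroupOf M with hR'
  haveI : R'.Normal := Subgroup.normal_in_normalizer
  set π := QuotientGroup.mk' R' with hπ
  have hker : ∀ x : M, π x = 1 ↔ (x : G) ∈ R := fun x => by
    rw [hπ, QuotientGroup.mk'_apply, QuotientGroup.eq_one_iff]; rfl
  set X' := (X.subgroupOf M).map π with hX'
  haveI hXn : (X.subgroupOf M).Normal := ⟨fun x hx g => SX.norm g g.2 x hx⟩
  haveI : X'.Normal := hXn.map π (QuotientGroup.mk'_surjective R')
  have hX'odd : Odd (Nat.card X') := by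
    refine SX.odd.of_dvd_nat ((Subgroup.card_map_dvd _ _).trans (dvd_of_eq ?_))
    exact Nat.card_congr (Subgroup.subgroupOfEquivOfLe SX.le).toEquiv
  have hsolv : Group.IsSolvable X' := Cfsg.Agent.S0205.result hX'odd
  obtain ⟨k₀, hk₀, hk₀r⟩ : ∃ k ∈ C.D.Z, orderOf k = C.D.z.minFac := by
    haveI := Fact.mk (Nat.minFac_prime (show C.D.z ≠ 1 by have := H.R.q_z; have := H.R.seven_q; omega))
    obtain ⟨k, hk⟩ := exists_prime_orderOf_dvd_card' (G := C.D.Z) C.D.z.minFac (C.D.cardZ.symm ▸ Nat.minFac_dvd _)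
    exact ⟨k, k.2, by rw [Subgroup.orderOf_coe, hk]⟩
  have hrp : (orderOf k₀).Prime := hk₀r ▸ Nat.minFac_prime (by have := H.R.q_z; have := H.R.seven_q; omega)
  have hk₀1 : k₀ ≠ 1 := fun e => hrp.ne_one (by rw [e, orderOf_one])
  have hX'1 : X' ≠ ⊥ := by
    intro e
    have h1 : π ⟨C.E k₀, hZM _ hk₀⟩ ∈ X' := Subgroup.mem_map_of_mem _ (hZX _ hk₀)
    rw [e, Subgroup.mem_bot, hker] at h1
    obtain ⟨j, hj⟩ := hR3 h1
    exact hk₀1 (C.E_inj ((eq_one_of_pow_coprime (by rw [← map_pow, Hyp.pow_z hk₀, map_one]) hj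
      (Nat.Coprime.pow_right j H.z_coprime_three)).trans (map_one C.E).symm))
  -- an abelian normal subgroup
  obtain ⟨A, hAn, hAX, hA1, hAc⟩ : ∃ A : Subgroup (M ⧸ R'), A.Normal ∧ A ≤ X' ∧ A ≠ ⊥ ∧
      ∀ a ∈ A, ∀ b ∈ A, a * b = b * a := by
    obtain ⟨A, ⟨hAn, hA1, hAN⟩, hmin⟩ := (wellFounded_lt (α := Subgroup (M ⧸ R'))).has_min
      {A | A.Normal ∧ A ≠ ⊥ ∧ A ≤ X'} ⟨X', inferInstance, hX'1, le_rfl⟩
    refine ⟨A, hAn, hAN, hA1, ?_⟩
    haveI := hAn
    by_cases he : ⁅A, A⁆ = ⊥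
    · intro a ha b hb
      have hm := Subgroup.commutator_mem_commutator ha hb
      rw [he, Subgroup.mem_bot, commutatorElement_eq_one_iff_mul_comm] at hm
      exact hm
    exfalso
    have hle : ⁅A, A⁆ ≤ A := Subgroup.commutator_le_right A A
    have heq : ⁅A, A⁆ = A := by
      by_contra hne
      exact hmin ⁅A, A⁆ ⟨inferInstance, he, hle.trans hAN⟩ (lt_of_le_of_ne hle hne)
    haveI := hsolv
    haveI : Group.IsSolvable A := Group.isSolvable_of_isSolvable_injective (Subgroup.inclusion_injective hAN)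
    haveI : Nontrivial A := (Subgroup.nontrivial_iff_ne_bot A).mpr hA1
    refine (Group.IsSolvable.commutator_lt_top_of_nontrivial A).ne ?_
    refine Subgroup.map_injective A.subtype_injective ?_
    rw [_root_.commutator_def, Subgroup.map_commutator, ← MonoidHom.range_eq_map, Subgroup.range_subtype, heq]
  set l := (Nat.card A).minFac with hl0
  have hl : l.Prime := Nat.minFac_prime fun h => hA1 (Subgroup.eq_bot_of_card_eq _ h)
  haveI := Fact.mk hl
  let B : Subgroup (M ⧸ R') :=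
    { carrier := {b | b ∈ A ∧ b ^ l = 1}
      one_mem' := ⟨one_mem _, one_pow _⟩
      mul_mem' := fun {a b} ha hb => ⟨mul_mem ha.1 hb.1, by
        rw [(show Commute a b from hAc a ha.1 b hb.1).mul_pow, ha.2, hb.2, one_mul]⟩
      inv_mem' := fun {a} ha => ⟨inv_mem ha.1, by rw [inv_pow, ha.2, inv_one]⟩ }
  have hBmem : ∀ {b}, b ∈ B ↔ b ∈ A ∧ b ^ l = 1 := Iff.rfl
  haveI hBn : B.Normal := ⟨fun b hb g => ⟨hAn.conj_mem b hb.1 g, by rw [conj_pow, hb.2]; group⟩⟩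
  obtain ⟨b₁, hb₁, hb₁o⟩ : ∃ b ∈ B, orderOf b = l := by
    obtain ⟨a, ha⟩ := exists_prime_orderOf_dvd_card' (G := A) l (Nat.minFac_dvd _)
    have hao : orderOf (a : M ⧸ R') = l := by rw [Subgroup.orderOf_coe, ha]
    exact ⟨a, ⟨a.2, hao ▸ pow_orderOf_eq_one _⟩, hao⟩
  have hb₁1 : b₁ ≠ 1 := fun e => hl.ne_one (by rw [← hb₁o, e, orderOf_one])
  set At := (B.comap π).map M.subtype with hAt
  have hAtmem : ∀ {x : G}, x ∈ At ↔ ∃ h : x ∈ M, π ⟨x, h⟩ ∈ B := by
    intro x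
    constructor
    · rintro ⟨y, hy, rfl⟩; exact ⟨y.2, hy⟩
    · rintro ⟨h, hx⟩; exact ⟨⟨x, h⟩, hx, rfl⟩
  have hRAt : R ≤ At := fun x hx => hAtmem.mpr ⟨hRM hx, by rw [(hker ⟨x, hRM hx⟩).mpr hx]; exact one_mem _⟩
  have hπX : ∀ (x : M), π x ∈ X' → (x : G) ∈ X := by
    intro x hx
    obtain ⟨y, hy, he⟩ := hx
    have h1 : ((x⁻¹ * y : M) : G) ∈ R := (hker _).mp (by rw [map_mul, map_inv, he, inv_mul_cancel])
    have h2 := mul_mem (show (y : G) ∈ X from hy) (inv_mem (hRX h1))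
    rwa [Subgroup.coe_mul, Subgroup.coe_inv, mul_inv_rev, inv_inv, mul_inv_cancel_left] at h2
  have hAtX : At ≤ X := fun x hx => by
    obtain ⟨h, hb⟩ := hAtmem.mp hx
    exact hπX ⟨x, h⟩ (hAX hb.1)
  have hAtn : ∀ g ∈ M, ∀ x ∈ At, g * x * g⁻¹ ∈ At := by
    intro g hg x hx
    obtain ⟨h, hb⟩ := hAtmem.mp hx
    refine hAtmem.mpr ⟨mul_mem (mul_mem hg h) (inv_mem hg), ?_⟩
    have := hBn.conj_mem _ hb (π ⟨g, hg⟩)
    rw [← map_inv, ← map_mul, ← map_mul] at this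
    exact this
  have hAtl : ∀ x ∈ At, x ^ l ∈ R := by
    intro x hx
    obtain ⟨h, hb⟩ := hAtmem.mp hx
    exact (hker (⟨x, h⟩ ^ l)).mp (by rw [map_pow, hb.2])
  obtain ⟨x₁, hx₁M, hx₁b⟩ : ∃ x, ∃ h : x ∈ M, π ⟨x, h⟩ = b₁ := by
    obtain ⟨y, hy⟩ := QuotientGroup.mk'_surjective R' b₁
    exact ⟨y, y.2, hy⟩
  have hx₁At : x₁ ∈ At := hAtmem.mpr ⟨hx₁M, hx₁b ▸ hb₁⟩
  have hx₁R : x₁ ∉ R := fun h => hb₁1 (by rw [← hx₁b]; exact (hker _).mpr h)
  have hl2 : l ≠ 2 := by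
    intro e
    have h1 := hodd (hAtX hx₁At)
    have h2 : b₁ ^ orderOf x₁ = 1 := by
      rw [← hx₁b, ← map_pow, show (⟨x₁, hx₁M⟩ : M) ^ orderOf x₁ = 1 from Subtype.ext (pow_orderOf_eq_one x₁),
        map_one]
    exact Nat.not_even_iff_odd.mpr h1 (even_iff_two_dvd.mpr (e ▸ hb₁o ▸ orderOf_dvd_of_pow_eq_one h2))
  -- `l ≠ 3` by maximality
  have hl3 : l ≠ 3 := by
    intro e
    have hAp : IsPGroup 3 At := fun x => by
      obtain ⟨j, hj⟩ := hR3 (hAtl x x.2)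
      rw [e] at hj
      exact ⟨1 + j, Subtype.ext (by rw [pow_add, pow_one, pow_mul]; simpa using hj)⟩
    exact hx₁R (hmax ⟨hAp, hUR.trans hRAt, fun x hx => hAtn _ htM x hx, fun z hz x hx => hAtn _ (hZM z hz) x hx⟩
      hRAt hx₁At)
  have hlz : l ∣ C.D.z := by
    by_contra hlz
    have hlG : l ∣ Nat.card G := by
      refine dvd_trans (hb₁o ▸ orderOf_dvd_natCard b₁) ?_
      exact (Subgroup.card_quotient_dvd_card R').trans (Subgroup.card_subgroup_dvd_card M)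
    have hlYW : l ∣ C.D.y ∨ l ∣ reeW C := by
      rcases H.R.prime_G hl hlG with e | e | e | e | e
      exacts [absurd e hl2, absurd e hl3, absurd e hlz, Or.inl e, Or.inr e]
    let TZ : Subgroup G := ((⊤ : Subgroup M2).prod C.D.Z).map C.ΦC
    have hTZM : ∀ g ∈ TZ, g ∈ M := by
      rintro _ ⟨⟨i, k⟩, hik, rfl⟩
      rcases C.ΦC_cases i k with e | e <;> rw [e]
      · exact hZM k hik.2
      · exact mul_mem htM (hZM k hik.2)
    have hTZn : TZ ≤ Subgroup.normalizer (At : Set G) := fun g hg =>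
      Subgroup.mem_normalizer_fintype fun x hx => hAtn g (hTZM g hg) x hx
    have hcardTZ : Nat.card TZ ∣ 2 * C.D.z := by
      refine (Subgroup.card_map_dvd _ _).trans (dvd_of_eq ?_)
      rw [Nat.card_congr (((⊤ : Subgroup M2).prodEquiv C.D.Z).toEquiv), Nat.card_prod, C.D.cardZ,
        Nat.card_congr Subgroup.topEquiv.toEquiv]
      simp [M2]
    have hcop : (Nat.card TZ).Coprime (Nat.card At) := by
      refine Nat.coprime_of_dvd' fun r hr h1 h2 => ?_
      haveI := Fact.mk hr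
      obtain ⟨x, hx⟩ := exists_prime_orderOf_dvd_card' r h2
      obtain ⟨j, hj⟩ := hR3 (hAtl x x.2)
      have hd : r ∣ l * 3 ^ j := by
        rw [← hx, ← Subgroup.orderOf_coe]
        exact orderOf_dvd_of_pow_eq_one (by rw [pow_mul]; exact hj)
      have h2z := h1.trans hcardTZ
      exfalso
      rcases hr.dvd_mul.mp hd with h | h
      · rw [(Nat.prime_dvd_prime_iff_eq hr hl).mp h] at h2z
        rcases hl.dvd_mul.mp h2z with h' | h'
        · exact hl2 ((Nat.prime_dvd_prime_iff_eq hl Nat.prime_two).mp h')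
        · exact hlz h'
      · rw [(Nat.prime_dvd_prime_iff_eq hr Nat.prime_three).mp (hr.dvd_of_dvd_pow h)] at h2z
        exact H.R.three_not_torus (dvd_trans h2z (Dvd.intro C.D.y (by ring)))
    have hAodd : Odd (Nat.card At) := SX.odd.of_dvd_nat (Subgroup.card_dvd_of_le hAtX)
    obtain ⟨Q, hQ⟩ := CfsgLib.coprime_exists_invariant_sylow hTZn hcop (Or.inr (Cfsg.Agent.S0205.result hAodd)) l
    set Qg := (Q : Subgroup At).map At.subtype with hQg
    have hQAt : Qg ≤ At := Subgroup.map_subtype_le _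
    have hQl : IsPGroup l Qg := Q.2.map _
    have hQR : ∀ x ∈ Qg, x ∈ R → x = 1 := fun x hx hxR => by
      obtain ⟨i, hi⟩ := hQl ⟨x, hx⟩
      obtain ⟨j, hj⟩ := hR3 hxR
      exact eq_one_of_pow_coprime (congrArg Subtype.val hi) hj
        (Nat.Coprime.pow i j ((Nat.coprime_primes hl Nat.prime_three).mpr hl3))
    have hQc : ∀ x ∈ Qg, ∀ y ∈ Qg, x * y = y * x := fun x hx y hy => by
      obtain ⟨hxM, hxb⟩ := hAtmem.mp (hQAt hx)
      obtain ⟨hyM, hyb⟩ := hAtmem.mp (hQAt hy)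
      have h1 : x * y * x⁻¹ * y⁻¹ ∈ R := (hker (⟨x, hxM⟩ * ⟨y, hyM⟩ * ⟨x, hxM⟩⁻¹ * ⟨y, hyM⟩⁻¹)).mp (by
        rw [map_mul, map_mul, map_mul, map_inv, map_inv, hAc _ hxb.1 _ hyb.1]; group)
      have h2 := hQR _ (mul_mem (mul_mem (mul_mem hx hy) (inv_mem hx)) (inv_mem hy)) h1
      calc x * y = x * y * x⁻¹ * y⁻¹ * (y * x) := by group
        _ = y * x := by rw [h2, one_mul]
    have hQ1 : Qg ≠ ⊥ := by
      intro e
      have hd : l ∣ Nat.card At := by
        have hx : x₁ ^ orderOf x₁ = 1 := pow_orderOf_eq_one x₁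
        refine dvd_trans ?_ (Subgroup.orderOf_dvd_natCard At hx₁At)
        rw [← hb₁o]
        refine orderOf_dvd_of_pow_eq_one ?_
        rw [← hx₁b, ← map_pow, show (⟨x₁, hx₁M⟩ : M) ^ orderOf x₁ = 1 from Subtype.ext hx, map_one]
      have h1 := Q.dvd_card_of_dvd_card hd
      have h2 : Nat.card Qg = 1 := Subgroup.card_eq_one.mpr e
      rw [hQg, Subgroup.card_map_of_injective At.subtype_injective] at h2
      rw [h2] at h1
      exact hl.not_dvd_one h1
    have hQn : ∀ g ∈ TZ, ∀ x ∈ Qg, g * x * g⁻¹ ∈ Qg := fun g hg x hx =>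
      (Subgroup.mem_normalizer_iff.mp (hQ hg) x).mp hx
    have htTZ : C.t ∈ TZ := ⟨(Multiplicative.ofAdd 1, 1), ⟨trivial, one_mem _⟩, by rw [C.ΦC_one, map_one, mul_one]⟩
    have hzTZ : ∀ z ∈ C.D.Z, C.E z ∈ TZ := fun z hz =>
      ⟨(Multiplicative.ofAdd 0, z), ⟨trivial, hz⟩, C.ΦC_zero z⟩
    have hoddQ : ∀ x ∈ Qg, Odd (orderOf x) := fun x hx => hodd (hAtX (hQAt hx))
    have hfpf : ∀ x ∈ Qg, x ≠ 1 → ∀ g, (∃ j, g ^ 3 ^ j = 1) → Commute x g → g = 1 := by
      intro x hx hx1 g hg hc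
      obtain ⟨j, hj⟩ := hg
      obtain ⟨i, hi⟩ := hQl ⟨x, hx⟩
      obtain ⟨i', -, hi'⟩ := (Nat.dvd_prime_pow hl).mp (orderOf_dvd_of_pow_eq_one (congrArg Subtype.val hi : x ^ l ^ i = 1))
      have hd : l ∣ orderOf x := by
        rcases i' with _ | i'
        · exact absurd (orderOf_eq_one_iff.mp (by rw [hi', pow_zero])) hx1
        · exact hi' ▸ dvd_pow_self l (by omega)
      obtain ⟨n, hn⟩ := Hyp.exists_pow_prime hl hd
      exact H.three_fpf (x := x ^ n) (hn.symm ▸ hl) (hn.symm ▸ (by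
        rcases hlYW with h | h
        exacts [Or.inr (Or.inl h), Or.inr (Or.inr h)])) S hj (hc.symm.pow_right n)
    by_cases hall : ∀ x ∈ Qg, Commute x C.t
    · -- `t` centralises `Q`
      obtain ⟨x, hx, hx1⟩ : ∃ x ∈ Qg, x ≠ 1 := by
        by_contra h
        push Not at h
        exact hQ1 ((Subgroup.eq_bot_iff_forall _).mpr h)
      obtain ⟨i, hi⟩ := hQl ⟨x, hx⟩
      obtain ⟨i', -, hi'⟩ := (Nat.dvd_prime_pow hl).mp (orderOf_dvd_of_pow_eq_one (congrArg Subtype.val hi : x ^ l ^ i = 1))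
      have hd : l ∣ orderOf x := by
        rcases i' with _ | i'
        · exact absurd (orderOf_eq_one_iff.mp (by rw [hi', pow_zero])) hx1
        · exact hi' ▸ dvd_pow_self l (by omega)
      obtain ⟨n, hn⟩ := Hyp.exists_pow_prime hl hd
      have hxn := pow_mem hx n
      obtain ⟨c, hc⟩ := odd_mem_E (hall _ hxn) (hoddQ _ hxn)
      have hlL : l ∣ Nat.card L := by
        rw [← hn, hc, orderOf_injective C.E C.E_inj]
        exact orderOf_dvd_natCard c
      have hly : l ∣ C.D.y := by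
        rcases H.R.prime_cases hl hl2 hlL with e | ⟨e, -⟩ | ⟨e, -⟩
        exacts [absurd e hl3, absurd e hlz, e]
      have hcn : C.E c ∈ Subgroup.normalizer ((U₀.map C.E : Subgroup G) : Set G) :=
        Subgroup.mem_normalizer_fintype fun _ hu => by
          obtain ⟨u, hu, rfl⟩ := hu
          rw [← map_inv, ← map_mul, ← map_mul]
          exact Subgroup.mem_map_of_mem _
            (hnU c (Or.inl (hc ▸ (hAtmem.mp (hQAt hxn)).1)) u hu)
      have hfix : (U₀.map C.E ⊓ Subgroup.centralizer ({C.E c} : Set G) : Subgroup G) = ⊥ := by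
        rw [Subgroup.eq_bot_iff_forall]
        rintro g ⟨hg, hg'⟩
        have hgc : Commute g (C.E c) := Subgroup.mem_centralizer_singleton_iff.mp hg'
        refine hfpf (x ^ n) hxn (fun e => hl.ne_one (by rw [← hn, e, orderOf_one])) g (hR3 (hUR hg)) ?_
        rw [hc]
        exact hgc.symm
      have hmod := card_modEq_fixed (U₀.map C.E) (C.E c) (l := l) (by rw [← hc, hn]) hcn
      rw [hfix, Subgroup.card_bot, Subgroup.card_map_of_injective C.E_inj, hUc] at hmod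
      have h1 : l ∣ C.D.q - 1 := (Nat.modEq_iff_dvd' (by have := H.R.seven_q; omega)).mp hmod.symm
      have h2 : l ∣ C.D.q + 1 := H.R.q_y ▸ hly.mul_left 4
      have h3 := Nat.dvd_sub h2 h1
      rw [show C.D.q + 1 - (C.D.q - 1) = 2 by have := H.R.seven_q; omega] at h3
      exact hl2 ((Nat.prime_dvd_prime_iff_eq hl Nat.prime_two).mp h3)
    · -- a Frobenius group acts on the centre of `R`
      push Not at hall
      obtain ⟨x, hx, hxt⟩ := hall
      let K : Subgroup G :=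
        { carrier := {k | k ∈ Qg ∧ C.t * k * C.t⁻¹ = k⁻¹}
          one_mem' := ⟨one_mem _, by simp⟩
          mul_mem' := fun {a b} ha hb => ⟨mul_mem ha.1 hb.1, by
            rw [show C.t * (a * b) * C.t⁻¹ = (C.t * a * C.t⁻¹) * (C.t * b * C.t⁻¹) by group, ha.2, hb.2,
              ← mul_inv_rev, hQc b hb.1 a ha.1]⟩
          inv_mem' := fun {a} ha => ⟨inv_mem ha.1, by
            rw [show C.t * a⁻¹ * C.t⁻¹ = (C.t * a * C.t⁻¹)⁻¹ by group, ha.2]⟩ }
      have hK1 : K ≠ ⊥ := by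
        intro e
        set y := C.t * x * C.t⁻¹ with hy
        have hyQ : y ∈ Qg := hQn _ htTZ x hx
        have hk : x⁻¹ * y ∈ K := ⟨mul_mem (inv_mem hx) hyQ, by
          rw [hy, show C.t * (x⁻¹ * (C.t * x * C.t⁻¹)) * C.t⁻¹ =
            (C.t * x * C.t⁻¹)⁻¹ * (C.t * C.t * x * (C.t * C.t)⁻¹) by group, C.t_sq]
          group⟩
        rw [e, Subgroup.mem_bot, inv_mul_eq_one] at hk
        exact hxt (by
          show x * C.t = C.t * x
          nth_rw 1 [hk]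
          rw [hy]; group)
      set V := R ⊓ Subgroup.centralizer (R : Set G) with hV
      have hVn : ∀ g ∈ M, ∀ v ∈ V, g * v * g⁻¹ ∈ V := by
        intro g hg v hv
        refine ⟨hMR g hg v hv.1, Subgroup.mem_centralizer_iff.mpr fun r hr => ?_⟩
        have hr' : g⁻¹ * r * g ∈ R := (Subgroup.mem_normalizer_iff''.mp hg r).mp hr
        have h := Subgroup.mem_centralizer_iff.mp hv.2 _ hr'
        calc r * (g * v * g⁻¹) = g * (g⁻¹ * r * g * v) * g⁻¹ := by group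
          _ = g * (v * (g⁻¹ * r * g)) * g⁻¹ := by rw [h]
          _ = g * v * g⁻¹ * r := by group
      have hVbot := frob_fpf V K (C.E k₀) hrp (orderOf_injective C.E C.E_inj k₀)
        (fun v hv w hw => Subgroup.mem_centralizer_iff.mp hw.2 v hv.1)
        (fun k hk v hv => hVn k ((hAtmem.mp (hQAt hk.1)).1) v hv)
        (fun v hv => hVn _ (hZM _ hk₀) v hv)
        (fun k hk => ⟨hQn _ (hzTZ _ hk₀) k hk.1, by
          rw [show C.t * (C.E k₀ * k * (C.E k₀)⁻¹) * C.t⁻¹ = (C.t * C.E k₀) * k * (C.t * C.E k₀)⁻¹ by group,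
            (C.E_comm k₀).eq,
            show C.E k₀ * C.t * k * (C.E k₀ * C.t)⁻¹ = C.E k₀ * (C.t * k * C.t⁻¹) * (C.E k₀)⁻¹ by group, hk.2]
          group⟩)
        (fun k hk hk1 v hv hc => hfpf k hk.1 hk1 v (hR3 hv.1) hc)
        (fun v hv hc => by
          obtain ⟨j, hj⟩ := hR3 hv.1
          exact H.three_fpf (x := C.E k₀) (by rw [orderOf_injective C.E C.E_inj]; exact hrp)
            (Or.inl (by rw [orderOf_injective C.E C.E_inj, hk₀r]; exact Nat.minFac_dvd _)) S hj hc.symm)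
        (fun k hk hc => by
          have h1 : Commute k C.t := H.R.cent_Z hk₀ hk₀1 hc.symm
          have h2 := hk.2
          rw [h1.symm.eq, mul_inv_cancel_right] at h2
          exact eq_one_of_pow_coprime (m := 2) (by rw [pow_two]; exact mul_eq_one_iff_eq_inv.mpr h2)
            (pow_orderOf_eq_one k) (Nat.coprime_two_left.mpr (hoddQ k hk.1)))
        hK1 (fun v hv hk => by
          have hKl : IsPGroup l K := hQl.to_le fun k hk => hk.1
          obtain ⟨i, hi⟩ := IsPGroup.iff_card.mp hKl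
          obtain ⟨j, hj⟩ := hR3 hv.1
          rw [hi] at hk
          exact eq_one_of_pow_coprime hk hj (Nat.Coprime.pow i j ((Nat.coprime_primes hl Nat.prime_three).mpr hl3)))
      haveI : Nontrivial R := by
        refine (Subgroup.nontrivial_iff_ne_bot R).mpr fun e => ?_
        have h := Subgroup.card_le_of_le hUR
        rw [Subgroup.card_map_of_injective C.E_inj, hUc, e, Subgroup.card_bot] at h
        have := H.R.seven_q
        omega
      haveI := hRp.center_nontrivial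
      obtain ⟨v, hv⟩ := exists_ne (1 : Subgroup.center R)
      have hvV : ((v : R) : G) ∈ V := ⟨(v : R).2, Subgroup.mem_centralizer_iff.mpr fun r hr =>
        congrArg Subtype.val (Subgroup.mem_center_iff.mp v.2 ⟨r, hr⟩)⟩
      rw [hVbot, Subgroup.mem_bot] at hvV
      exact hv (Subtype.ext (Subtype.ext hvV))
  -- `t` centralises `X/R`
  have hBZ : ∀ b ∈ B, ∃ k ∈ C.D.Z, ∃ h : C.E k ∈ M, π ⟨C.E k, h⟩ = b := by
    let Zl : Subgroup G := (((default : Sylow l C.D.Z) : Subgroup C.D.Z).map C.D.Z.subtype).map C.E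
    have hZlM : Zl ≤ M := by
      rintro _ ⟨k, ⟨k', -, rfl⟩, rfl⟩
      exact hZM _ k'.2
    have hcard : Nat.card (Zl.subgroupOf M) = l ^ (Nat.card M).factorization l := by
      have h1 : Nat.card Zl = l ^ C.D.z.factorization l := by
        rw [Subgroup.card_map_of_injective C.E_inj, Subgroup.card_map_of_injective C.D.Z.subtype_injective,
          Sylow.card_eq_multiplicity, C.D.cardZ]
      rw [Nat.card_congr (Subgroup.subgroupOfEquivOfLe hZlM).toEquiv, h1]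
      congr 1
      refine le_antisymm ?_ ?_
      · rw [← hl.pow_dvd_iff_le_factorization Nat.card_pos.ne', ← h1]
        exact Subgroup.card_dvd_of_le hZlM
      · rw [← H.R.factorization_z hl hlz]
        exact (Nat.factorization_le_iff_dvd Nat.card_pos.ne' Nat.card_pos.ne').mpr M.card_subgroup_dvd_card l
    let P : Sylow l M := Sylow.ofCard (Zl.subgroupOf M) hcard
    intro b hb
    have hBl : IsPGroup l B := fun y => ⟨1, Subtype.ext (by simpa using y.2.2)⟩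
    have := hBl.le_sylow_of_normal (P.mapSurjective (QuotientGroup.mk'_surjective R')) hb
    obtain ⟨y, hy, hyb⟩ := this
    obtain ⟨k, ⟨k', -, rfl⟩, hke⟩ : (y : G) ∈ Zl := hy
    exact ⟨_, k'.2, hZM _ k'.2, by rw [← hyb]; exact congrArg π (Subtype.ext hke)⟩
  obtain ⟨k₁, hk₁, hk₁M, hk₁b⟩ := hBZ b₁ hb₁
  have hk₁1 : k₁ ≠ 1 := fun e => hb₁1 (by
    rw [← hk₁b, (hker _).mpr (by show C.E k₁ ∈ R; rw [e, map_one]; exact one_mem _)])
  set t' := π ⟨C.t, htM⟩ with ht'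
  have htB : ∀ b ∈ B, t' * b = b * t' := fun b hb => by
    obtain ⟨k, -, hkM, rfl⟩ := hBZ b hb
    rw [ht', ← map_mul, ← map_mul]
    exact congrArg π (Subtype.ext (C.E_comm k).eq)
  have hmR : ∀ g ∈ X, g⁻¹ * (C.t * g * C.t⁻¹) ∈ R := by
    intro g hg
    have hgM := SX.le hg
    set d := C.t * g * C.t⁻¹ * g⁻¹ with hd
    have hdX : d ∈ X := mul_mem (SX.norm _ htM g hg) (inv_mem hg)
    have hdM := SX.le hdX
    set g' := π ⟨g, hgM⟩ with hg'
    have hd' : π ⟨d, hdM⟩ = t' * g' * t'⁻¹ * g'⁻¹ := by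
      rw [ht', hg', ← map_inv, ← map_inv, ← map_mul, ← map_mul, ← map_mul]
      exact congrArg π (Subtype.ext rfl)
    have hdb : π ⟨d, hdM⟩ * b₁ * (π ⟨d, hdM⟩)⁻¹ = b₁ := by
      rw [hd']
      have hc : g'⁻¹ * b₁ * g' ∈ B := by simpa using hBn.conj_mem b₁ hb₁ g'⁻¹
      have e1 := htB _ hc
      have e2 := htB _ hb₁
      calc t' * g' * t'⁻¹ * g'⁻¹ * b₁ * (t' * g' * t'⁻¹ * g'⁻¹)⁻¹
          = t' * g' * t'⁻¹ * ((g'⁻¹ * b₁ * g') * t') * g'⁻¹ * t'⁻¹ := by group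
        _ = t' * g' * t'⁻¹ * (t' * (g'⁻¹ * b₁ * g')) * g'⁻¹ * t'⁻¹ := by rw [e1]
        _ = t' * b₁ * t'⁻¹ := by group
        _ = b₁ := by rw [e2]; group
    have hdR : d * C.E k₁ * d⁻¹ * (C.E k₁)⁻¹ ∈ R := by
      refine (hker (⟨d, hdM⟩ * ⟨C.E k₁, hk₁M⟩ * ⟨d, hdM⟩⁻¹ * ⟨C.E k₁, hk₁M⟩⁻¹)).mp ?_
      rw [map_mul, map_mul, map_mul, map_inv, map_inv, hk₁b, hdb, mul_inv_cancel]
    let f : R → R := fun r => ⟨(r : G) * C.E k₁ * (r : G)⁻¹ * (C.E k₁)⁻¹, by
      rw [mul_assoc (r : G), mul_assoc (r : G)]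
      exact mul_mem r.2 (hMR _ hk₁M _ (inv_mem r.2))⟩
    have hf : Function.Injective f := by
      intro a b hab
      have e := congrArg Subtype.val hab
      simp only [f, mul_left_inj] at e
      have hc : Commute ((b : G)⁻¹ * a) (C.E k₁) := by
        show (b : G)⁻¹ * a * C.E k₁ = C.E k₁ * ((b : G)⁻¹ * a)
        calc (b : G)⁻¹ * a * C.E k₁ = (b : G)⁻¹ * ((a : G) * C.E k₁ * (a : G)⁻¹) * a := by group
          _ = (b : G)⁻¹ * ((b : G) * C.E k₁ * (b : G)⁻¹) * a := by rw [e]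
          _ = C.E k₁ * ((b : G)⁻¹ * a) := by group
      obtain ⟨j, hj⟩ := hR3 (mul_mem (inv_mem b.2) a.2)
      have hlk : ∃ n, orderOf (k₁ ^ n) = l := by
        refine Hyp.exists_pow_prime hl ?_
        rw [← hb₁o]
        refine orderOf_dvd_of_pow_eq_one ?_
        rw [← hk₁b, ← map_pow, show (⟨C.E k₁, hk₁M⟩ : M) ^ orderOf k₁ = 1 from Subtype.ext (by
          show C.E k₁ ^ orderOf k₁ = 1
          rw [← map_pow, pow_orderOf_eq_one, map_one]), map_one]
      obtain ⟨n, hn⟩ := hlk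
      have := H.three_fpf (x := C.E k₁ ^ n) (g := (b : G)⁻¹ * a) (by
        rw [← map_pow, orderOf_injective C.E C.E_inj, hn]; exact hl) (Or.inl (by
        rw [← map_pow, orderOf_injective C.E C.E_inj, hn]; exact hlz)) S hj (hc.pow_right n)
      exact (Subtype.ext (inv_mul_eq_one.mp this)).symm
    obtain ⟨r, hr⟩ := Finite.injective_iff_surjective.mp hf ⟨_, hdR⟩
    have er : (r : G) * C.E k₁ * (r : G)⁻¹ = d * C.E k₁ * d⁻¹ := mul_right_cancel (congrArg Subtype.val hr)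
    have hc : Commute ((r : G)⁻¹ * d) (C.E k₁) := by
      show (r : G)⁻¹ * d * C.E k₁ = C.E k₁ * ((r : G)⁻¹ * d)
      calc (r : G)⁻¹ * d * C.E k₁ = (r : G)⁻¹ * (d * C.E k₁ * d⁻¹) * d := by group
        _ = (r : G)⁻¹ * ((r : G) * C.E k₁ * (r : G)⁻¹) * d := by rw [er]
        _ = C.E k₁ * ((r : G)⁻¹ * d) := by group
    have hct := H.R.cent_Z hk₁ hk₁1 hc
    have hrM : (r : G) ∈ M := hRM r.2
    have e1 : π ⟨d, hdM⟩ = π ⟨(r : G)⁻¹ * d, mul_mem (inv_mem hrM) hdM⟩ := by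
      rw [show (⟨(r : G)⁻¹ * d, mul_mem (inv_mem hrM) hdM⟩ : M) = ⟨(r : G), hrM⟩⁻¹ * ⟨d, hdM⟩ from rfl, map_mul,
        map_inv, (hker ⟨(r : G), hrM⟩).mpr r.2, inv_one, one_mul]
    have e2 : t' * π ⟨d, hdM⟩ = π ⟨d, hdM⟩ * t' := by
      rw [e1, ht', ← map_mul, ← map_mul]
      exact congrArg π (Subtype.ext hct.symm.eq)
    have e3 : π ⟨d, hdM⟩ = (π ⟨d, hdM⟩)⁻¹ := by
      calc π ⟨d, hdM⟩ = t' * π ⟨d, hdM⟩ * t'⁻¹ := by rw [e2]; group
        _ = (π ⟨d, hdM⟩)⁻¹ := by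
          rw [ht', ← map_inv, ← map_inv, ← map_mul, ← map_mul]
          refine congrArg π (Subtype.ext ?_)
          show C.t * (C.t * g * C.t⁻¹ * g⁻¹) * C.t⁻¹ = (C.t * g * C.t⁻¹ * g⁻¹)⁻¹
          rw [C.t_inv, mul_inv_rev, mul_inv_rev, mul_inv_rev, inv_inv, C.t_inv,
            show C.t * (C.t * g * C.t * g⁻¹) * C.t = C.t * C.t * g * C.t * g⁻¹ * C.t by group, C.t_sq]
          group
    have e4 : π ⟨d, hdM⟩ = 1 := eq_one_of_pow_coprime (m := 2) (by
        rw [pow_two]; exact mul_eq_one_iff_eq_inv.mpr e3)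
      (by rw [← map_pow, show (⟨d, hdM⟩ : M) ^ orderOf d = 1 from Subtype.ext (pow_orderOf_eq_one d), map_one])
      (Nat.coprime_two_left.mpr (hodd hdX))
    have h5 : d ∈ R := (hker _).mp e4
    have h6 : g⁻¹ * d * g ∈ R := by
      simpa using hMR g⁻¹ (inv_mem hgM) d h5
    rwa [hd, show g⁻¹ * (C.t * g * C.t⁻¹ * g⁻¹) * g = g⁻¹ * (C.t * g * C.t⁻¹) by group] at h6
  -- so `R` is a Sylow subgroup
  have hkey : ∀ g ∈ M, (∃ j, g ^ 3 ^ j = 1) → g ∈ R := by
    rintro g hgM ⟨j, hj⟩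
    have hgX : g ∈ X := SX.odd_mem g hgM ((show Odd (3 ^ j) from Odd.pow (by decide)).of_dvd_nat
      (orderOf_dvd_of_pow_eq_one hj))
    set w := g⁻¹ * (C.t * g * C.t⁻¹) with hw
    have hwR : w ∈ R := hmR g hgX
    have htw : C.t * w * C.t⁻¹ = w⁻¹ := by
      rw [hw, show C.t * (g⁻¹ * (C.t * g * C.t⁻¹)) * C.t⁻¹ =
        (C.t * g * C.t⁻¹)⁻¹ * (C.t * C.t * g * (C.t * C.t)⁻¹) by group, C.t_sq]
      group
    obtain ⟨i, hi⟩ := hoddR hwR
    set s := w ^ (i + 1) with hs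
    have hss : s * s = w := by
      rw [hs, ← pow_add, show i + 1 + (i + 1) = orderOf w + 1 by omega, pow_succ, pow_orderOf_eq_one, one_mul]
    have hsR : s ∈ R := pow_mem hwR _
    have hts : C.t * s * C.t⁻¹ = s⁻¹ := by rw [hs, ← conj_pow, htw, inv_pow]
    set c := g * s with hc
    have hct : C.t * c * C.t⁻¹ = c := by
      rw [hc, show C.t * (g * s) * C.t⁻¹ = g * (g⁻¹ * (C.t * g * C.t⁻¹)) * (C.t * s * C.t⁻¹) by group, hts, ← hw,
        ← hss]
      group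
    have hcM : c ∈ M := mul_mem hgM (hRM hsR)
    have hcX : c ∈ X := mul_mem hgX (hRX hsR)
    obtain ⟨c₀, hc₀⟩ := odd_mem_E (mul_inv_eq_iff_eq_mul.mp hct).symm (hodd hcX)
    obtain ⟨a, n, hn, han⟩ := Nat.exists_eq_pow_mul_and_not_dvd (orderOf_pos c).ne' 3 (by norm_num)
    have h3 : (c₀ ^ n) ^ 3 ^ a = 1 := C.E_inj (by
      rw [map_pow, map_pow, ← hc₀, ← pow_mul, mul_comm, ← han, pow_orderOf_eq_one, map_one])
    have hnorm : c₀ ^ n ∈ Subgroup.normalizer ((UL : Subgroup L) : Set L) :=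
      pow_mem (Subgroup.mem_normalizer_fintype fun u hu => hnU c₀ (Or.inl (hc₀ ▸ hcM)) u hu) n
    have hcU : c₀ ^ n ∈ U₀ := by
      obtain ⟨a', -, ha'⟩ := (Nat.dvd_prime_pow Nat.prime_three).mp (orderOf_dvd_of_pow_eq_one h3)
      have hp : IsPGroup 3 (Subgroup.zpowers (c₀ ^ n)) := IsPGroup.of_card (n := a') (by rw [Nat.card_zpowers, ha'])
      have h := hp.inf_normalizer_sylow UL
      have hmem : c₀ ^ n ∈ Subgroup.zpowers (c₀ ^ n) ⊓ Subgroup.normalizer (UL : Set L) :=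
        ⟨Subgroup.mem_zpowers _, hnorm⟩
      rw [h] at hmem
      exact hmem.2
    have e1 : π ⟨g, hgM⟩ = π ⟨c, hcM⟩ := by
      rw [show (⟨c, hcM⟩ : M) = ⟨g, hgM⟩ * ⟨s, hRM hsR⟩ from rfl, map_mul, (hker ⟨s, hRM hsR⟩).mpr hsR, mul_one]
    refine (hker ⟨g, hgM⟩).mp (eq_one_of_pow_coprime (m := n) (n := 3 ^ j) ?_ ?_ ?_)
    · rw [e1, ← map_pow, hker]
      show c ^ n ∈ R
      rw [hc₀, ← map_pow]
      exact hUR (Subgroup.mem_map_of_mem _ hcU)
    · rw [← map_pow, show (⟨g, hgM⟩ : M) ^ 3 ^ j = 1 from Subtype.ext hj, map_one]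
    · exact Nat.Coprime.pow_right j ((Nat.prime_three.coprime_iff_not_dvd.mpr hn).symm)
  have hcardR : Nat.card R = C.D.q ^ 3 := by
    obtain ⟨Q, hQ⟩ := hRp.exists_le_sylow
    have hQR : (Q : Subgroup G) = R := by
      by_contra hne
      obtain ⟨g, hg, hgR⟩ := SetLike.exists_of_lt (CfsgLib.StrongFusion.lt_inf_normalizer Q hQ (Ne.symm hne))
      obtain ⟨j, hj⟩ := Q.2 ⟨g, hg.1⟩
      exact hgR (hkey g hg.2 ⟨j, congrArg Subtype.val hj⟩)
    rw [← hQR, Sylow.card_eq_multiplicity, hG3, hm, ← pow_mul, mul_comm]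
  exact ⟨R, U₀, hcardR, hRp, hUc, hUz, fun u hu => hUR (Subgroup.mem_map_of_mem _ hu), hRt, htR, hZR⟩

/-- The number of Sylow 3-subgroups, their trivial intersections, and the normaliser. -/
theorem sylow_facts {P : Subgroup G} {U₀ : Subgroup L} (D : PData C P U₀) :
    Nat.card (Sylow 3 G) = C.D.q ^ 3 + 1 ∧
      (∀ Q Q' : Sylow 3 G, ∀ x : G, x ∈ (Q : Subgroup G) → x ∈ (Q' : Subgroup G) → x ≠ 1 → Q = Q') ∧
      Nat.card (Subgroup.normalizer (P : Set G)) = C.D.q ^ 3 * (2 * C.D.z) := by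
  classical
  have H := S.H
  haveI : Fact (Nat.Prime 3) := ⟨Nat.prime_three⟩
  obtain ⟨m, -, hm⟩ := H.R.pow
  obtain ⟨hG3, -⟩ := H.R.factorization_three hm
  have hq3 : 3 ^ (Nat.card G).factorization 3 = C.D.q ^ 3 := by rw [hG3, hm, ← pow_mul, mul_comm]
  let Ps : Sylow 3 G := Sylow.ofCard P (by rw [D.card, hq3])
  set N := Subgroup.normalizer (P : Set G) with hN
  have hd : C.D.q ^ 3 * (2 * C.D.z) ∣ Nat.card N := by
    have ht : C.t ∈ N := Subgroup.mem_normalizer_fintype D.tP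
    have hz : C.D.Z.map C.E ≤ N := by
      rintro _ ⟨z, hz, rfl⟩
      exact Subgroup.mem_normalizer_fintype (D.ZP z hz)
    have h1 : C.D.q ^ 3 ∣ Nat.card N := D.card ▸ Subgroup.card_dvd_of_le Subgroup.le_normalizer
    have h2 : 2 ∣ Nat.card N := C.t_ord ▸ Subgroup.orderOf_dvd_natCard N ht
    have h3 : C.D.z ∣ Nat.card N := by
      have := Subgroup.card_dvd_of_le hz
      rwa [Subgroup.card_map_of_injective C.E_inj, C.D.cardZ] at this
    refine Nat.Coprime.mul_dvd_of_dvd_of_dvd ?_ h1 (Nat.Coprime.mul_dvd_of_dvd_of_dvd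
      (Nat.coprime_two_left.mpr H.R.z_odd) h2 h3)
    rw [hm, ← pow_mul]
    exact Nat.Coprime.pow_left _ (Nat.Coprime.mul_right (by norm_num) H.z_coprime_three.symm)
  set n := Nat.card (Sylow 3 G) with hn
  have hidx : n * Nat.card N = Nat.card G := by
    rw [hn, Sylow.card_eq_index_normalizer Ps]
    exact N.index_mul_card
  have hG : Nat.card G = (C.D.q ^ 3 + 1) * (C.D.q ^ 3 * (2 * C.D.z)) := by
    rw [H.R.card, show C.D.q - 1 = 2 * C.D.z by rw [H.R.q_z]; omega]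
    ring
  have hpos : 0 < C.D.q ^ 3 * (2 * C.D.z) := by
    have := H.R.seven_q
    exact Nat.mul_pos (by positivity) (Nat.mul_pos (by norm_num) H.R.z_odd.pos)
  have hle : n ≤ C.D.q ^ 3 + 1 := by
    refine Nat.le_of_mul_le_mul_right ?_ hpos
    rw [← hG, ← hidx]
    exact Nat.mul_le_mul_left _ (Nat.le_of_dvd Nat.card_pos hd)
  have h6 : C.D.q ^ 6 ≤ Nat.card {g : G // ∃ k, g ^ 3 ^ k = 1} := by
    have h := S.card_three
    exact_mod_cast h
  have hcp := card_pElems (p := 3) (H := G)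
  rw [hq3] at hcp
  have hge : C.D.q ^ 3 + 1 ≤ n := by
    by_contra hlt
    push Not at hlt
    have h1 := hcp.1
    rw [← hn] at h1
    have h2 : n * C.D.q ^ 3 ≤ C.D.q ^ 3 * C.D.q ^ 3 := Nat.mul_le_mul_right _ (by omega)
    have h4 : 0 < n := Nat.card_pos
    have h5 : n * (C.D.q ^ 3 - 1) + n = n * C.D.q ^ 3 := by
      rw [← Nat.mul_succ, Nat.succ_eq_add_one, Nat.sub_add_cancel]
      exact Nat.one_le_pow _ _ (by have := H.R.seven_q; omega)
    have h7 : n * (C.D.q ^ 3 - 1) ≤ C.D.q ^ 3 * (C.D.q ^ 3 - 1) := Nat.mul_le_mul_right _ (by omega)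
    have h8 : C.D.q ^ 6 = C.D.q ^ 3 * C.D.q ^ 3 := by ring
    have h9 : C.D.q ^ 3 * (C.D.q ^ 3 - 1) + C.D.q ^ 3 = C.D.q ^ 3 * C.D.q ^ 3 := by
      rw [← Nat.mul_succ, Nat.succ_eq_add_one, Nat.sub_add_cancel]
      exact Nat.one_le_pow _ _ (by have := H.R.seven_q; omega)
    have h10 : 27 ≤ C.D.q ^ 3 := le_trans H.R.seven_q (Nat.le_self_pow (by norm_num) _)
    omega
  have hneq : n = C.D.q ^ 3 + 1 := le_antisymm hle hge
  refine ⟨hneq, hcp.2 ?_, ?_⟩
  · rw [← hn, hneq]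
    have h8 : (C.D.q ^ 3 + 1) * C.D.q ^ 3 = C.D.q ^ 6 + C.D.q ^ 3 := by ring
    rw [h8]
    omega
  · have h1 := hidx
    rw [hneq, hG] at h1
    exact Nat.eq_of_mul_eq_mul_left (by omega) h1

end Sys

end CfsgLib.WalterUse.Ward
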