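import Cfsg.Agent.Lib.WalterUse.Ward.Ree
import Cfsg.Agent.Lib.DicksonFull.Tori
import Cfsg.Agent.Lib.J1.Spectrum

/-!
`PSL₂(q)` and `J₁` have all their cyclic subgroups of prime power order TI.
-/

set_option autoImplicit false
set_option linter.unusedSectionVars false
set_option linter.style.haveILetI false

namespace CfsgLib.WalterUse.Ward

open Cfsg CfsgLib

universe u

local notation "PSL₂[" K "]" => Matrix.ProjectiveSpecialLinearGroup (Fin 2) K

/-- It suffices that two cyclic subgroups of the same order `l ^ k`, `k ≥ 2`, with non-trivial intersection are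
equal. -/
theorem cyclicTI_of {G : Type u} [Group G] [Finite G]
    (h : ∀ (l k : ℕ), l.Prime → 2 ≤ k → ∀ x x' y : G, orderOf x = l ^ k → orderOf x' = l ^ k → y ≠ 1 →
      y ∈ Subgroup.zpowers x → y ∈ Subgroup.zpowers x' → Subgroup.zpowers x = Subgroup.zpowers x') :
    CyclicTI G := by
  intro H hH hpp g
  obtain ⟨l, k, hl, hk, hlk⟩ := (isPrimePow_nat_iff _).mp hpp
  set H' := H.map (MulAut.conj g).toMonoidHom with hH'
  have hcard : Nat.card H' = Nat.card H := Subgroup.card_map_of_injective (MulAut.conj g).injective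
  by_cases hb : H' ⊓ H = ⊥
  · exact Or.inr hb
  left
  rcases Nat.lt_or_ge k 2 with hk1 | hk2
  · haveI := Fact.mk hl
    have hc : Nat.card H = l := by rw [← hlk, show k = 1 by omega, pow_one]
    have hd : Nat.card (H' ⊓ H : Subgroup G) ∣ l := hc ▸ Subgroup.card_dvd_of_le inf_le_right
    rcases (Nat.dvd_prime hl).mp hd with e | e
    · exact absurd (Subgroup.card_eq_one.mp e) hb
    · have e1 : H' ⊓ H = H := Subgroup.eq_of_le_of_card_ge inf_le_right (by rw [hc, e])
      have e2 : H' ⊓ H = H' := Subgroup.eq_of_le_of_card_ge inf_le_left (by rw [hcard, hc, e])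
      exact e2.symm.trans e1
  obtain ⟨x, rfl⟩ := (Subgroup.isCyclic_iff_exists_zpowers_eq_top H).mp hH
  rw [Nat.card_zpowers] at hlk
  have hmap : H' = Subgroup.zpowers (g * x * g⁻¹) := by
    rw [hH', MonoidHom.map_zpowers]
    rfl
  rw [hmap] at hb ⊢
  obtain ⟨y, hy, hy1⟩ : ∃ y ∈ Subgroup.zpowers (g * x * g⁻¹) ⊓ Subgroup.zpowers x, y ≠ 1 := by
    by_contra hc
    push Not at hc
    exact hb ((Subgroup.eq_bot_iff_forall _).mpr hc)
  exact h l k hl hk2 _ x y ((orderOf_injective (MulAut.conj g).toMonoidHom (MulAut.conj g).injective x).trans hlk.symm)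
    hlk.symm hy1 hy.1 hy.2

/-- In a cyclic group two subgroups generated by elements of the same order coincide. -/
theorem zpowers_eq_of_cyclic {G : Type u} [Group G] [Finite G] {H : Subgroup G} (hH : IsCyclic H) {x x' : G}
    (hx : x ∈ H) (hx' : x' ∈ H) (ho : orderOf x' = orderOf x) : Subgroup.zpowers x = Subgroup.zpowers x' := by
  classical
  haveI := hH
  letI : Fintype H := Fintype.ofFinite H
  set F : Finset H := Finset.univ.filter fun a => a ^ orderOf x = 1
  have hF : F.card ≤ orderOf x := IsCyclic.card_pow_eq_one_le (orderOf_pos x)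
  let i : Subgroup.zpowers x → H := fun a => ⟨a, Subgroup.zpowers_le.mpr hx a.2⟩
  have hi : Function.Injective i := fun a b e => Subtype.ext (congrArg Subtype.val e :)
  letI : Fintype (Subgroup.zpowers x) := Fintype.ofFinite _
  have hpow : ∀ a : G, a ∈ Subgroup.zpowers x → a ^ orderOf x = 1 := fun a ha => by
    obtain ⟨n, rfl⟩ := Subgroup.mem_zpowers_iff.mp ha
    rw [← zpow_natCast, ← zpow_mul, mul_comm, zpow_mul, zpow_natCast, pow_orderOf_eq_one, one_zpow]
  have him : Finset.univ.image i = F := by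
    refine Finset.eq_of_subset_of_card_le (fun b hb => ?_) ?_
    · obtain ⟨a, -, rfl⟩ := Finset.mem_image.mp hb
      exact Finset.mem_filter.mpr ⟨Finset.mem_univ _, Subtype.ext (by rw [Subgroup.coe_pow]; exact hpow a a.2)⟩
    · rw [Finset.card_image_of_injective _ hi, Finset.card_univ, ← Nat.card_eq_fintype_card, Nat.card_zpowers]
      exact hF
  have hmem : (⟨x', hx'⟩ : H) ∈ Finset.univ.image i := by
    rw [him]
    exact Finset.mem_filter.mpr ⟨Finset.mem_univ _, Subtype.ext (by
      rw [Subgroup.coe_pow, Subgroup.coe_one, ← ho]; exact pow_orderOf_eq_one x')⟩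
  obtain ⟨a, -, ha⟩ := Finset.mem_image.mp hmem
  have hax : (a : G) = x' := congrArg Subtype.val ha
  have hle : Subgroup.zpowers x' ≤ Subgroup.zpowers x := Subgroup.zpowers_le.mpr (by rw [← hax]; exact a.2)
  exact (Subgroup.eq_of_le_of_card_ge hle (by rw [Nat.card_zpowers, Nat.card_zpowers, ho])).symm

theorem cyclicTI_psl (F : Type u) [Field F] [Fintype F] : CyclicTI PSL₂[F] := by
  obtain ⟨p, hp⟩ := CharP.exists F
  haveI := hp
  haveI : Fact p.Prime := ⟨(CharP.char_is_prime_or_zero F p).resolve_right (CharP.char_ne_zero_of_finite F p)⟩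
  have hP : p.Prime := Fact.out
  refine cyclicTI_of fun l k hl hk x x' y hx hx' hy hyx hyx' => ?_
  obtain ⟨g, rfl⟩ := DicksonFull.mk_surj x
  obtain ⟨g', rfl⟩ := DicksonFull.mk_surj x'
  obtain ⟨h, rfl⟩ := DicksonFull.mk_surj y
  -- the common element is semisimple
  have hne : PSL2.mk g ^ p ≠ 1 := fun e => by
    rcases (Nat.dvd_prime hP).mp (orderOf_dvd_of_pow_eq_one e) with h1 | h1 <;> rw [hx] at h1
    · exact absurd ((Nat.pow_eq_one.mp h1).resolve_right (by omega)) hl.ne_one
    · exact absurd (h1.symm ▸ hP) (Nat.Prime.not_prime_pow hk)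
  have hss : DicksonFull.SS p (PSL2.mk g) :=
    (DicksonFull.ss_iff p).mpr fun e => hne (DicksonFull.pow_eq_one_of_trace_sq p e)
  have hlp : l ≠ p := fun e => hss.2 (by rw [hx, ← e]; exact dvd_pow_self l (by omega))
  have hys : DicksonFull.SS p (PSL2.mk h) := by
    refine ⟨hy, fun hd => hlp ?_⟩
    have h1 : orderOf (PSL2.mk h) ∣ l ^ k := by
      exact (Subgroup.orderOf_dvd_natCard _ hyx).trans (dvd_of_eq (by rw [Nat.card_zpowers, hx]))
    exact ((Nat.prime_dvd_prime_iff_eq hP hl).mp (hP.dvd_of_dvd_pow (hd.trans h1))).symm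
  have hcomm : ∀ a : Matrix.SpecialLinearGroup (Fin 2) F, PSL2.mk h ∈ Subgroup.zpowers (PSL2.mk a) →
      PSL2.mk a ∈ DicksonFull.cT h := by
    intro a ha
    rw [DicksonFull.mem_cT]
    obtain ⟨n, hn⟩ := Subgroup.mem_zpowers_iff.mp ha
    rw [← map_zpow] at hn
    rcases DicksonFull.eq_or_neg hn with e | e <;> rw [e]
    · exact (Commute.self_zpow a n).eq
    · rw [mul_neg, neg_mul, (Commute.self_zpow a n).eq]
  exact zpowers_eq_of_cyclic (DicksonFull.isCyclic_cT ((DicksonFull.ss_iff p).mp hys)) (hcomm g hyx) (hcomm g' hyx')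
    (hx'.trans hx.symm)

theorem cyclicTI_j1 {G : Type u} [Group G] (h : Cfsg.Spor.IsoJ1 G) : CyclicTI G := by
  obtain ⟨e⟩ : Nonempty (G ≃* ↥Cfsg.Spor.J1) := h
  haveI : Finite ↥Cfsg.Spor.J1 := Nat.finite_of_card_ne_zero (by rw [J1.card_J1]; norm_num)
  haveI : Finite G := Finite.of_equiv _ e.symm.toEquiv
  refine cyclicTI_of fun l k hl hk x x' y hx _ _ _ _ => ?_
  exfalso
  obtain ⟨n, hn, hpow⟩ := J1.exists_exponent (e x).2
  have hd : l ^ 2 ∣ n := by
    refine (pow_dvd_pow l hk).trans ?_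
    rw [← hx, ← orderOf_injective e.toMonoidHom e.injective x]
    exact orderOf_dvd_of_pow_eq_one (Subtype.ext (by rw [Subgroup.coe_pow]; exact hpow))
  have hle : l ≤ 19 := by
    have h1 : l ∣ n := (dvd_pow_self l two_ne_zero).trans hd
    have h2 : n ≤ 19 ∧ 0 < n := by
      simp [J1.expo] at hn; omega
    exact (Nat.le_of_dvd h2.2 h1).trans h2.1
  have h4 := hl.two_le
  simp [J1.expo] at hn
  rcases hn with rfl | rfl | rfl | rfl | rfl | rfl <;> interval_cases l <;> first | (norm_num at hd; done) | (norm_num at hl; done)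

end CfsgLib.WalterUse.Ward
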