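import Cfsg.Agent.Lib.WalterUse.Ward.Columns

/-!
Ward's theory for the groups of the order of a small Ree group: the centraliser of an element of `Y` and the
conjugates of the torus elements.
-/

set_option autoImplicit false
set_option linter.unusedSectionVars false
set_option linter.style.haveILetI false

namespace CfsgLib.WalterUse.Ward

open CfsgLib.JankoThompson CfsgLib.WalterUse

universe u v

variable {G : Type u} [Group G] [Fintype G] {L : Type v} [Group L] [Fintype L] {C : Cfg G L}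

/-- The centraliser of a non-trivial element of `Y`. -/
theorem cent_Y {a : L} (ha : a ∈ C.D.Y) (ha1 : a ≠ 1) {g : G} (hg : Commute g (C.E a)) :
    ∃ (i j : Fin 2) (y₀ : L), y₀ ∈ C.D.Y ∧ g = aElt C.t C.E C.v i j y₀ := by
  classical
  set h' := g with hh'
  have hcom : Commute (C.E a) h' := hg.symm
  obtain ⟨kk, e, i₀, j₀, y₀, hy₀, hge⟩ := C.transporter h' 0 0 0 0 a ha a ha ha1 (by
    simp only [aElt, Fin.val_zero, pow_zero, one_mul]
    rw [← hcom.eq, mul_inv_cancel_right])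
  have hA : Commute (aElt C.t C.E C.v i₀ j₀ y₀) (C.E a) := by
    refine Commute.mul_left ((C.E_comm a).pow_left _) (Commute.map ?_ C.E)
    haveI := C.D.cycY
    letI := IsCyclic.commGroup (α := C.D.Y)
    exact Commute.mul_left ((C.v_comm a ha).pow_left _)
      (congrArg Subtype.val (mul_comm (⟨y₀, hy₀⟩ : C.D.Y) ⟨a, ha⟩))
  have hfix : C.σ ^ (kk : ℕ) * (C.w ^ (e : ℕ) * C.E a * (C.w ^ (e : ℕ))⁻¹) * (C.σ ^ (kk : ℕ))⁻¹ = C.E a := by
    have h1 : h' * C.E a * h'⁻¹ = C.E a := by rw [← hcom.eq, mul_inv_cancel_right]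
    rw [hge] at h1
    refine Eq.trans ?_ h1
    rw [show C.σ ^ (kk : ℕ) * C.w ^ (e : ℕ) * aElt C.t C.E C.v i₀ j₀ y₀ * C.E a *
        (C.σ ^ (kk : ℕ) * C.w ^ (e : ℕ) * aElt C.t C.E C.v i₀ j₀ y₀)⁻¹ =
      C.σ ^ (kk : ℕ) * (C.w ^ (e : ℕ) * (aElt C.t C.E C.v i₀ j₀ y₀ * C.E a * (aElt C.t C.E C.v i₀ j₀ y₀)⁻¹) *
        (C.w ^ (e : ℕ))⁻¹) * (C.σ ^ (kk : ℕ))⁻¹ by group, hA.eq, mul_inv_cancel_right]
  set a' : C.D.Y := ⟨a, ha⟩ with ha'
  have ha'1 : a' ≠ 1 := fun h => ha1 (congrArg Subtype.val h)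
  obtain ⟨h1, h2⟩ := C.α_fpf a' ha'1
  obtain ⟨d, hd, hwd⟩ : ∃ d : C.D.Y, ((e = 0 ∧ d = a') ∨ (e = 1 ∧ d = a'⁻¹)) ∧
      C.w ^ (e : ℕ) * C.E a * (C.w ^ (e : ℕ))⁻¹ = C.E d := by
    fin_cases e
    · exact ⟨_, Or.inl ⟨rfl, rfl⟩, by simp [ha']⟩
    · exact ⟨_, Or.inr ⟨rfl, rfl⟩, by simpa [ha'] using C.w_Y a ha⟩
  rw [hwd] at hfix
  have hsq : a'⁻¹ ≠ a' := fun h => ha'1 (by
    have hY : a' ^ C.D.y = 1 := by rw [← C.D.cardY]; exact pow_card_eq_one'
    exact eq_one_of_pow_coprime (m := 2) (by rw [pow_two]; exact mul_eq_one_iff_eq_inv.mpr h.symm) hY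
      (Nat.coprime_two_left.mpr C.D.hy))
  have hinj : ∀ c c' : C.D.Y, C.E c = C.E c' → c = c' := fun c c' h => Subtype.ext (C.E_inj h)
  have key : (kk = 0 ∧ e = 0) := by
    rcases hd with ⟨he, rfl⟩ | ⟨he, rfl⟩
    · refine ⟨?_, he⟩
      fin_cases kk <;> simp only [pow_zero, pow_one, one_mul, inv_one, mul_one] at hfix
      · rfl
      · exact absurd (hinj _ _ (by rw [← C.σ_Y]; exact hfix)) h1
      · rw [pow_two, show C.σ * C.σ * C.E a * (C.σ * C.σ)⁻¹ = C.σ * (C.σ * C.E (a' : L) * C.σ⁻¹) * C.σ⁻¹ by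
          rw [ha']; group, C.σ_Y, C.σ_Y] at hfix
        have h4 : C.α (C.α a') = a' := hinj _ _ hfix
        exact absurd (by simpa [C.α_cube] using (congrArg C.α h4).symm) h1
    · exfalso
      fin_cases kk <;> simp only [pow_zero, pow_one, one_mul, inv_one, mul_one] at hfix
      · exact hsq (hinj _ _ hfix)
      · rw [C.σ_Y] at hfix
        have h4 : C.α a'⁻¹ = a' := hinj _ _ hfix
        rw [map_inv, inv_eq_iff_eq_inv] at h4
        exact h2 h4
      · rw [pow_two, show C.σ * C.σ * C.E ((a'⁻¹ : C.D.Y) : L) * (C.σ * C.σ)⁻¹ =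
          C.σ * (C.σ * C.E ((a'⁻¹ : C.D.Y) : L) * C.σ⁻¹) * C.σ⁻¹ by group, C.σ_Y, C.σ_Y] at hfix
        have h4 : C.α (C.α a'⁻¹) = a' := hinj _ _ hfix
        refine h2 ?_
        have h5 := congrArg C.α h4
        rw [C.α_cube] at h5
        exact h5.symm
  rw [key.1, key.2, Fin.val_zero, Fin.val_zero, pow_zero, pow_zero, one_mul, one_mul] at hge
  exact ⟨i₀, j₀, y₀, hy₀, hge⟩

theorem Y_part {a : L} (ha : a ∈ C.D.Y) : a ^ C.D.y = 1 := by
  rw [← C.D.cardY]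
  exact congrArg Subtype.val (pow_card_eq_one' (G := C.D.Y) (x := ⟨a, ha⟩))

/-- An element of odd order of the centraliser of an element of `Y` lies over `Y`. -/
theorem cent_Y_odd {a : L} (ha : a ∈ C.D.Y) (ha1 : a ≠ 1) {g : G} (hg : Commute g (C.E a))
    (ho : g ^ C.D.y = 1) : ∃ y₀ ∈ C.D.Y, g = C.E y₀ := by
  obtain ⟨i, j, y₀, hy₀, hge⟩ := cent_Y ha ha1 hg
  refine ⟨y₀, hy₀, ?_⟩
  obtain ⟨k, hk⟩ := C.D.hy
  have hv2 : C.v * C.v = 1 := C.v_sq
  have hvp : ∀ e : Fin 2, (C.v ^ (e : ℕ)) ^ C.D.y = C.v ^ (e : ℕ) := fun e => by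
    rw [hk, pow_succ, pow_mul, ← pow_mul C.v, mul_comm (e : ℕ), pow_mul, pow_two, hv2, one_pow, one_pow, one_mul]
  have htp : ∀ e : Fin 2, (C.t ^ (e : ℕ)) ^ C.D.y = C.t ^ (e : ℕ) := fun e => by
    rw [hk, pow_succ, pow_mul, ← pow_mul C.t, mul_comm (e : ℕ), pow_mul, pow_two, C.t_sq, one_pow, one_pow, one_mul]
  have h : C.t ^ (i : ℕ) * C.E (C.v ^ (j : ℕ)) = 1 := by
    rw [hge, aElt, ((C.E_comm _).pow_left _).mul_pow, htp, ← map_pow, ((C.v_comm y₀ hy₀).pow_left _).mul_pow, hvp,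
      Y_part hy₀, mul_one] at ho
    exact ho
  fin_cases i <;> simp only [pow_zero, one_mul, pow_one] at h hge
  · rw [← map_one C.E] at h
    rw [hge, aElt, C.E_inj h]
    simp
  · exfalso
    exact C.tE_ne_E _ 1 (h.trans (map_one C.E).symm)

namespace Hyp

variable (H : Hyp C)
include H

theorem tor_z_G {g : G} (hg : IsTor C.D.z g) : ∃ c : G, ∃ k ∈ C.D.Z, k ≠ 1 ∧ c * g * c⁻¹ = C.E k :=
  H.isTor_z_conj hg

theorem tor_y_G {g : G} (hg : IsTor C.D.y g) : ∃ c : G, ∃ a ∈ C.D.Y, a ≠ 1 ∧ c * g * c⁻¹ = C.E a := by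
  obtain ⟨c, m, a, ha, ha1, hc⟩ := H.isTor_y_conj hg
  have hcomm : Commute (c * g * c⁻¹) (C.E a) := by
    rw [← hc]; exact commute_conj ((Commute.refl g).pow_right m) c
  obtain ⟨y₀, hy₀, he⟩ := cent_Y_odd ha ha1 hcomm (by rw [conj_pow, hg.2]; group)
  exact ⟨c, y₀, hy₀, fun e => hg.1 (conj_eq_one_iff.mp (by rw [he, e, map_one])), he⟩

theorem tor_z_L {x : L} (hx : IsTor C.D.z x) : ∃ c : L, c * x * c⁻¹ ∈ C.D.Z ∧ c * x * c⁻¹ ≠ 1 := by
  have hd : orderOf x ∣ C.D.z := orderOf_dvd_of_pow_eq_one hx.2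
  have hne : orderOf x ≠ 1 := fun e => hx.1 (orderOf_eq_one_iff.mp e)
  have hl := Nat.minFac_prime hne
  haveI := Fact.mk hl
  have hz : (orderOf x).minFac ∣ C.D.z := (Nat.minFac_dvd _).trans hd
  obtain ⟨m, hm⟩ := exists_pow_prime hl (Nat.minFac_dvd _)
  obtain ⟨c, hc⟩ := conj_into C.D.Z (by
    rw [C.D.cardZ, ← H.R.factorization_z hl hz]; exact H.factL_le _) hm
  refine ⟨c, H.R.zf.cent _ hc (fun e => ?_) _ (commute_conj ((Commute.refl x).pow_right m) c),
    fun e => hx.1 (conj_eq_one_iff.mp e)⟩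
  rw [conj_eq_one_iff.mp e, orderOf_one] at hm
  exact hl.one_lt.ne hm

theorem tor_y_L {x : L} (hx : IsTor C.D.y x) : ∃ c : L, c * x * c⁻¹ ∈ C.D.Y ∧ c * x * c⁻¹ ≠ 1 := by
  have hd : orderOf x ∣ C.D.y := orderOf_dvd_of_pow_eq_one hx.2
  have hne : orderOf x ≠ 1 := fun e => hx.1 (orderOf_eq_one_iff.mp e)
  have hl := Nat.minFac_prime hne
  haveI := Fact.mk hl
  have hy : (orderOf x).minFac ∣ C.D.y := (Nat.minFac_dvd _).trans hd
  have hl3 : (orderOf x).minFac ≠ 3 := fun e =>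
    H.R.three_not_torus (dvd_mul_of_dvd_left (dvd_mul_of_dvd_right (e ▸ hy) _) _)
  obtain ⟨m, hm⟩ := exists_pow_prime hl (Nat.minFac_dvd _)
  obtain ⟨c, hc⟩ := conj_into C.D.Y (by
    rw [C.D.cardY, ← H.R.factorization_y hl hy hl3]; exact H.factL_le _) hm
  have h1 : c * x ^ m * c⁻¹ ≠ 1 := fun e => by
    rw [conj_eq_one_iff.mp e, orderOf_one] at hm
    exact hl.one_lt.ne hm
  obtain ⟨y₀, hy₀, he⟩ := cent_Y_odd hc h1 (g := C.E (c * x * c⁻¹))
    ((commute_conj ((Commute.refl x).pow_right m) c).map C.E) (by rw [← map_pow, conj_pow, hx.2]; simp)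
  exact ⟨c, C.E_inj he ▸ hy₀, fun e => hx.1 (conj_eq_one_iff.mp e)⟩

open Classical in
/-- At most one involution commutes with an element of `Z`-type. -/
theorem inv_z {g : G} (hg : IsTor C.D.z g) :
    ((Cfg.invs G).filter fun i => Commute g i).card ≤ 1 := by
  classical
  obtain ⟨c, k, hk, hk1, hc⟩ := H.tor_z_G hg
  refine Finset.card_le_one_iff.mpr fun {i j} hi hj => ?_
  have key : ∀ i ∈ (Cfg.invs G).filter (fun i => Commute g i), c * i * c⁻¹ = C.t := by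
    intro i hi
    obtain ⟨hi1, hi2⟩ := Finset.mem_filter.mp hi
    obtain ⟨hii, hi0⟩ := Cfg.mem_invs.mp hi1
    have h1 : Commute (c * i * c⁻¹) (C.E k) := by rw [← hc]; exact commute_conj hi2.symm c
    have hsq : c * i * c⁻¹ * (c * i * c⁻¹) = 1 := by
      rw [show c * i * c⁻¹ * (c * i * c⁻¹) = c * (i * i) * c⁻¹ by group, hii]; group
    obtain ⟨s, e | e⟩ := C.cent _ (H.R.cent_Z hk hk1 h1)
    all_goals
      rw [e] at h1 hsq
      have hs : s ∈ C.D.Z := H.R.zf.cent k hk hk1 s (C.E_inj (by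
        rw [map_mul, map_mul]
        first
          | exact h1.eq
          | exact (by
              have := ((C.E_comm k).inv_left).mul_left h1
              rw [inv_mul_cancel_left] at this
              exact this.eq)))
      have hs2 : s * s = 1 := C.E_inj (by
        rw [map_mul, map_one]
        first
          | exact hsq
          | (rw [show C.t * C.E s * (C.t * C.E s) = C.t * (C.E s * C.t) * C.E s by group, ← (C.E_comm s).eq,
              ← mul_assoc, C.t_sq, one_mul] at hsq; exact hsq))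
      have hs1 : s = 1 := eq_one_of_pow_coprime (m := 2) (n := C.D.z) (by rw [pow_two]; exact hs2)
        (by rw [← C.D.cardZ]; exact congrArg Subtype.val (pow_card_eq_one' (G := C.D.Z) (x := ⟨s, hs⟩)))
        (Nat.coprime_two_left.mpr H.R.z_odd)
      rw [hs1, map_one] at e
      first
        | exact absurd (conj_eq_one_iff.mp e) hi0
        | rwa [mul_one] at e
  exact mul_left_cancel (mul_right_cancel ((key i hi).trans (key j hj).symm))

open Classical in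
/-- At most three involutions commute with an element of `Y`-type. -/
theorem inv_y {g : G} (hg : IsTor C.D.y g) :
    ((Cfg.invs G).filter fun i => Commute g i).card ≤ 3 := by
  classical
  obtain ⟨c, a, ha, ha1, hc⟩ := H.tor_y_G hg
  refine le_trans (Finset.card_le_card_of_injOn (fun i => c * i * c⁻¹) (t := ((Finset.univ : Finset (Fin 2 × Fin 2)).erase
    (0, 0)).image fun p => aElt C.t C.E C.v p.1 p.2 1) ?_ ?_) (Finset.card_image_le.trans (by simp))
  · intro i hi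
    obtain ⟨hi1, hi2⟩ := Finset.mem_filter.mp (Finset.mem_coe.mp hi)
    obtain ⟨hii, hi0⟩ := Cfg.mem_invs.mp hi1
    have h1 : Commute (c * i * c⁻¹) (C.E a) := by rw [← hc]; exact commute_conj hi2.symm c
    obtain ⟨e, f, y₀, hy₀, he⟩ := cent_Y ha ha1 h1
    have hsq : c * i * c⁻¹ * (c * i * c⁻¹) = 1 := by
      rw [show c * i * c⁻¹ * (c * i * c⁻¹) = c * (i * i) * c⁻¹ by group, hii]; group
    have hy1 : y₀ = 1 := by
      rw [he, aElt, ← pow_two, ((C.E_comm _).pow_left _).mul_pow, ← map_pow, ((C.v_comm y₀ hy₀).pow_left _).mul_pow,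
        ← pow_mul, ← pow_mul, mul_comm (e : ℕ), mul_comm (f : ℕ), pow_mul, pow_mul, pow_two C.t, C.t_sq, one_pow,
        one_mul, pow_two C.v, C.v_sq, one_pow, one_mul, ← map_one C.E] at hsq
      exact eq_one_of_pow_coprime (C.E_inj hsq) (Y_part hy₀) (Nat.coprime_two_left.mpr C.D.hy)
    simp only [Finset.coe_image, Finset.coe_erase, Set.mem_image, Set.mem_diff, Finset.coe_univ, Set.mem_univ, true_and,
      Set.mem_singleton_iff]
    refine ⟨(e, f), fun h0 => ?_, by rw [he, hy1]⟩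
    obtain ⟨rfl, rfl⟩ : e = 0 ∧ f = 0 := Prod.ext_iff.mp h0
    refine hi0 ((conj_eq_one_iff (a := c)).mp ?_)
    rw [he, hy1, aElt]
    simp
  · intro i _ j _ e
    exact mul_left_cancel (mul_right_cancel e)

end Hyp

end CfsgLib.WalterUse.Ward
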